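import Cfsg.Agent.Goldschmidt.RankTwo.NoFusion
import Cfsg.Agent.LFourType.CaseTwo

/-!
Rank two: `T K` has the coordinates of a Sylow 2-subgroup of `PSL(3, 4)` with neither side moved, so a side would be
normal. The configuration without a central bad involution does not occur.
-/

set_option autoImplicit false
set_option linter.unusedSectionVars false
set_option linter.style.haveILetI false

namespace Cfsg.Lib.Goldschmidt.RankTwo

open Subgroup Cfsg.Lib.Components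
open Cfsg.Lib.LFourType (Q Mo mm qa qm Coord)
open scoped commutatorElement

universe u

variable {G : Type u} [Group G] [Finite G] {S : Sylow 2 G} {A : Subgroup G}

theorem eq_of_mm_mi : ∀ p q : Mo, mm (LFourType.mi q) p = 0 → p = q := by decide +kernel

/-- The four group spanned by two commuting involutions, as a function on the codes. -/
def span2 (p q : G) : Q → G := ![1, p, q, p * q]

theorem span2_qa {p q : G} (hp : p * p = 1) (hq : q * q = 1) (hc : Commute p q) (a b : Q) :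
    span2 p q (qa a b) = span2 p q a * span2 p q b := by
  have e1 : q * p = p * q := hc.eq.symm
  have e2 : p * (p * q) = q := by rw [← mul_assoc, hp, one_mul]
  have e3 : q * (p * q) = p := by rw [← mul_assoc, e1, mul_assoc, hq, mul_one]
  have e4 : p * q * p = q := by rw [mul_assoc, e1, e2]
  have e5 : p * q * q = p := by rw [mul_assoc, hq, mul_one]
  have e6 : p * q * (p * q) = 1 := by rw [mul_assoc, e3, hp]
  fin_cases a <;> fin_cases b <;> simp [span2, qa, hp, hq, e1, e2, e3, e4, e5, e6]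

theorem span2_mem {H : Subgroup G} {p q : G} (hp : p ∈ H) (hq : q ∈ H) : ∀ a, span2 p q a ∈ H := by
  intro a; fin_cases a <;> simp [span2, hp, hq, mul_mem hp hq]

theorem span2_not_mem {p q : G} (hp : p ∉ A) (hq : q ∉ A) (hpq : p * q ∉ A) : ∀ a, a ≠ 0 → span2 p q a ∉ A := by
  intro a ha; fin_cases a <;> simp_all [span2]

theorem span2_one {p q : G} (hp : p ≠ 1) (hq : q ≠ 1) (hpq : p * q ≠ 1) : ∀ a, span2 p q a = 1 → a = 0 := by
  intro a ha; fin_cases a <;> simp_all [span2]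

namespace Dual

variable {x w : G} (P : Dual S A x w)
include P

theorem surj_K {t a : G} (ht : t ∈ Cs S x) (htA : t ∉ A) (ha : a ∈ A) : ∃ k ∈ Cs S w, ⁅t, k⁆ = a := by
  obtain ⟨p, hp, e⟩ : ∃ p ∈ Ns S x, ⁅t, p⁆ = a := by
    set f := P.big.psi ⟨t, P.big.T_le_N ht⟩
    have hr : f.range = ⊤ := by
      refine Subgroup.eq_top_of_card_eq _ (le_antisymm (Subgroup.card_le_card_group _) ?_)
      have h1 := f.ker.card_mul_index
      rw [Subgroup.index_ker, P.big.card_N] at h1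
      have h2 : Nat.card ↥f.ker ≤ 16 := by
        rw [← P.big.card16]
        refine Nat.card_le_card_of_injective (fun p : ↥f.ker => (⟨((p : ↥(Ns S x)) : G), P.big.mem_T (p : ↥(Ns S x)).2
          ht htA (commutatorElement_eq_one_iff_mul_comm.1 (congrArg Subtype.val (MonoidHom.mem_ker.1 p.2))).symm⟩ :
          ↥(Cs S x))) fun p q e => Subtype.ext (Subtype.ext (congrArg Subtype.val e :))
      have := Nat.mul_le_mul_right (Nat.card ↥f.range) h2
      rw [P.big.two.ctx.card]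
      omega
    obtain ⟨p, hp⟩ := MonoidHom.mem_range.1 (hr ▸ mem_top (⟨a, ha⟩ : ↥A))
    exact ⟨p, p.2, congrArg Subtype.val hp⟩
  obtain ⟨t', ht', k, hk, rfl⟩ := P.split hp
  refine ⟨k, hk, ?_⟩
  rw [← e, P.big.mul_right (P.big.T_le_N ht) (P.big.T_le_N ht') (P.K_le hk),
    commutatorElement_eq_one_iff_mul_comm.2 (P.big.T_comm ht ht').eq, one_mul]

/-- A basis adapted to the pairing. -/
structure Frame (S : Sylow 2 G) (A : Subgroup G) (x w y₁ y₂ v₁ v₂ c₁ c₂ : G) : Prop where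
  hy₁ : y₁ ∈ Cs S x
  hy₂ : y₂ ∈ Cs S x
  hv₁ : v₁ ∈ Cs S w
  hv₂ : v₂ ∈ Cs S w
  hc₁ : c₁ ∈ A
  hc₂ : c₂ ∈ A
  ya : y₁ ∉ A ∧ y₂ ∉ A ∧ y₁ * y₂ ∉ A
  va : v₁ ∉ A ∧ v₂ ∉ A ∧ v₁ * v₂ ∉ A
  ca : c₁ ≠ 1 ∧ c₂ ≠ 1 ∧ c₁ * c₂ ≠ 1
  e11 : ⁅y₁, v₁⁆ = c₁
  e21 : ⁅y₂, v₁⁆ = c₂
  e12 : ⁅y₁, v₂⁆ = c₂
  e22 : ⁅y₂, v₂⁆ = c₁ * c₂

theorem exists_frame : ∃ y₁ y₂ v₁ v₂ c₁ c₂, Frame S A x w y₁ y₂ v₁ v₂ c₁ c₂ := by
  obtain ⟨y₂, hy₂, hy₂A, hy12⟩ := P.exists_other P.big.x_mem P.big.card16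
  have hx := P.big.x_mem
  have hxA := P.big.max.1.2.1
  have hwK : w ∈ Cs S w := mem_Cs.2 ⟨P.inv_w.1, Commute.refl w⟩
  have nx := P.big.T_le_N hx
  have n2 := P.big.T_le_N hy₂
  have hwA := P.inv_w.2.1
  have mc : ∀ {p q}, p ∈ Ns S x → q ∈ Ns S x → ⁅p, q⁆ ∈ A := fun hp hq => P.big.comm_mem hp hq
  set c₁ := ⁅x, w⁆ with hc₁
  set c₂ := ⁅y₂, w⁆ with hc₂
  have h1 : c₁ ≠ 1 := P.pair_ne hx hxA hwK hwA
  have h2 : c₂ ≠ 1 := P.pair_ne hy₂ hy₂A hwK hwA
  have h12 : c₁ * c₂ ≠ 1 := by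
    rw [hc₁, hc₂, ← P.big.mul_left nx n2 P.mem]
    exact P.pair_ne (mul_mem hx hy₂) hy12 hwK hwA
  obtain ⟨v₂, hv₂, e12⟩ := P.surj_K hx hxA (mc n2 P.mem)
  have mv := P.K_le hv₂
  have hv₂A : v₂ ∉ A := fun e => h2 (by
    show ⁅y₂, w⁆ = 1
    rw [← e12]
    exact commutatorElement_eq_one_iff_mul_comm.2 (P.big.central e (P.big.T_le hx)).symm.eq)
  have sqA : ∀ {c}, c ∈ A → c * c = 1 := fun hc => P.big.two.ctx.min.sq _ hc
  have hne : c₁ ≠ c₂ := fun e => h12 (by rw [e]; exact sqA (mc n2 P.mem))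
  have hv12 : w * v₂ ∉ A := fun hA => hne (by
    have h := commutatorElement_eq_one_iff_mul_comm.2 (P.big.central hA (P.big.T_le hx)).symm.eq
    rw [P.big.mul_right nx P.mem mv, e12] at h
    rw [← mul_one c₁, ← sqA (mc n2 P.mem : c₂ ∈ A), ← mul_assoc]
    rw [show c₁ * c₂ = 1 from h, one_mul])
  refine ⟨x, y₂, w, v₂, c₁, c₂, hx, hy₂, hwK, hv₂, mc nx P.mem, mc n2 P.mem, ⟨hxA, hy₂A, hy12⟩,
    ⟨hwA, hv₂A, hv12⟩, ⟨h1, h2, h12⟩, rfl, rfl, e12, ?_⟩
  have hx2 : x * y₂ ∈ Cs S x := mul_mem hx hy₂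
  rcases four_cases P.big.two.ctx.card P.big.two.ctx.min.sq (mc nx P.mem) h1 (mc n2 P.mem) h2 hne.symm
    (mc n2 mv) with e | e | e | e
  · exact absurd e (P.pair_ne hy₂ hy₂A hv₂ hv₂A)
  · refine absurd ?_ (P.pair_ne hx2 hy12 (mul_mem hwK hv₂) hv12)
    rw [P.big.mul_left nx n2 (mul_mem P.mem mv), P.big.mul_right nx P.mem mv, P.big.mul_right n2 P.mem mv, e12, e,
      ← hc₁, ← hc₂, mul_assoc, ← mul_assoc c₂ c₂, sqA (mc n2 P.mem), one_mul, sqA (mc nx P.mem)]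
  · refine absurd ?_ (P.pair_ne hx2 hy12 hv₂ hv₂A)
    rw [P.big.mul_left nx n2 mv, e12, e, sqA (mc n2 P.mem)]
  · exact e

theorem false : False := by
  haveI : Fact (Nat.Prime 2) := ⟨Nat.prime_two⟩
  haveI := P.big.two.ctx.min.simple
  obtain ⟨y₁, y₂, v₁, v₂, c₁, c₂, F⟩ := P.exists_frame
  have hctx := P.big.two.ctx
  set fy := span2 y₁ y₂
  set fv := span2 v₁ v₂
  set fc := span2 c₁ c₂
  have hfy := span2_mem F.hy₁ F.hy₂
  have hfv := span2_mem F.hv₁ F.hv₂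
  have hfc := span2_mem F.hc₁ F.hc₂
  have ny := fun a => P.big.T_le_N (hfy a)
  have nv := fun a => P.K_le (hfv a)
  have ay : ∀ a b, fy (qa a b) = fy a * fy b := span2_qa (P.big.T_sq F.hy₁) (P.big.T_sq F.hy₂) (P.big.T_comm F.hy₁ F.hy₂)
  have av : ∀ a b, fv (qa a b) = fv a * fv b := span2_qa (P.K_sq F.hv₁) (P.K_sq F.hv₂) (P.K_comm F.hv₁ F.hv₂)
  have ac : ∀ a b, fc (qa a b) = fc a * fc b := span2_qa (hctx.min.sq _ F.hc₁) (hctx.min.sq _ F.hc₂) (hctx.comm F.hc₁ F.hc₂)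
  have hpair : ∀ a b, ⁅fy a, fv b⁆ = fc (qm a b) := by
    have hl : ∀ b, ⁅y₁, fv b⁆ = fc b ∧ ⁅y₂, fv b⁆ = fc (qm 2 b) := by
      have n1 := P.big.T_le_N F.hy₁
      have n2 := P.big.T_le_N F.hy₂
      have m1 := P.K_le F.hv₁
      have m2 := P.K_le F.hv₂
      have e : c₂ * (c₁ * c₂) = c₁ := by
        rw [(hctx.comm F.hc₁ F.hc₂).eq, ← mul_assoc, hctx.min.sq _ F.hc₂, one_mul]
      intro b
      fin_cases b <;> simp [fv, fc, span2, qm, F.e11, F.e12, F.e21, F.e22, P.big.mul_right n1 m1 m2,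
        P.big.mul_right n2 m1 m2, e]
    intro a b
    obtain ⟨h1, h2⟩ := hl b
    fin_cases a
    · simp [fy, fc, span2, qm]
      fin_cases b <;> rfl
    · simp only [fy, span2]
      show ⁅y₁, fv b⁆ = _
      rw [h1]
      fin_cases b <;> rfl
    · show ⁅y₂, fv b⁆ = _
      rw [h2]
      rfl
    · show ⁅y₁ * y₂, fv b⁆ = _
      rw [P.big.mul_left (P.big.T_le_N F.hy₁) (P.big.T_le_N F.hy₂) (nv b), h1, h2]
      show fc b * fc (qm 2 b) = _
      rw [← ac]
      fin_cases b <;> rfl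
  let e : Mo → G := fun p => fv p.2.1 * fy p.1 * fc p.2.2
  have hcS : ∀ (c : Q) {s : G}, s ∈ (S : Subgroup G) → Commute (fc c) s := fun c _ hs => P.big.central (hfc c) hs
  have e_mul : ∀ p q : Mo, e (mm p q) = e p * e q := by
    rintro ⟨a, b, c⟩ ⟨a', b', c'⟩
    show fv (qa b b') * fy (qa a a') * fc (qa (qa c c') (qm a b')) = fv b * fy a * fc c * (fv b' * fy a' * fc c')
    rw [av, ay, ac, ac]
    set k := ⁅fy a, fv b'⁆ with hk
    rw [← hpair, ← hk]
    have hkA : k ∈ A := P.big.comm_mem (ny a) (nv b')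
    have hsw : fy a * fv b' = fv b' * fy a * k := by
      rw [← (P.big.central hkA (mul_mem (mem_inf.1 (nv b')).1 (mem_inf.1 (ny a)).1)).eq, hk, commutatorElement_def,
        inv_eq_of_mul_eq_one_right (P.K_sq (hfv b'))]
      calc fy a * fv b' = fy a * fv b' * (fy a)⁻¹ * (fv b' * fv b') * fy a := by
            rw [P.K_sq (hfv b'), mul_one, inv_mul_cancel_right]
        _ = _ := by simp only [fy, fv, fc]; group
    calc fv b * fv b' * (fy a * fy a') * (fc c * fc c' * k)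
        = fv b * fv b' * fy a * (fy a' * k) * (fc c * fc c') := by
          rw [(hctx.comm (mul_mem (hfc c) (hfc c')) hkA).eq]; simp only [fy, fv, fc]; group
      _ = fv b * (fv b' * fy a * k) * (fy a' * (fc c * fc c')) := by
          rw [← (P.big.central hkA (mem_inf.1 (ny a')).1).eq]; simp only [fy, fv, fc]; group
      _ = fv b * (fy a * fv b') * fy a' * fc c * fc c' := by rw [← hsw]; simp only [fy, fv, fc]; group
      _ = fv b * fy a * (fv b' * fy a' * fc c) * fc c' := by simp only [fy, fv, fc]; group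
      _ = fv b * fy a * (fc c * (fv b' * fy a')) * fc c' := by
          rw [(hcS c (mul_mem (mem_inf.1 (nv b')).1 (mem_inf.1 (ny a')).1)).eq]
      _ = _ := by simp only [fy, fv, fc]; group
  have hone : ∀ p, e p = 1 → p = 0 := by
    rintro ⟨a, b, c⟩ hp
    have hp' : fv b * fy a * fc c = 1 := hp
    have hyc : fy a * fc c ∈ Cs S x := mul_mem (hfy a) (P.big.A_le (hfc c))
    have hb : fv b ∈ A := by
      refine P.inter ?_ (hfv b)
      rw [show fv b = (fy a * fc c)⁻¹ by rw [eq_inv_iff_mul_eq_one, ← mul_assoc]; exact hp']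
      exact inv_mem hyc
    obtain rfl : b = 0 := by_contra fun h => span2_not_mem F.va.1 F.va.2.1 F.va.2.2 b h hb
    have h0 : fv (0 : Q) = 1 := rfl
    rw [h0, one_mul] at hp'
    obtain rfl : a = 0 := by_contra fun h => span2_not_mem F.ya.1 F.ya.2.1 F.ya.2.2 a h (by
      rw [show span2 y₁ y₂ a = (fc c)⁻¹ from eq_inv_of_mul_eq_one_left hp']
      exact inv_mem (hfc c))
    have h1 : fy (0 : Q) = 1 := rfl
    rw [h1, one_mul] at hp'
    rw [span2_one F.ca.1 F.ca.2.1 F.ca.2.2 c hp']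
    rfl
  have hinj : Function.Injective e := fun p q hpq => by
    have h0 : e (mm (LFourType.mi q) p) = 1 := by
      rw [e_mul, hpq, ← e_mul, LFourType.mm_mi]
      show fv (0 : Q) * fy (0 : Q) * fc (0 : Q) = 1
      simp [fv, fy, fc, span2]
    exact eq_of_mm_mi _ _ (hone _ h0)
  have hmem : ∀ p, e p ∈ (S : Subgroup G) := fun p => mem_inf.1 (mul_mem (mul_mem (nv p.2.1) (ny p.1))
    (P.big.T_le_N (P.big.A_le (hfc p.2.2)))) |>.1
  have hrange : Set.range e = (S : Set G) := by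
    refine Set.eq_of_subset_of_ncard_le (by rintro _ ⟨p, rfl⟩; exact hmem p) ?_ (Set.toFinite _)
    rw [Set.ncard_range_of_injective hinj, ← Nat.card_coe_set_eq]
    exact le_of_eq ((congrArg (fun H : Subgroup G => Nat.card ↥H) P.S_eq.symm).trans P.big.card_N |>.trans
      (Nat.card_eq_fintype_card (α := Mo)).symm)
  let C : Coord G := ⟨S, e, e_mul, hinj, hrange⟩
  have hA : C.A ≤ Cs S x := by
    rintro _ ⟨p, hp, rfl⟩
    show fv p.2.1 * fy p.1 * fc p.2.2 ∈ _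
    rw [show fv p.2.1 = 1 by rw [show p.2.1 = 0 from hp]; rfl, one_mul]
    exact mul_mem (hfy _) (P.big.A_le (hfc _))
  have hB : C.B ≤ Cs S w := by
    rintro _ ⟨p, hp, rfl⟩
    show fv p.2.1 * fy p.1 * fc p.2.2 ∈ _
    rw [show fy p.1 = 1 by rw [show p.1 = 0 from hp]; rfl, mul_one]
    exact mul_mem (hfv _) (P.A_le_K (hfc _))
  have hZ : C.Z = A := Subgroup.eq_of_le_of_card_ge
    (fun z hz => P.inter (hA (C.Z_le_A hz)) (hB (C.Z_le_B hz))) (by rw [C.card_Z, hctx.card])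
  have hnm : ∀ {H : Subgroup G}, H ≤ (S : Subgroup G) → ∀ n ∈ normalizer (H : Set G), ∀ z ∈ A, z ∈ H →
      n * z * n⁻¹ ∈ A := fun hH n hn z hz hzH =>
    hctx.min.closed.2 z hz n (hH ((mem_normalizer_iff.1 hn z).1 hzH))
  have hFix : C.Fixed := by
    refine ⟨?_, ?_, ?_⟩
    · rintro ⟨n, hn, z, hz, hne⟩
      exact hne (hZ ▸ hnm C.A_le n hn z (hZ ▸ hz) (C.Z_le_A hz))
    · rintro ⟨n, hn, z, hz, hne⟩
      rw [C.swap_Z] at hz hne
      rw [C.swap_A] at hn
      exact hne (hZ ▸ hnm C.B_le n hn z (hZ ▸ hz) (C.Z_le_B hz))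
    · haveI : (Cfsg.oddCore G).Normal := Cfsg.Lib.Components.normal_of_mem_sSup_normal fun _ h => h.1
      refine (IsSimpleGroup.eq_bot_or_eq_top_of_normal _ inferInstance).resolve_right fun e => ?_
      have hodd := ZStarApps.odd_card_pPrimeCore (G := G)
      rw [show Cfsg.pPrimeCore 2 G = ⊤ from e, card_top] at hodd
      refine Nat.not_even_iff_odd.2 hodd (even_iff_two_dvd.2 ?_)
      exact dvd_trans (by norm_num : 2 ∣ 16) (C.card_A ▸ card_subgroup_dvd_card _)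
  have hN := hFix.A_normal
  rcases IsSimpleGroup.eq_bot_or_eq_top_of_normal C.A hN with h | h
  · have := C.card_A
    rw [h, card_bot] at this
    omega
  · exact hctx.min.nonab ⟨⟨fun a b => (C.A_comm (h.symm ▸ mem_top a) (h.symm ▸ mem_top b)).eq⟩⟩

end Dual

/-- Without a central bad involution there is no involution outside `A`. -/
theorem Two.false (h : Two S A) {z : G} (hz : Inv S A z) : False := by
  obtain ⟨x, hx⟩ := Two.exists_max hz
  obtain ⟨Y, r, d⟩ := h.exists_data hx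
  obtain ⟨x', b⟩ := d.exists_big h
  obtain ⟨w, P⟩ := b.exists_dual
  exact P.false

end Cfsg.Lib.Goldschmidt.RankTwo
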