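import Cfsg.Agent.Goldschmidt.Fusion
import Cfsg.Agent.S0516
import Cfsg.Agent.Lyons.Consumers.Main
import Cfsg.Agent.Lyons.Final
import Cfsg.Agent.InvolCalc.StronglyEmbedded
import Mathlib.FieldTheory.Finite.GaloisField

/-!
Rank two: all involutions of the Sylow subgroup lie in `A`.
-/

set_option autoImplicit false
set_option linter.unusedSectionVars false
set_option linter.style.haveILetI false

namespace Cfsg.Lib.Goldschmidt.RankTwo

open Subgroup

universe u

variable {G : Type u} [Group G] [Finite G] {S : Sylow 2 G} {A : Subgroup G}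

/-- A Sylow subgroup without involutions outside `A`. -/
theorem proper_of_rank_two (hm : Min S A) (hcard : Nat.card A = 4) (hcen : (S : Subgroup G) ≤ centralizer (A : Set G))
    (hall : ∀ y ∈ (S : Subgroup G), y * y = 1 → y ∈ A) : Proper A := by
  haveI : Fact (Nat.Prime 2) := ⟨Nat.prime_two⟩
  haveI := hm.simple
  have hinvol : ∀ s : ↥(S : Subgroup G), s * s = 1 → ∀ u : ↥(S : Subgroup G), Commute s u := fun s hs u =>
    Subtype.ext (mem_centralizer_iff.1 (hcen u.2) _ (hall s s.2 (congrArg Subtype.val hs)))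
  have hrank : Cfsg.PRankLE 2 2 G := by
    intro E hEc hE2
    have hp : IsPGroup 2 E := fun e => ⟨1, Subtype.ext (by rw [pow_one]; exact hE2 e e.2)⟩
    obtain ⟨R, hR⟩ := hp.exists_le_sylow
    obtain ⟨g, hg⟩ := MulAction.exists_smul_eq G R S
    have hmem : ∀ e : E, g * e * g⁻¹ ∈ A := fun e => by
      refine hall _ ?_ ?_
      · rw [← hg, Sylow.coe_subgroup_smul]
        exact ⟨e, hR e.2, rfl⟩
      · rw [_root_.conj_mul, ← pow_two (e : G), hE2 e e.2, mul_one, mul_inv_cancel]
    rw [show (2 : ℕ) ^ 2 = Nat.card A by rw [hcard]; rfl]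
    exact Nat.card_le_card_of_injective (fun e : E => (⟨g * e * g⁻¹, hmem e⟩ : A))
      fun p q e => Subtype.ext (mul_left_cancel (mul_right_cancel (congrArg Subtype.val e)))
  haveI : Fintype (GaloisField 2 4) := Fintype.ofFinite _
  have hF : Fintype.card (GaloisField 2 4) = 16 := by
    rw [← Nat.card_eq_fintype_card, GaloisField.card 2 4 (by norm_num)]; norm_num
  let P : Sylow 2 (Cfsg.PSU 3 (GaloisField 2 4) 4) := default
  rcases Cfsg.Agent.S0516.result hm.nonab hrank S hF P with ⟨n, hn, ⟨e⟩⟩ | hq | hw | ⟨⟨e⟩⟩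
  · exfalso
    haveI : NeZero n := ⟨by omega⟩
    let f : Option (ZMod n) → ↥(S : Subgroup G) := fun o => o.elim 1 fun i => e.symm (DihedralGroup.sr i)
    have hf : Function.Injective f := by
      rintro (_ | i) (_ | j) h <;> simp only [f, Option.elim] at h
      · rfl
      · rw [← map_one e.symm, e.symm.injective.eq_iff] at h
        rw [DihedralGroup.one_def] at h; cases h
      · rw [← map_one e.symm, e.symm.injective.eq_iff] at h
        rw [DihedralGroup.one_def] at h; cases h
      · simpa using e.symm.injective h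
    have hfA : ∀ o, ((f o : ↥(S : Subgroup G)) : G) ∈ A := by
      rintro (_ | i)
      · exact one_mem _
      · refine hall _ (SetLike.coe_mem _) (congrArg Subtype.val (?_ : f (some i) * f (some i) = 1))
        show e.symm _ * e.symm _ = 1
        rw [← map_mul, DihedralGroup.sr_mul_self, map_one]
    have hle := Nat.card_le_card_of_injective (fun o => (⟨_, hfA o⟩ : A))
      fun p q h => hf (Subtype.ext (congrArg Subtype.val h :))
    rw [hcard, Nat.card_eq_fintype_card, Fintype.card_option, ZMod.card] at hle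
    obtain ⟨k, hk⟩ := IsPGroup.iff_card.1 S.2
    rw [Nat.card_congr e.toEquiv, DihedralGroup.nat_card] at hk
    obtain rfl : n = 2 := by
      rcases (show n = 2 ∨ n = 3 by omega) with h | h
      · exact h
      · subst h
        have h3 : 3 ∣ 2 ^ k := ⟨2, by omega⟩
        exact absurd (Nat.Prime.dvd_of_dvd_pow Nat.prime_three h3) (by norm_num)
    refine hm.sylow ⟨⟨fun p q => e.injective ?_⟩⟩
    rw [map_mul, map_mul]
    exact (show ∀ u v : DihedralGroup 2, u * v = v * u by decide) _ _
  · exfalso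
    obtain ⟨n, hn, -, x, y, hx, hy, hxy⟩ := hq
    have hc := hinvol y ((pow_two y).symm.trans (orderOf_dvd_iff_pow_eq_one.1 hy.dvd)) x
    rw [hc.eq, mul_inv_cancel_right] at hxy
    have h1 : x ^ 1 = x ^ (2 ^ (n - 1) - 1) := by rw [pow_one]; exact hxy
    rw [pow_eq_pow_iff_modEq, hx] at h1
    obtain ⟨m, rfl⟩ : ∃ m, n = m + 3 := ⟨n - 3, by omega⟩
    have h4 : 4 ≤ 2 ^ (m + 2) := by
      rw [pow_add]; have := Nat.one_le_two_pow (n := m); omega
    have hlt : 2 ^ (m + 2) - 1 < 2 ^ (m + 3) := by rw [pow_succ 2 (m + 2)]; omega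
    have := Nat.ModEq.eq_of_lt_of_lt h1 (by rw [pow_succ 2 (m + 2)]; omega) (by simpa using hlt)
    simp at this
    omega
  · exfalso
    obtain ⟨n, hn, -, x, y, z, hx, -, hinf, hz, hzx⟩ := hw
    have hc := hinvol z ((pow_two z).symm.trans (orderOf_dvd_iff_pow_eq_one.1 hz.dvd)) x
    rw [hc.eq, mul_inv_cancel_right] at hzx
    rw [← hzx, inf_idem, zpowers_eq_bot] at hinf
    rw [hinf, orderOf_one] at hx
    have := Nat.one_lt_two_pow (show n ≠ 0 by omega)
    omega
  · obtain ⟨M, hM⟩ := Lyons.lyonsProp G S ((Lyons.Consumers.uFour_psu hF P).of_equiv e)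
    obtain ⟨t, ht⟩ := exists_prime_orderOf_dvd_card' 2 (even_iff_two_dvd.1 hM.2.1)
    rw [← Subgroup.orderOf_coe] at ht
    have htt : (t : G) * t = 1 := by rw [← pow_two, ← ht, pow_orderOf_eq_one]
    obtain ⟨R, hR⟩ := (IsPGroup.of_card (n := 1) (by rw [Nat.card_zpowers, ht, pow_one]) :
      IsPGroup 2 (zpowers (t : G))).exists_le_sylow
    obtain ⟨k, hk⟩ := MulAction.exists_smul_eq G R S
    have hkt : k * t * k⁻¹ ∈ A := hall _ (by rw [← hk, Sylow.coe_subgroup_smul]; exact ⟨t, hR (mem_zpowers _), rfl⟩)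
      (by rw [_root_.conj_mul, htt, mul_one, mul_inv_cancel])
    have hconj : ∀ a ∈ A, a ≠ 1 → k⁻¹ * a * k ∈ M ∧ orderOf (k⁻¹ * a * k) = 2 := fun a ha ha1 => by
      refine ⟨StrongEmb.centralizer_le hM ht t.2 (mem_centralizer_singleton_iff.2 ?_), ?_⟩
      · have := congrArg (fun z => k⁻¹ * z * k) (hm.comm a ha _ hkt)
        simpa [mul_assoc] using this
      · rw [show k⁻¹ * a * k = MulAut.conj k⁻¹ a by simp, MulEquiv.orderOf_eq]
        exact hm.ord_two ha ha1
    refine hm.proper_of_le (M := M.map (MulAut.conj k).toMonoidHom) ?_ fun a ha ha1 c hc => ?_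
    · intro h
      refine hM.1 (Subgroup.map_injective (f := (MulAut.conj k).toMonoidHom) (MulAut.conj k).injective ?_)
      rw [h, Subgroup.map_top_of_surjective _ (MulAut.conj k).surjective]
    · obtain ⟨h1, h2⟩ := hconj a ha ha1
      refine ⟨k⁻¹ * c * k, StrongEmb.centralizer_le hM h2 h1 (mem_centralizer_singleton_iff.2 ?_), by simp [mul_assoc]⟩
      have := congrArg (fun z => k⁻¹ * z * k) (mem_centralizer_singleton_iff.1 hc)
      simpa [mul_assoc] using this

end Cfsg.Lib.Goldschmidt.RankTwo
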