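import Cfsg.Agent.Goldschmidt.RankTwo.FactsProof
import Cfsg.Agent.Goldschmidt.RankTwo.Small
import Cfsg.Agent.Goldschmidt.RankTwo.NoLine

/-!
Rank two of Goldschmidt's theorem: the centralisers of the involutions of `A` generate a proper subgroup.
-/

set_option autoImplicit false
set_option linter.unusedSectionVars false

namespace Cfsg.Lib.Goldschmidt.RankTwo

open Subgroup

universe u

variable {G : Type u} [Group G] [Finite G]

/-- The facts hold in the minimal configuration. -/
theorem factsSpec : FactsSpec G := fun S A hm h4 => factsOf (S := S) ⟨hm, localSpec S A hm, h4⟩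

/-- R2: the branch `|A| = 4`. -/
theorem rankTwoSpec : RankTwoSpec G := by
  intro S A hm hloc h4
  have X : Ctx S A := ⟨hm, hloc, h4⟩
  have hF := factsOf X
  by_cases h0 : ∀ y ∈ (S : Subgroup G), y * y = 1 → y ∈ A
  · exact proper_of_rank_two hm h4 X.le_center h0
  push Not at h0
  obtain ⟨z, hz, hzz, hzA⟩ := h0
  by_cases hall : ∀ y ∈ (S : Subgroup G), y ∉ A → y * y = 1 → ∃ a ∈ A, ¬ Harmless A (a * y)
  swap
  · push Not at hall
    obtain ⟨y, hy, hyA, hyy, hgood⟩ := hall
    exact X.proper_of_harmless hy hyy hyA hgood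
  by_cases hcen : ∃ x, Inv S A x ∧ Cs S x = (S : Subgroup G)
  · obtain ⟨x, ⟨hx, hxA, hxx⟩, hxS⟩ := hcen
    obtain ⟨a, ha, hbad⟩ := hall x hx hxA hxx
    have hax : Commute a x := mem_centralizer_iff.1 (X.le_center hx) a ha
    refine X.proper_of_central hF hall (mul_mem (hm.le ha) hx) (fun e => hxA ?_)
      (by rw [hax.symm.mul_mul_mul_comm, hm.sq a ha, hxx, one_mul]) (fun s hs => ?_) hbad
    · simpa using mul_mem (inv_mem ha) e
    · exact (show Commute s a from (mem_centralizer_iff.1 (X.le_center hs) a ha).symm).mul_right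
        (mem_Cs.1 (hxS.symm ▸ hs)).2
  push Not at hcen
  exact (Two.false ⟨X, hF, hall, hcen⟩ ⟨hz, hzA, hzz⟩).elim

end Cfsg.Lib.Goldschmidt.RankTwo
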