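import Cfsg.Agent.Goldschmidt.RankTwo.Fixed

/-!
Rank two: moved components, and the retraction of `C(A)` onto `A` given by a split Sylow subgroup.
-/

set_option autoImplicit false
set_option linter.unusedSectionVars false
set_option linter.style.haveILetI false

namespace Cfsg.Lib.Goldschmidt.RankTwo

open Subgroup Cfsg.Lib.Components
open Cfsg.Lib.Walter (IsComp Oc)
open scoped commutatorElement

universe u

variable {G : Type u} [Group G] [Finite G] {S : Sylow 2 G} {A : Subgroup G}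

/-- The elements centralising `L` modulo `O(C(y))`. -/
abbrev CentL (y : G) (L : Subgroup G) : Subgroup G := PTerminal.Cent 2 (centralizer ({y} : Set G)) L

/-- An element cycling `A`. -/
def IsRot (A : Subgroup G) (r : G) : Prop := r ∈ normalizer (A : Set G) ∧ r ∉ centralizer (A : Set G)

/-- A complement `Y` of `A` in the Sylow subgroup. -/
structure Split (S : Sylow 2 G) (A Y : Subgroup G) : Prop where
  le : Y ≤ (S : Subgroup G)
  decomp : ∀ s ∈ (S : Subgroup G), ∃ v ∈ A, v⁻¹ * s ∈ Y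
  uniq : ∀ a ∈ A, a ∈ Y → a = 1

namespace Ctx

variable (h : Ctx S A)
include h

theorem rot_inv {r : G} (hr : IsRot A r) : IsRot A r⁻¹ :=
  ⟨inv_mem hr.1, fun e => hr.2 (inv_mem_iff.1 e)⟩

theorem rot_fix {r a : G} (hr : IsRot A r) (ha : a ∈ A) (hc : Commute r a) : a = 1 := by
  by_contra h1
  exact hr.2 (h.cent_of_fix hr.1 ha h1 (by rw [hc.eq, mul_inv_cancel_right]))

theorem exists_rot_comm {r b : G} (hr : IsRot A r) (hb : b ∈ A) : ∃ a ∈ A, r * a * r⁻¹ * a⁻¹ = b := by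
  let f : A → A := fun a => ⟨r * a * r⁻¹ * (a : G)⁻¹, mul_mem ((mem_normalizer_iff.1 hr.1 _).1 a.2) (inv_mem a.2)⟩
  have hf : Function.Injective f := fun a a' e => by
    have e' : r * a * r⁻¹ * (a : G)⁻¹ = r * a' * r⁻¹ * (a' : G)⁻¹ := congrArg Subtype.val e
    have hc : Commute r ((a'⁻¹ * a : A) : G) := by
      refine mul_inv_eq_iff_eq_mul.1 ?_
      have h1 : r * a' * r⁻¹ ∈ A := (mem_normalizer_iff.1 hr.1 _).1 a'.2
      calc r * ((a' : G)⁻¹ * a) * r⁻¹ = (r * a' * r⁻¹)⁻¹ * (r * a * r⁻¹ * (a : G)⁻¹) * a := by group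
        _ = (r * a' * r⁻¹)⁻¹ * (r * a' * r⁻¹ * (a' : G)⁻¹) * a := by rw [e']
        _ = _ := by simp only [Subgroup.coe_mul, Subgroup.coe_inv]; group
    exact (inv_mul_eq_one.1 (Subtype.ext (h.rot_fix hr (SetLike.coe_mem _) hc) : (a'⁻¹ * a : A) = 1)).symm
  obtain ⟨a, ha⟩ := (Finite.injective_iff_surjective.1 hf) ⟨b, hb⟩
  exact ⟨a, a.2, congrArg Subtype.val ha⟩

/-- Two elements cycling `A` agree on it up to inversion. -/
theorem two_rot {g g' : G} (hg : IsRot A g) (hg' : IsRot A g') :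
    g' * g⁻¹ ∈ centralizer (A : Set G) ∨ g' * g ∈ centralizer (A : Set G) := by
  obtain ⟨a, ha, ha1, -⟩ := h.ne_one_two (z := 1)
  have move : ∀ {q x : G}, IsRot A q → x ∈ A → x ≠ 1 → q * x * q⁻¹ ≠ x := fun hq hx hx1 e =>
    hx1 (h.rot_fix hq hx (mul_inv_eq_iff_eq_mul.1 e))
  set b := g * a * g⁻¹
  have hb : b ∈ A := (mem_normalizer_iff.1 hg.1 a).1 ha
  have hb1 : b ≠ 1 := fun e => ha1 (conj_eq_one_iff.1 e)
  have hba : b ≠ a := move hg ha ha1
  set c := g' * a * g'⁻¹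
  have hc : c ∈ A := (mem_normalizer_iff.1 hg'.1 a).1 ha
  rcases four_cases h.card h.min.sq ha ha1 hb hb1 hba hc with e | e | e | e
  · exact absurd (conj_eq_one_iff.1 e) ha1
  · exact absurd e (move hg' ha ha1)
  · left
    refine h.cent_of_fix (mul_mem hg'.1 (inv_mem hg.1)) hb hb1 ?_
    calc g' * g⁻¹ * b * (g' * g⁻¹)⁻¹ = g' * a * g'⁻¹ := by simp only [b]; group
      _ = b := e
  · right
    have hgb : g * b * g⁻¹ = a * b := by
      rcases four_cases h.card h.min.sq ha ha1 hb hb1 hba ((mem_normalizer_iff.1 hg.1 b).1 hb) with e' | e' | e' | e'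
      · exact absurd (conj_eq_one_iff.1 e') hb1
      · exfalso
        have hab : g * (a * b) * g⁻¹ = a * b := by
          rw [← _root_.conj_mul, e']; exact (h.comm hb ha).eq
        have hne : a * b ≠ 1 := fun e1 => hba (mul_left_cancel (e1.trans (h.min.sq a ha).symm))
        exact move hg (mul_mem ha hb) hne hab
      · exact absurd e' (move hg hb hb1)
      · exact e'
    have hg'b : g' * (a * b) * g'⁻¹ = b := by
      have hne : a * b ≠ 1 := fun e1 => hba (mul_left_cancel (e1.trans (h.min.sq a ha).symm))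
      rcases four_cases h.card h.min.sq ha ha1 hb hb1 hba ((mem_normalizer_iff.1 hg'.1 _).1 (mul_mem ha hb)) with
        e' | e' | e' | e'
      · exact absurd (conj_eq_one_iff.1 e') hne
      · exfalso
        have hab : g' * b * g'⁻¹ = b := by
          have h2 : b = a * (a * b) := by rw [← mul_assoc, h.min.sq a ha, one_mul]
          conv_lhs => rw [h2, ← _root_.conj_mul, e']
          show c * a = b
          rw [e, (h.comm ha hb).eq, mul_assoc, h.min.sq a ha, mul_one]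
        exact move hg' hb hb1 hab
      · exact e'
      · exact absurd e' (move hg' (mul_mem ha hb) hne)
    refine h.cent_of_fix (mul_mem hg'.1 hg.1) hb hb1 ?_
    calc g' * g * b * (g' * g)⁻¹ = g' * (g * b * g⁻¹) * g'⁻¹ := by group
      _ = b := by rw [hgb, hg'b]

/-- A retraction of `C(A)` onto `A`. -/
theorem exists_retraction {Y : Subgroup G} (hY : Split S A Y) :
    ∃ V : ↥(centralizer (A : Set G)) →* ↥A, ∀ a : G, ∀ ha : a ∈ A, V ⟨a, h.le_cent_self ha⟩ = ⟨a, ha⟩ := by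
  haveI : Fact (Nat.Prime 2) := ⟨Nat.prime_two⟩
  choose f hfA hfY using hY.decomp
  have key : ∀ (s : G) (hs : s ∈ (S : Subgroup G)) (v : G), v ∈ A → v⁻¹ * s ∈ Y → f s hs = v := by
    intro s hs v hv hvY
    have h1 : v⁻¹ * f s hs ∈ Y := by
      have := mul_mem hvY (inv_mem (hfY s hs))
      rwa [show v⁻¹ * s * ((f s hs)⁻¹ * s)⁻¹ = v⁻¹ * f s hs by group] at this
    exact (inv_mul_eq_one.1 (hY.uniq _ (mul_mem (inv_mem hv) (hfA s hs)) h1)).symm
  have hmul : ∀ (s t : G) (hs : s ∈ (S : Subgroup G)) (ht : t ∈ (S : Subgroup G)),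
      f (s * t) (mul_mem hs ht) = f s hs * f t ht := fun s t hs ht => by
    refine key _ _ _ (mul_mem (hfA _ hs) (hfA _ ht)) ?_
    have hc : Commute (f t ht)⁻¹ ((f s hs)⁻¹ * s) :=
      (show Commute (f t ht) _ from
        mem_centralizer_iff.1 (h.le_center (mul_mem (inv_mem (h.min.le (hfA _ hs))) hs)) _ (hfA _ ht)).inv_left
    have e : (f s hs * f t ht)⁻¹ * (s * t) = (f s hs)⁻¹ * s * ((f t ht)⁻¹ * t) := by
      rw [← mul_assoc ((f s hs)⁻¹ * s), ← hc.eq]; group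
    rw [e]
    exact mul_mem (hfY _ hs) (hfY _ ht)
  let φ : ↥(S.subtype h.le_center : Subgroup ↥(centralizer (A : Set G))) →* ↥A :=
    MonoidHom.mk' (fun s => ⟨f ((s : ↥(centralizer (A : Set G))) : G) s.2, hfA _ _⟩)
      fun s t => Subtype.ext (hmul _ _ s.2 t.2)
  letI : CommGroup ↥A := { (inferInstance : Group ↥A) with mul_comm := fun a b => Subtype.ext (h.comm a.2 b.2).eq }
  refine ⟨MonoidHom.transfer φ, fun a ha => ?_⟩
  have hcen : ∀ (k : ℕ) (g₀ : ↥(centralizer (A : Set G))),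
      g₀⁻¹ * (⟨a, h.le_cent_self ha⟩ : ↥(centralizer (A : Set G))) ^ k * g₀ = ⟨a, h.le_cent_self ha⟩ ^ k := by
    intro k g₀
    have hc : Commute g₀ (⟨a, h.le_cent_self ha⟩ : ↥(centralizer (A : Set G))) :=
      Subtype.ext (mem_centralizer_iff.1 g₀.2 a ha).symm
    rw [mul_assoc, ← (hc.pow_right k).eq, inv_mul_cancel_left]
  rw [MonoidHom.transfer_eq_pow φ _ fun k g₀ _ => hcen k g₀]
  have hpow : a ^ (S.subtype h.le_center : Subgroup ↥(centralizer (A : Set G))).index = a := by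
    obtain ⟨m, hm⟩ := Nat.odd_iff.2 (Nat.two_dvd_ne_zero.1 (S.subtype h.le_center).not_dvd_index)
    rw [hm, pow_succ, pow_mul, pow_two, h.min.sq a ha, one_pow, one_mul]
  refine Subtype.ext (key _ _ _ ha ?_)
  show a⁻¹ * a ^ _ ∈ Y
  rw [hpow, inv_mul_cancel]
  exact one_mem _

/-- Under `C(A)` no element moves by an element of `A`, up to odd order. -/
theorem no_shift {Y : Subgroup G} (hY : Split S A Y) {d b c o : G} (hd : d ∈ centralizer (A : Set G)) (hb : b ∈ A)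
    (hc : c ∈ centralizer (A : Set G)) (ho : o ∈ centralizer (A : Set G)) (hodd : Odd (orderOf o))
    (e : c * d * c⁻¹ = d * b * o) : b = 1 := by
  obtain ⟨V, hV⟩ := h.exists_retraction hY
  have hVo : V ⟨o, ho⟩ = 1 := by
    refine orderOf_eq_one_iff.1 (Nat.eq_one_of_dvd_coprimes (a := 2) (b := orderOf o)
      (Nat.coprime_two_left.2 hodd) (orderOf_dvd_of_pow_eq_one (by rw [pow_two]; exact Subtype.ext (h.min.sq _ (V ⟨o, ho⟩).2)))
      ((orderOf_map_dvd V _).trans (dvd_of_eq (Subgroup.orderOf_mk _ _))))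
  have hcoe : (⟨c, hc⟩ : ↥(centralizer (A : Set G))) * ⟨d, hd⟩ * ⟨c, hc⟩⁻¹ =
      ⟨d, hd⟩ * ⟨b, h.le_cent_self hb⟩ * ⟨o, ho⟩ := Subtype.ext e
  have e2 := congrArg V hcoe
  rw [map_mul, map_mul, map_inv, map_mul, map_mul, hV b hb, hVo, mul_one] at e2
  have hcomm : V ⟨c, hc⟩ * V ⟨d, hd⟩ = V ⟨d, hd⟩ * V ⟨c, hc⟩ := Subtype.ext (h.comm (SetLike.coe_mem _) (SetLike.coe_mem _)).eq
  rw [hcomm, mul_inv_cancel_right] at e2
  exact congrArg Subtype.val (left_eq_mul.1 e2)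

variable (hF : Facts A)
include hF

theorem moved_rot {y : G} {L : Subgroup G} (hy : y ∈ centralizer (A : Set G)) (hy2 : orderOf y = 2)
    (hm : MovedAt A y L) : ∃ r ∈ L, IsRot A r ∧ Commute r y := by
  obtain ⟨-, r, hrL, hr⟩ := hF.rot hy hy2 hm
  exact ⟨r, hrL, hr, mem_centralizer_singleton_iff.1 (hm.1.1 hrL)⟩

theorem le_moved {y : G} {L : Subgroup G} (hy : y ∈ centralizer (A : Set G)) (hy2 : orderOf y = 2)
    (hm : MovedAt A y L) : A ≤ L := fun b hb => by
  obtain ⟨hn, r, hrL, hr⟩ := hF.rot hy hy2 hm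
  obtain ⟨a, ha, rfl⟩ := h.exists_rot_comm hr hb
  rw [show r * a * r⁻¹ * a⁻¹ = r * (a * r⁻¹ * a⁻¹) by group]
  exact mul_mem hrL ((mem_normalizer_iff.1 (hn ha) _).1 (inv_mem hrL))

theorem moved_unique {y : G} {L L' : Subgroup G} (hy : y ∈ centralizer (A : Set G)) (hy2 : orderOf y = 2)
    (hm : MovedAt A y L) (hm' : MovedAt A y L') : L = L' := by
  haveI : Fact (Nat.Prime 2) := ⟨Nat.prime_two⟩
  by_contra hne
  exact hm.2 ((h.le_moved hF hy hy2 hm').trans (PTerminal.pcompOf_le_cent hm.1 hm'.1 hne))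

theorem cent_inf {y : G} {L : Subgroup G} (hy : y ∈ centralizer (A : Set G)) (hy2 : orderOf y = 2)
    (hm : MovedAt A y L) {a : G} (ha : a ∈ A) (hac : a ∈ CentL y L) : a = 1 := by
  obtain ⟨r, hrL, hr, -⟩ := h.moved_rot hF hy hy2 hm
  refine h.rot_fix hr ha (commutatorElement_eq_one_iff_mul_comm.1 ?_)
  have h1 : ⁅r, a⁆ ∈ Oc y := ((PTerminal.mem_cent hm.1.1).1 hac).2 r hrL
  have h2 : ⁅r, a⁆ ∈ A := mul_mem ((mem_normalizer_iff.1 hr.1 a).1 ha) (inv_mem ha)
  exact Cfsg.Lib.AltEightType.eq_one_of_odd_two (Cfsg.Lib.LFourType.odd_Oc y) h1 (h.min.sq _ h2)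

end Ctx

end Cfsg.Lib.Goldschmidt.RankTwo
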