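import Cfsg.Agent.Goldschmidt.RankTwo.Setting
import Cfsg.Agent.LFourType.Moved
import Cfsg.Agent.Coprime.SolvableBasics
import Cfsg.Agent.Components.Misc.CoreSeparatedFunctor
import Cfsg.Agent.OddChar.PF.OddOrder
import Mathlib.GroupTheory.Focal

/-!
Rank two: `C(a) = O(C(a)) N(A)`, `A` lies in the centre of the Sylow subgroup, and `N(A)` controls all fusion in it.
-/

set_option autoImplicit false
set_option linter.unusedSectionVars false
set_option linter.style.haveILetI false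

namespace Cfsg.Lib.Goldschmidt.RankTwo

open Subgroup Cfsg.Lib.Components
open Cfsg.Lib.Walter (IsComp Oc)
open scoped commutatorElement

universe u

variable {G : Type u} [Group G] [Finite G] {S : Sylow 2 G} {A : Subgroup G}

/-- The configuration of rank two. -/
structure Ctx (S : Sylow 2 G) (A : Subgroup G) : Prop where
  min : Min S A
  loc : Local A
  card : Nat.card A = 4

theorem odd_solvable {Y : Subgroup G} (h : Odd (Nat.card Y)) : Group.IsSolvable ↥Y :=
  Cfsg.Agent.PF.isSolvable_of_odd _ h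

/-- Two conjugates of `A` in one 2-subgroup are equal. -/
theorem conj_unique (hc : Cfsg.IsStronglyClosed A (S : Subgroup G)) {T : Subgroup G} (hT : IsPGroup 2 T) {g g' : G}
    (h1 : ∀ a ∈ A, g * a * g⁻¹ ∈ T) (h2 : ∀ a ∈ A, g' * a * g'⁻¹ ∈ T) : g'⁻¹ * g ∈ normalizer (A : Set G) := by
  haveI : Fact (Nat.Prime 2) := ⟨Nat.prime_two⟩
  obtain ⟨R, hR⟩ := hT.exists_le_sylow
  obtain ⟨k, hk⟩ := MulAction.exists_smul_eq G R S
  have hmap : ∀ r ∈ R, k * r * k⁻¹ ∈ (S : Subgroup G) := fun r hr => by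
    rw [← hk, Sylow.coe_subgroup_smul]; exact ⟨r, hr, rfl⟩
  have n1 : k * g ∈ normalizer (A : Set G) := mem_normalizer_of_le hc fun a ha => by
    rw [show k * g * a * (k * g)⁻¹ = k * (g * a * g⁻¹) * k⁻¹ by group]; exact hmap _ (hR (h1 a ha))
  have n2 : k * g' ∈ normalizer (A : Set G) := mem_normalizer_of_le hc fun a ha => by
    rw [show k * g' * a * (k * g')⁻¹ = k * (g' * a * g'⁻¹) * k⁻¹ by group]; exact hmap _ (hR (h2 a ha))
  rw [show g'⁻¹ * g = (k * g')⁻¹ * (k * g) by group]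
  exact mul_mem (inv_mem n2) n1

/-- Two conjugates of `A` in a subgroup `H` are conjugate under `H`. -/
theorem conj_within (hc : Cfsg.IsStronglyClosed A (S : Subgroup G)) {H : Subgroup G} {g g' : G}
    (h1 : ∀ a ∈ A, g * a * g⁻¹ ∈ H) (h2 : ∀ a ∈ A, g' * a * g'⁻¹ ∈ H) :
    ∃ e ∈ H, g'⁻¹ * e * g ∈ normalizer (A : Set G) := by
  haveI : Fact (Nat.Prime 2) := ⟨Nat.prime_two⟩
  have hA2 : IsPGroup 2 A := S.2.to_le hc.1
  have hin : ∀ x : G, (∀ a ∈ A, x * a * x⁻¹ ∈ H) → ∃ P : Sylow 2 ↥H, ∀ a ∈ A, ∀ h : x * a * x⁻¹ ∈ H,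
      (⟨x * a * x⁻¹, h⟩ : ↥H) ∈ (P : Subgroup ↥H) := fun x hx => by
    have hle : A.map (MulAut.conj x).toMonoidHom ≤ H := by
      rintro _ ⟨a, ha, rfl⟩; exact hx a ha
    obtain ⟨P, hP⟩ := ((hA2.map (MulAut.conj x).toMonoidHom).of_equiv (subgroupOfEquivOfLe hle).symm).exists_le_sylow
    exact ⟨P, fun a ha h => hP (show x * a * x⁻¹ ∈ A.map (MulAut.conj x).toMonoidHom from ⟨a, ha, rfl⟩)⟩
  obtain ⟨P, hP⟩ := hin g h1
  obtain ⟨P', hP'⟩ := hin g' h2
  obtain ⟨e, he⟩ := MulAction.exists_smul_eq (↥H) P P'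
  refine ⟨e, e.2, ?_⟩
  rw [mul_assoc]
  refine conj_unique hc (P'.2.map H.subtype) (fun a ha => ?_) fun a ha => ⟨_, hP' a ha (h2 a ha), rfl⟩
  refine ⟨e * ⟨g * a * g⁻¹, h1 a ha⟩ * e⁻¹, ?_, ?_⟩
  · rw [SetLike.mem_coe, ← he, Sylow.coe_subgroup_smul]
    exact ⟨_, hP a ha (h1 a ha), rfl⟩
  · show (e : G) * (g * a * g⁻¹) * (e : G)⁻¹ = _
    group

/-- The focal subgroup theorem in a simple group. -/
theorem focal_top_two [IsSimpleGroup G] (hna : ¬ IsMulCommutative G) {D : Subgroup G}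
    (hD : ∀ x ∈ (S : Subgroup G), ∀ g : G, g * x * g⁻¹ ∈ (S : Subgroup G) → x⁻¹ * (g * x * g⁻¹) ∈ D) :
    (S : Subgroup G) ≤ D := by
  haveI : Fact (Nat.Prime 2) := ⟨Nat.prime_two⟩
  have hc : _root_.commutator G = ⊤ :=
    (Normal.eq_bot_or_eq_top inferInstance).resolve_left fun hb => hna ⟨⟨fun a b => by
      refine commutatorElement_eq_one_iff_mul_comm.mp ?_
      rw [← mem_bot, ← hb]
      exact commutator_mem_commutator (mem_top a) (mem_top b)⟩⟩
  have := commutator_inf_eq_focalSubgroup S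
  rw [hc, top_inf_eq] at this
  rw [this, focalSubgroup_def, closure_le]
  rintro g ⟨hg, x, hx, u, rfl⟩
  have hu : u * x⁻¹ * u⁻¹ ∈ (S : Subgroup G) := by
    have := mul_mem (inv_mem hx) hg
    rwa [commutatorElement_def, show x⁻¹ * (x * u * x⁻¹ * u⁻¹) = u * x⁻¹ * u⁻¹ by group] at this
  have := hD x⁻¹ (inv_mem hx) u hu
  rwa [inv_inv, show x * (u * x⁻¹ * u⁻¹) = ⁅x, u⁆ by rw [commutatorElement_def]; group] at this

/-- The elements of a four group. -/
theorem four_cases (h4 : Nat.card A = 4) (hsq : ∀ a ∈ A, a * a = 1) {z w : G} (hz : z ∈ A) (hz1 : z ≠ 1)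
    (hw : w ∈ A) (hw1 : w ≠ 1) (hzw : w ≠ z) {a : G} (ha : a ∈ A) : a = 1 ∨ a = z ∨ a = w ∨ a = z * w := by
  by_contra hno
  push Not at hno
  obtain ⟨h0, h1, h2, h3⟩ := hno
  have hne : z * w ≠ 1 := fun e => hzw (mul_left_cancel (e.trans (hsq z hz).symm))
  let f : Fin 5 → A := ![1, ⟨z, hz⟩, ⟨w, hw⟩, ⟨z * w, mul_mem hz hw⟩, ⟨a, ha⟩]
  have hf : Function.Injective f := by
    intro i j e
    fin_cases i <;> fin_cases j <;> simp_all [f, Subtype.ext_iff, eq_comm]
  have := Nat.card_le_card_of_injective f hf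
  simp [h4] at this

namespace Ctx

variable (h : Ctx S A)
include h

theorem ne_one_two {z : G} : ∃ w ∈ A, w ≠ 1 ∧ w ≠ z := by
  by_contra hno
  push Not at hno
  have hle : A ≤ Subgroup.closure {z} := fun a ha => by
    by_cases h1 : a = 1
    · exact h1 ▸ one_mem _
    · exact (hno a ha h1) ▸ subset_closure rfl
  by_cases hz : z ∈ A
  · have h2 : Nat.card A ≤ 2 := by
      refine (card_le_of_le hle).trans ?_
      rw [← zpowers_eq_closure, Nat.card_zpowers]
      by_cases h1 : z = 1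
      · simp [h1]
      · rw [h.min.ord_two hz h1]
    rw [h.card] at h2
    omega
  · have h0 : A = ⊥ := (Subgroup.eq_bot_iff_forall A).2 fun a ha => by
      by_contra h1
      exact hz (hno a ha h1 ▸ ha)
    exact h.min.ne_bot h0

theorem moved_false {a : G} {L : Subgroup G} (hm : Moved A a L) : False := by
  obtain ⟨ha, ha1, hc, -⟩ := id hm
  have hZ : a ∈ ZA A a L := by
    refine ⟨ha, (PTerminal.mem_cent hc.1).2 ⟨mem_centralizer_singleton_iff.2 rfl, fun j hj => ?_⟩⟩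
    rw [commutatorElement_eq_one_iff_mul_comm.2 (mem_centralizer_singleton_iff.1 (hc.1 hj))]
    exact one_mem _
  have h2 : 2 ≤ Nat.card (ZA A a L) := by
    haveI : Nontrivial (ZA A a L) := ⟨⟨⟨a, hZ⟩, 1, fun e => ha1 (congrArg Subtype.val e)⟩⟩
    exact Finite.one_lt_card
  have h3 := Cfsg.Lib.KBal.card_mul_relIndex' (A := A) (B := ZA A a L) inf_le_left
  have h4 := h.loc.index hm
  have := Nat.mul_le_mul h2 h4
  rw [h3, h.card] at this
  omega

theorem cent_decomp {a g : G} (ha : a ∈ A) (ha1 : a ≠ 1) (hg : g ∈ centralizer ({a} : Set G)) :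
    ∃ o ∈ Oc a, ∃ n ∈ normalizer (A : Set G), n ∈ centralizer ({a} : Set G) ∧ g = o * n := by
  have hle := h.loc.generated ha ha1 hg
  have hbot : (⨆ L : {L : Subgroup G // Moved A a L}, (L : Subgroup G)) = ⊥ :=
    iSup_eq_bot.2 fun L => (h.moved_false L.2).elim
  rw [hbot, sup_bot_eq, Cfsg.Lib.Coprime.mem_sup_of_le_normalizer
    (inf_le_right.trans fun x hx => Cfsg.Lib.LFourType.Oc_normalized hx)] at hle
  obtain ⟨o, ho, n, hn, e⟩ := hle
  exact ⟨o, ho, n, hn.1, hn.2, e.symm⟩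

theorem le_center : (S : Subgroup G) ≤ centralizer (A : Set G) := by
  haveI : Fact (Nat.Prime 2) := ⟨Nat.prime_two⟩
  haveI := h.min.simple
  have hc := h.min.closed
  obtain ⟨z, hzA, hz1, hzS⟩ : ∃ z ∈ A, z ≠ 1 ∧ ∀ s ∈ (S : Subgroup G), Commute z s := by
    haveI : (A.subgroupOf (S : Subgroup G)).Normal := normal_subgroupOf_of_le_normalizer (sylow_le_normalizer hc)
    haveI : Group.IsNilpotent ↥(S : Subgroup G) := S.2.isNilpotent
    have hne : A.subgroupOf (S : Subgroup G) ≠ ⊥ := fun e => h.min.ne_bot (by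
      rw [← map_subgroupOf_eq_of_le hc.1, e, Subgroup.map_bot])
    obtain ⟨z, hz, hz1⟩ := (bot_or_exists_ne_one _).resolve_left
      (Cfsg.Lib.Coprime.inf_center_ne_bot (A.subgroupOf (S : Subgroup G)) hne)
    exact ⟨z, hz.1, fun e => hz1 (Subtype.ext e),
      fun s hs => (congrArg Subtype.val (mem_center_iff.1 hz.2 ⟨s, hs⟩)).symm⟩
  -- elements outside `C(A)` are not conjugate into it
  have key : ∀ x ∈ (S : Subgroup G), ∀ g : G, g * x * g⁻¹ ∈ (S : Subgroup G) →
      g * x * g⁻¹ ∈ centralizer (A : Set G) → x ∈ centralizer (A : Set G) := by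
    intro x hx g hgS hgA
    have hA' : ∀ a ∈ A, g⁻¹ * a * g⁻¹⁻¹ ∈ centralizer ({x} : Set G) := fun a ha => by
      refine mem_centralizer_singleton_iff.2 ?_
      have := congrArg (fun w => g⁻¹ * w * g) (mem_centralizer_iff.1 hgA a ha)
      simpa [mul_assoc] using this
    have hzx : z ∈ centralizer ({x} : Set G) := mem_centralizer_singleton_iff.2 (hzS x hx).eq
    -- a conjugate of `A` in `C(x)` containing `z`
    obtain ⟨b, hbx, hbz⟩ : ∃ b : G, (∀ a ∈ A, b * a * b⁻¹ ∈ centralizer ({x} : Set G)) ∧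
        ∀ a ∈ A, b * a * b⁻¹ ∈ centralizer ({z} : Set G) := by
      obtain ⟨T, hT⟩ := ((isPGroup_zpowers_of_pow_eq_one (p := 2)
        (show z ^ 2 = 1 by rw [pow_two]; exact h.min.sq z hzA)).of_equiv
          (subgroupOfEquivOfLe (zpowers_le.2 hzx)).symm).exists_le_sylow
      have hle : A.map (MulAut.conj g⁻¹).toMonoidHom ≤ centralizer ({x} : Set G) := by
        rintro _ ⟨a, ha, rfl⟩; exact hA' a ha
      obtain ⟨T', hT'⟩ := (((S.2.to_le hc.1).map (MulAut.conj g⁻¹).toMonoidHom).of_equiv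
        (subgroupOfEquivOfLe hle).symm).exists_le_sylow
      obtain ⟨c, hcT⟩ := MulAction.exists_smul_eq (↥(centralizer ({x} : Set G))) T' T
      obtain ⟨R, hR⟩ := (T.2.map (centralizer ({x} : Set G)).subtype).exists_le_sylow
      obtain ⟨k, hk⟩ := MulAction.exists_smul_eq G R S
      have hmap : ∀ r ∈ R, k * r * k⁻¹ ∈ (S : Subgroup G) := fun r hr => by
        rw [← hk, Sylow.coe_subgroup_smul]; exact ⟨r, hr, rfl⟩
      have hB : ∀ a ∈ A, (c : G) * g⁻¹ * a * ((c : G) * g⁻¹)⁻¹ ∈ R := fun a ha => by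
        refine hR ⟨c * ⟨g⁻¹ * a * g⁻¹⁻¹, hA' a ha⟩ * c⁻¹, ?_, ?_⟩
        · rw [SetLike.mem_coe, ← hcT, Sylow.coe_subgroup_smul]
          exact ⟨_, hT' (show g⁻¹ * a * g⁻¹⁻¹ ∈ A.map (MulAut.conj g⁻¹).toMonoidHom from ⟨a, ha, rfl⟩), rfl⟩
        · show (c : G) * (g⁻¹ * a * g⁻¹⁻¹) * (c : G)⁻¹ = _
          group
      have hn : k * ((c : G) * g⁻¹) ∈ normalizer (A : Set G) := mem_normalizer_of_le hc fun a ha => by
        rw [show k * ((c : G) * g⁻¹) * a * (k * ((c : G) * g⁻¹))⁻¹ =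
          k * ((c : G) * g⁻¹ * a * ((c : G) * g⁻¹)⁻¹) * k⁻¹ by group]
        exact hmap _ (hB a ha)
      refine ⟨(c : G) * g⁻¹, fun a ha => ?_, fun a ha => ?_⟩
      · rw [show (c : G) * g⁻¹ * a * ((c : G) * g⁻¹)⁻¹ = c * (g⁻¹ * a * g⁻¹⁻¹) * (c : G)⁻¹ by group]
        exact mul_mem (mul_mem c.2 (hA' a ha)) (inv_mem c.2)
      · have hkz : k * z * k⁻¹ ∈ A := hc.2 z hzA k
          (hmap z (hR ⟨⟨z, hzx⟩, hT (mem_subgroupOf.2 (mem_zpowers z)), rfl⟩))
        have hb := (mem_normalizer_iff.1 hn a).1 ha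
        have := congrArg (fun w => k⁻¹ * w * k) (h.min.comm _ hb _ hkz)
        refine mem_centralizer_singleton_iff.2 ?_
        simpa [mul_assoc] using this
    obtain ⟨e, he, hn⟩ := conj_within hc hbz (g' := 1) (H := centralizer ({z} : Set G))
      fun a ha => by rw [one_mul, inv_one, mul_one]; exact h.min.le_cent hzA ha
    rw [inv_one, one_mul] at hn
    obtain ⟨o, ho, n, hnN, -, eq⟩ := h.cent_decomp hzA hz1 (inv_mem he)
    have hox : ∀ a ∈ A, o * a * o⁻¹ ∈ centralizer ({x} : Set G) := fun a ha => by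
      have ha' : (e * b)⁻¹ * (n⁻¹ * a * n) * (e * b) ∈ A :=
        (mem_normalizer_iff''.1 hn _).1 ((mem_normalizer_iff''.1 hnN a).1 ha)
      have := hbx _ ha'
      rwa [show b * ((e * b)⁻¹ * (n⁻¹ * a * n) * (e * b)) * b⁻¹ = e⁻¹ * n⁻¹ * a * (e⁻¹ * n⁻¹)⁻¹ by group,
        eq, show o * n * n⁻¹ * a * (o * n * n⁻¹)⁻¹ = o * a * o⁻¹ by group] at this
    have hxN := sylow_le_normalizer hc hx
    have hxO : x ∈ normalizer (Oc z : Set G) :=
      Cfsg.Lib.LFourType.Oc_normalized (mem_centralizer_singleton_iff.2 (hzS x hx).symm.eq)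
    set D := Oc z ⊓ normalizer (A : Set G)
    have hxD : zpowers x ≤ normalizer (D : Set G) :=
      zpowers_le.2 (Cfsg.Lib.Coprime.le_normalizer_inf (H := zpowers x) (zpowers_le.2 hxO)
        ((zpowers_le.2 hxN).trans le_normalizer) (mem_zpowers x))
    have hcop : (Nat.card (zpowers x)).Coprime (Nat.card D) := by
      obtain ⟨n, hn'⟩ := IsPGroup.iff_card.1 (S.2.to_le (zpowers_le.2 hx))
      rw [hn']
      exact (Nat.coprime_two_left.2 ((Cfsg.Lib.LFourType.odd_Oc z).of_dvd_nat (card_dvd_of_le inf_le_left))).pow_left n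
    obtain ⟨d, hd, hfix⟩ := Cfsg.Lib.Coprime.exists_fixed_in_coset hxD hcop
      (Or.inl (Group.isSolvable_of_comm fun p q => mul_comm' p q)) (k := o) fun y hy => by
      have hyS : y ∈ (S : Subgroup G) := zpowers_le.2 hx hy
      have hyx : Commute y x := by
        obtain ⟨i, rfl⟩ := mem_zpowers_iff.1 hy
        exact (Commute.refl x).zpow_left i
      refine mem_inf.2 ⟨?_, ?_⟩
      · rw [mul_assoc, mul_assoc, ← mul_assoc y]
        exact mul_mem (inv_mem ho) ((mem_normalizer_iff.1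
          (Cfsg.Lib.LFourType.Oc_normalized (mem_centralizer_singleton_iff.2 (hzS y hyS).symm.eq)) o).1 ho)
      · refine ZStarApps.mem_normalizer_of_maps fun a ha => ?_
        have hya : y⁻¹ * a * y ∈ A := (mem_normalizer_iff''.1 (sylow_le_normalizer hc hyS) a).1 ha
        have hyc : Commute y (o * (y⁻¹ * a * y) * o⁻¹) := by
          obtain ⟨i, rfl⟩ := mem_zpowers_iff.1 hy
          exact (show Commute x _ from (mem_centralizer_singleton_iff.1 (hox _ hya)).symm).zpow_left i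
        rw [show o⁻¹ * y * o * y⁻¹ * a * (o⁻¹ * y * o * y⁻¹)⁻¹ =
          o⁻¹ * (y * (o * (y⁻¹ * a * y) * o⁻¹) * y⁻¹) * o by group, hyc.eq, mul_inv_cancel_right,
          show o⁻¹ * (o * (y⁻¹ * a * y) * o⁻¹) * o = y⁻¹ * a * y by group]
        exact hya
    refine mem_centralizer_iff.2 fun a ha => ?_
    have hax : d * a * d⁻¹ ∈ A := (mem_normalizer_iff.1 hd.2 a).1 ha
    have h1 : Commute x (o * (d * a * d⁻¹) * o⁻¹) := (mem_centralizer_singleton_iff.1 (hox _ hax)).symm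
    have h2 : Commute x (o * d) := (mem_centralizer_iff.1 hfix x (mem_zpowers x))
    have := (h2.inv_right.mul_right h1).mul_right h2
    rw [show (o * d)⁻¹ * (o * (d * a * d⁻¹) * o⁻¹) * (o * d) = a by group] at this
    exact this.symm.eq
  have hmove : ∀ u ∈ (S : Subgroup G), u ∉ centralizer (A : Set G) → ∀ w ∈ A, w ≠ 1 → w ≠ z →
      u * w * u⁻¹ = z * w := by
    intro u hu hun w hw hw1 hwz
    have hm := (mem_normalizer_iff.1 (sylow_le_normalizer hc hu) w).1 hw
    have hfz : u * z * u⁻¹ = z := by rw [(hzS u hu).symm.eq, mul_inv_cancel_right]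
    rcases four_cases h.card h.min.sq hzA hz1 hw hw1 hwz hm with e | e | e | e
    · exact absurd (conj_eq_one_iff.1 e) hw1
    · exact absurd (mul_left_cancel (mul_right_cancel (e.trans hfz.symm))) hwz
    · refine absurd (mem_centralizer_iff.2 fun a ha => ?_) hun
      have hwu : Commute w u := (mul_inv_eq_iff_eq_mul.1 e).symm
      rcases four_cases h.card h.min.sq hzA hz1 hw hw1 hwz ha with e' | e' | e' | e' <;> rw [e']
      · simp
      · exact (hzS u hu).eq
      · exact hwu.eq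
      · exact ((hzS u hu).mul_left hwu).eq
    · exact e
  have htwo : ∀ u ∈ (S : Subgroup G), ∀ v ∈ (S : Subgroup G), u ∉ centralizer (A : Set G) →
      v ∉ centralizer (A : Set G) → u * v ∈ centralizer (A : Set G) := by
    intro u hu v hv hun hvn
    obtain ⟨w, hw, hw1, hwz⟩ := h.ne_one_two (z := z)
    have hfix : u * v * w * (u * v)⁻¹ = w := by
      rw [show u * v * w * (u * v)⁻¹ = u * (v * w * v⁻¹) * u⁻¹ by group, hmove v hv hvn w hw hw1 hwz,
        ← _root_.conj_mul, hmove u hu hun w hw hw1 hwz, (hzS u hu).symm.eq, mul_inv_cancel_right, ← mul_assoc,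
        h.min.sq z hzA, one_mul]
    refine mem_centralizer_iff.2 fun a ha => ?_
    have hwuv : Commute w (u * v) := (mul_inv_eq_iff_eq_mul.1 hfix).symm
    rcases four_cases h.card h.min.sq hzA hz1 hw hw1 hwz ha with e' | e' | e' | e' <;> rw [e']
    · simp
    · exact ((hzS u hu).mul_right (hzS v hv)).eq
    · exact hwuv.eq
    · exact (((hzS u hu).mul_right (hzS v hv)).mul_left hwuv).eq
  have hD : (S : Subgroup G) ≤ (S : Subgroup G) ⊓ centralizer (A : Set G) := by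
    refine focal_top_two h.min.nonab fun x hx g hg => ?_
    by_cases hxc : x ∈ centralizer (A : Set G)
    · have hyc : g * x * g⁻¹ ∈ centralizer (A : Set G) := key _ hg g⁻¹ (by simpa [mul_assoc] using hx)
        (by simpa [mul_assoc] using hxc)
      exact mem_inf.2 ⟨mul_mem (inv_mem hx) hg, mul_mem (inv_mem hxc) hyc⟩
    · refine mem_inf.2 ⟨mul_mem (inv_mem hx) hg, ?_⟩
      have hyc : g * x * g⁻¹ ∉ centralizer (A : Set G) := fun e => hxc (key x hx g hg e)
      exact htwo _ (inv_mem hx) _ hg (fun e => hxc (inv_mem_iff.1 e)) hyc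
  exact hD.trans inf_le_right

end Ctx

end Cfsg.Lib.Goldschmidt.RankTwo
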