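import Cfsg.Agent.Goldschmidt.RankTwo.Fixed
import Cfsg.Agent.S0217

/-!
Rank two: a coset of involutions without a bad element.
-/

set_option autoImplicit false
set_option linter.unusedSectionVars false
set_option linter.style.haveILetI false

namespace Cfsg.Lib.Goldschmidt.RankTwo

open Subgroup Cfsg.Lib.Components
open Cfsg.Lib.Walter (IsComp Oc)
open Cfsg.Lib.CoreSep (part)
open Cfsg.Lib.LFourType (odd_Oc Oc_normalized le_of_four')
open scoped commutatorElement

universe u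

variable {G : Type u} [Group G] [Finite G] {S : Sylow 2 G} {A : Subgroup G}

/-- The closure of a solvable functor on a subgroup of rank three has odd order. -/
theorem closure_odd {E : Subgroup G} (hE : Cfsg.IsElementaryAbelian 2 E) (h8 : 8 ≤ Nat.card E) {θ : G → Subgroup G}
    (hθ : Cfsg.IsSignalizerFunctor 2 E θ) (hodd : ∀ e ∈ E, e ≠ 1 → Odd (Nat.card (θ e))) :
    Odd (Nat.card ↥(⨆ e : {e : G // e ∈ E ∧ e ≠ 1}, θ e)) ∧
      ∀ e ∈ E, e ≠ 1 → (⨆ a : {e : G // e ∈ E ∧ e ≠ 1}, θ a) ⊓ centralizer {e} = θ e := by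
  haveI : Fact (Nat.Prime 2) := ⟨Nat.prime_two⟩
  haveI := hE.1
  obtain ⟨h1, h2⟩ := Cfsg.Agent.S0217.result E
    (fun a ha b hb => congrArg Subtype.val (IsMulCommutative.is_comm.comm (⟨a, ha⟩ : ↥E) ⟨b, hb⟩)) hE.2
    (by simpa using h8) θ hθ.1 hθ.2.1 hθ.2.2.1 (fun e he he1 => odd_solvable (hodd e he he1)) hθ.2.2.2
  exact ⟨Nat.not_even_iff_odd.1 fun h => h1 (even_iff_two_dvd.1 h), h2⟩

theorem not_dvd_of_odd {n : ℕ} (h : Odd n) : ¬ 2 ∣ n := fun h' => Nat.not_even_iff_odd.2 h (even_iff_two_dvd.2 h')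

namespace Ctx

variable (h : Ctx S A)
include h

section Adjoin

variable {x : G} (hx : x ∈ (S : Subgroup G)) (hsq : x * x = 1) (hxA : x ∉ A)
include hx hsq hxA

theorem adjoin_mem {e : G} (he : e ∈ A ⊔ zpowers x) : ∃ a ∈ A, e = a ∨ e = a * x := by
  have hn : zpowers x ≤ normalizer (A : Set G) := zpowers_le.2 (h.cent_le_normalizer (h.le_center hx))
  obtain ⟨a, ha, y, hy, rfl⟩ := (Cfsg.Lib.Coprime.mem_sup_of_le_normalizer hn).1 he
  obtain ⟨i, rfl⟩ := mem_zpowers_iff.1 hy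
  refine ⟨a, ha, ?_⟩
  rcases Int.even_or_odd i with ⟨j, rfl⟩ | ⟨j, rfl⟩
  · left; rw [zpow_add, ← (Commute.refl x).mul_zpow, hsq, one_zpow, mul_one]
  · right; rw [zpow_add, two_mul, zpow_add, ← (Commute.refl x).mul_zpow, hsq, one_zpow, one_mul, zpow_one]

theorem adjoin_cent : A ⊔ zpowers x ≤ centralizer (A : Set G) :=
  sup_le h.le_cent_self (zpowers_le.2 (h.le_center hx))

theorem adjoin_comm {p q : G} (hp : p ∈ A ⊔ zpowers x) (hq : q ∈ A ⊔ zpowers x) : Commute p q := by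
  have hcx : ∀ a ∈ A, Commute a x := fun a ha => mem_centralizer_iff.1 (h.le_center hx) a ha
  obtain ⟨a, ha, e⟩ := h.adjoin_mem hx hsq hxA hp
  obtain ⟨b, hb, e'⟩ := h.adjoin_mem hx hsq hxA hq
  rcases e with e | e <;> rcases e' with e' | e' <;> rw [e, e']
  · exact h.comm ha hb
  · exact (h.comm ha hb).mul_right (hcx a ha)
  · exact (h.comm ha hb).mul_left (hcx b hb).symm
  · exact ((h.comm ha hb).mul_right (hcx a ha)).mul_left ((hcx b hb).symm.mul_right (Commute.refl x))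

theorem adjoin_isElem : Cfsg.IsElementaryAbelian 2 (A ⊔ zpowers x) := by
  refine ⟨⟨⟨fun p q => Subtype.ext (h.adjoin_comm hx hsq hxA p.2 q.2).eq⟩⟩, fun e he => ?_⟩
  obtain ⟨a, ha, e'⟩ := h.adjoin_mem hx hsq hxA he
  rcases e' with e' | e' <;> rw [e', pow_two]
  · exact h.min.sq a ha
  · rw [(show Commute x a from (mem_centralizer_iff.1 (h.le_center hx) a ha).symm).mul_mul_mul_comm,
      h.min.sq a ha, one_mul, hsq]

theorem adjoin_card : Nat.card ↥(A ⊔ zpowers x) = 8 := by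
  have hx1 : x ≠ 1 := fun e => hxA (e ▸ one_mem A)
  have hn : zpowers x ≤ normalizer (A : Set G) := zpowers_le.2 (h.cent_le_normalizer (h.le_center hx))
  have hinf : A ⊓ zpowers x = ⊥ := by
    refine (Subgroup.eq_bot_iff_forall _).2 fun y hy => ?_
    obtain ⟨i, rfl⟩ := mem_zpowers_iff.1 hy.2
    rcases Int.even_or_odd i with ⟨j, rfl⟩ | ⟨j, rfl⟩
    · rw [zpow_add, ← (Commute.refl x).mul_zpow, hsq, one_zpow]
    · refine absurd ?_ hxA
      have := hy.1
      rwa [zpow_add, two_mul, zpow_add, ← (Commute.refl x).mul_zpow, hsq, one_zpow, one_mul, zpow_one] at this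
  rw [Cfsg.Lib.Coprime.card_sup_of_inf_eq_bot hn hinf, h.card, Nat.card_zpowers,
    orderOf_eq_prime (by rw [pow_two, hsq]) hx1]

/-- A coset of involutions without a bad element. -/
theorem proper_of_harmless (hgood : ∀ a ∈ A, Harmless A (a * x)) : Proper A := by
  haveI : Fact (Nat.Prime 2) := ⟨Nat.prime_two⟩
  set E := A ⊔ zpowers x
  set θ := fun e : G => part A e with hθdef
  have hEC : ∀ e ∈ E, e ∈ centralizer (A : Set G) := fun e he => h.adjoin_cent hx hsq hxA he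
  have hle : ∀ e ∈ E, θ e ≤ Oc e := fun e he => Cfsg.Lib.CoreSep.Pair.part_le (h.le_normalizer_Oc (hEC e he))
  have hEe : ∀ e ∈ E, E ≤ centralizer ({e} : Set G) := fun e he y hy =>
    mem_centralizer_singleton_iff.2 (h.adjoin_comm hx hsq hxA hy he).eq
  have hEn : ∀ e ∈ E, E ≤ normalizer (θ e : Set G) := fun e he y hy => by
    refine normalizer_inf_normalizer_le_normalizer_sup _ _ (mem_inf.2 ⟨?_, ?_⟩)
    · exact Cfsg.Lib.CommFixedGen.le_normalizer_commutator (X := E)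
        ((hEe e he).trans fun _ hz => Oc_normalized hz) ((h.adjoin_cent hx hsq hxA).trans (centralizer_le_normalizer _)) hy
    · exact Cfsg.Lib.Coprime.le_normalizer_inf (H := E) ((hEe e he).trans fun _ hz => Oc_normalized hz)
        ((h.adjoin_cent hx hsq hxA).trans (PTerminal.le_normalizer_core _)) hy
  have hodd : ∀ e ∈ E, e ≠ 1 → Odd (Nat.card (θ e)) := fun e he _ =>
    (odd_Oc e).of_dvd_nat (card_dvd_of_le (hle e he))
  have hfun : Cfsg.IsSignalizerFunctor 2 E θ := by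
    refine ⟨fun e he _ => (hle e he).trans (centralizerPPrimeCore_le_centralizer e),
      fun e he he1 => not_dvd_of_odd (hodd e he he1),
      fun e he _ b hb y hy => (mem_normalizer_iff.1 (hEn e he hb) y).1 hy, fun e he _ b hb hb1 => ?_⟩
    set D := θ e ⊓ centralizer {b}
    have hAD : A ≤ normalizer (D : Set G) := (le_sup_left : A ≤ E).trans
      (Cfsg.Lib.Coprime.le_normalizer_inf (hEn e he) ((hEe b hb).trans le_normalizer))
    have hoD : Odd (Nat.card D) :=
      (odd_Oc e).of_dvd_nat (card_dvd_of_le (inf_le_left.trans (hle e he)))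
    have hfix : D ⊓ centralizer (A : Set G) ≤ kappa A ⊓ centralizer {b} := fun y hy =>
      mem_inf.2 ⟨h.part_fixed (hEC e he) (mem_inf.2 ⟨hy.1.1, hy.2⟩), hy.1.2⟩
    refine h.sup_le_part hAD ?_ (hfix.trans inf_le_left)
    have hcop : (Nat.card A).Coprime (Nat.card D) := by
      rw [h.card, show (4 : ℕ) = 2 ^ 2 from rfl]
      exact (Nat.coprime_two_left.2 hoD).pow_left 2
    rw [← Cfsg.Lib.Coprime.commutator_sup_centralizer hAD hcop
      (Or.inl (Group.isSolvable_of_comm fun a b => Subtype.ext (h.comm a.2 b.2).eq))]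
    obtain ⟨a, ha, e'⟩ := h.adjoin_mem hx hsq hxA hb
    rcases e' with rfl | rfl
    · exact sup_le (h.comm_le ha hb1 inf_le_right) ((hfix.trans inf_le_left).trans (h.kappa_le_Oc ha hb1))
    · exact sup_le ((hgood a ha).1 D inf_le_right hAD hoD) (hfix.trans (hgood a ha).2)
  obtain ⟨hWodd, -⟩ := closure_odd (h.adjoin_isElem hx hsq hxA) (h.adjoin_card hx hsq hxA).ge hfun hodd
  set W := ⨆ e : {e : G // e ∈ E ∧ e ≠ 1}, θ e
  have hW : ∀ a ∈ A, a ≠ 1 → Oc a ≤ W := fun a ha ha1 =>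
    h.part_self ha ▸ le_iSup (fun e : {e : G // e ∈ E ∧ e ≠ 1} => θ e) ⟨a, mem_sup_left ha, ha1⟩
  by_cases hW1 : W = ⊥
  · haveI := h.min.simple
    refine h.proper_of_cores (M := ⊥) (fun e => ?_) fun a ha ha1 => hW1 ▸ hW a ha ha1
    exact h.min.nonab ⟨⟨fun p q => by
      have hp := (mem_bot.1 (e ▸ mem_top p : p ∈ (⊥ : Subgroup G)))
      rw [hp, one_mul, mul_one]⟩⟩
  · exact h.proper_of_odd hWodd hW1 fun a ha ha1 => (hW a ha ha1).trans le_normalizer

end Adjoin

end Ctx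

end Cfsg.Lib.Goldschmidt.RankTwo
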