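import Cfsg.Agent.Goldschmidt.RankTwo.Bad
import Cfsg.Agent.Goldschmidt.RankTwo.CaseB
import Cfsg.Agent.S1330
import Cfsg.Agent.InvolCalc.ZStarApps

/-!
Rank two: a bad involution in the centre of the Sylow subgroup. The pair of four-groups is core-separated.
-/

set_option autoImplicit false
set_option linter.unusedSectionVars false
set_option linter.style.haveILetI false

namespace Cfsg.Lib.Goldschmidt.RankTwo

open Subgroup Cfsg.Lib.Components
open Cfsg.Lib.Walter (IsComp Oc)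
open Cfsg.Lib.CoreSep (part coreC)
open Cfsg.Lib.LFourType (odd_Oc Oc_normalized le_of_four')
open scoped commutatorElement

universe u

variable {G : Type u} [Group G] [Finite G] {S : Sylow 2 G} {A : Subgroup G}

/-- The four group generated by two commuting involutions. -/
def fourGp {x d : G} (hx : x * x = 1) (hd : d * d = 1) (hc : Commute x d) : Subgroup G where
  carrier := {z | z = 1 ∨ z = x ∨ z = d ∨ z = x * d}
  one_mem' := Or.inl rfl
  mul_mem' := by
    have e1 : x * (x * d) = d := by rw [← mul_assoc, hx, one_mul]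
    have e2 : d * x = x * d := hc.eq.symm
    have e3 : d * (x * d) = x := by rw [← mul_assoc, e2, mul_assoc, hd, mul_one]
    have e4 : x * d * x = d := by rw [mul_assoc, e2, e1]
    have e5 : x * d * d = x := by rw [mul_assoc, hd, mul_one]
    have e6 : x * d * (x * d) = 1 := by rw [mul_assoc, e3, hx]
    rintro a b (ha | ha | ha | ha) (hb | hb | hb | hb) <;>
      simp only [Set.mem_setOf_eq, ha, hb, one_mul, mul_one, hx, hd, e1, e2, e3, e4, e5, e6] <;> tauto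
  inv_mem' := by
    have e6 : (x * d)⁻¹ = x * d := inv_eq_of_mul_eq_one_right (by
      rw [hc.symm.mul_mul_mul_comm, hx, hd, one_mul])
    rintro a (ha | ha | ha | ha) <;>
      simp only [Set.mem_setOf_eq, ha, inv_one, inv_eq_of_mul_eq_one_right hx, inv_eq_of_mul_eq_one_right hd,
        e6] <;> tauto

theorem mem_fourGp {x d : G} {hx : x * x = 1} {hd : d * d = 1} {hc : Commute x d} {z : G} :
    z ∈ fourGp hx hd hc ↔ z = 1 ∨ z = x ∨ z = d ∨ z = x * d := Iff.rfl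

theorem card_fourGp {x d : G} {hx : x * x = 1} {hd : d * d = 1} {hc : Commute x d} (hx1 : x ≠ 1) (hd1 : d ≠ 1)
    (hne : d ≠ x) : Nat.card ↥(fourGp hx hd hc) = 4 := by
  have h3 : x * d ≠ 1 := fun e => hne (mul_left_cancel (e.trans hx.symm))
  let f : Fin 4 → fourGp hx hd hc :=
    ![1, ⟨x, Or.inr (Or.inl rfl)⟩, ⟨d, Or.inr (Or.inr (Or.inl rfl))⟩, ⟨x * d, Or.inr (Or.inr (Or.inr rfl))⟩]
  have hf : Function.Bijective f := by
    refine ⟨fun i j e => ?_, ?_⟩
    · fin_cases i <;> fin_cases j <;> simp_all [f, Subtype.ext_iff, eq_comm]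
    · rintro ⟨z, hz | hz | hz | hz⟩
      · exact ⟨0, Subtype.ext hz.symm⟩
      · exact ⟨1, Subtype.ext hz.symm⟩
      · exact ⟨2, Subtype.ext hz.symm⟩
      · exact ⟨3, Subtype.ext hz.symm⟩
  rw [← Nat.card_eq_of_bijective f hf, Nat.card_fin]

namespace Ctx

variable (h : Ctx S A)
include h

theorem orderOf_two {x : G} (hsq : x * x = 1) (h1 : x ≠ 1) : orderOf x = 2 :=
  orderOf_eq_prime (by rw [pow_two, hsq]) h1

theorem cent_singleton_ne_top {x : G} (h1 : x ≠ 1) : centralizer ({x} : Set G) ≠ ⊤ := by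
  haveI := h.min.simple
  intro e
  have hxc : x ∈ center G := mem_center_iff.2 fun g => mem_centralizer_singleton_iff.1 (e ▸ mem_top g)
  rcases IsSimpleGroup.eq_bot_or_eq_top_of_normal (center G) inferInstance with e' | e'
  · exact h1 (mem_bot.1 (e' ▸ hxc))
  · exact h.min.nonab ⟨⟨fun a b => mem_center_iff.1 (e' ▸ mem_top b) a⟩⟩

theorem no_isolated {z : G} (hiso : Cfsg.IsIsolatedInvolution z) : False := by
  haveI : Fact (Nat.Prime 2) := ⟨Nat.prime_two⟩
  haveI := h.min.simple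
  haveI : (Cfsg.pPrimeCore 2 G).Normal := Cfsg.Lib.Components.normal_of_mem_sSup_normal fun _ h => h.1
  have hz1 : z ≠ 1 := fun e => by
    have := hiso.1
    rw [e, orderOf_one] at this
    omega
  have hO : Cfsg.pPrimeCore 2 G = ⊥ := by
    refine (IsSimpleGroup.eq_bot_or_eq_top_of_normal _ inferInstance).resolve_right fun e => ?_
    have hodd := ZStarApps.odd_card_pPrimeCore (G := G)
    rw [e, card_top] at hodd
    exact Nat.not_even_iff_odd.2 hodd (even_iff_two_dvd.2 (hiso.1 ▸ orderOf_dvd_natCard z))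
  refine h.cent_singleton_ne_top hz1 (eq_top_iff.2 fun g _ => mem_centralizer_singleton_iff.2 ?_)
  have hg := ZStarApps.zstarProp hiso g
  rw [hO, mem_bot, mul_inv_eq_one, mul_inv_eq_iff_eq_mul] at hg
  exact hg.symm

end Ctx

/-- A complement of `A` centralised by an element cycling `A`. -/
structure Rotated (S : Sylow 2 G) (A Y : Subgroup G) (r₀ : G) : Prop where
  split : Split S A Y
  rot : IsRot A r₀
  comm : ∀ y ∈ Y, Commute r₀ y

namespace Ctx

variable (h : Ctx S A)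
include h

/-- A core-separated companion of `A` suffices. -/
theorem proper_of_pair {F : Subgroup G} (hFcard : Nat.card ↥F = 4) (hFcomm : ∀ p ∈ F, ∀ q ∈ F, Commute p q)
    (hFsq : ∀ f ∈ F, f * f = 1) (hFA : F ≤ centralizer (A : Set G)) (hcs : Cfsg.IsCoreSeparated A F) :
    Proper A := by
  haveI : Fact (Nat.Prime 2) := ⟨Nat.prime_two⟩
  have hAF : ∀ a ∈ A, ∀ f ∈ F, Commute a f := fun a ha f hf => mem_centralizer_iff.1 (hFA hf) a ha
  obtain ⟨x, hxF, hx1⟩ := Cfsg.Lib.LFourType.exists_ne_one_of_card (H := F) (by rw [hFcard]; norm_num)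
  -- the functor
  have hfun := Cfsg.Agent.S1330.result A F hcs
  set θ := fun e : G => part A e ⊓ part F e
  have hEC : A ⊔ F ≤ centralizer (A : Set G) := sup_le h.le_cent_self hFA
  have hodd : ∀ e ∈ A ⊔ F, e ≠ 1 → Odd (Nat.card (θ e)) := fun e he he1 =>
    Nat.odd_iff.2 (Nat.two_dvd_ne_zero.1 (hfun.2.1 e he he1))
  have hE : Cfsg.IsElementaryAbelian 2 (A ⊔ F) := by
    have hP : Cfsg.Lib.CoreSep.Pair A F := ⟨hcs.1, hcs.2.1, h.card, hcs.2.2.2.2.2.2.1, hcs.2.2.2.2.2.2.2⟩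
    exact ⟨⟨⟨fun p q => Subtype.ext (hP.sup_comm p.2 q.2)⟩⟩, fun a ha => hP.sq ha⟩
  have h8 : 8 ≤ Nat.card ↥(A ⊔ F) := by
    rw [Cfsg.Lib.Coprime.card_sup_of_inf_eq_bot (hFA.trans (centralizer_le_normalizer _)) hcs.2.2.2.2.2.1,
      h.card, hFcard]
    norm_num
  obtain ⟨hWodd, hWc⟩ := closure_odd hE h8 hfun hodd
  set W := ⨆ e : {e : G // e ∈ A ⊔ F ∧ e ≠ 1}, θ e with hW
  have hFn : ∀ a ∈ A, F ≤ normalizer (Oc a : Set G) := fun a ha f hf =>
    Oc_normalized (mem_centralizer_singleton_iff.2 (hAF a ha f hf).symm.eq)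
  have hcop : ∀ a, (Nat.card F).Coprime (Nat.card (Oc a : Subgroup G)) := fun a => by
    rw [hFcard, show (4 : ℕ) = 2 ^ 2 from rfl]
    exact (Nat.coprime_two_left.2 (odd_Oc a)).pow_left 2
  have hsolF : Group.IsSolvable ↥F := Group.isSolvable_of_comm fun a b => Subtype.ext (hFcomm a a.2 b b.2).eq
  have hcomm : ∀ a ∈ A, a ≠ 1 → ⁅Oc a, F⁆ ≤ W := fun a ha ha1 =>
    (le_inf ((Cfsg.Lib.Coprime.commutator_le_of_le_normalizer (hFn a ha)).trans (h.part_self ha).ge) le_sup_left).trans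
      (le_iSup (fun e : {e : G // e ∈ A ⊔ F ∧ e ≠ 1} => θ e) ⟨a, mem_sup_left ha, ha1⟩)
  have hdec : ∀ a ∈ A, ⁅Oc a, F⁆ ⊔ (Oc a ⊓ centralizer (F : Set G)) = Oc a := fun a ha =>
    Cfsg.Lib.Coprime.commutator_sup_centralizer (hFn a ha) (hcop a) (Or.inl hsolF)
  by_cases hW1 : W = ⊥
  · refine h.proper_of_cores (M := centralizer ({x} : Set G)) (h.cent_singleton_ne_top hx1) fun a ha ha1 => ?_
    rw [← hdec a ha]
    refine sup_le ((hcomm a ha ha1).trans (hW1 ▸ bot_le)) (inf_le_right.trans ?_)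
    exact centralizer_le (Set.singleton_subset_iff.2 hxF)
  refine h.proper_of_odd hWodd hW1 fun a ha ha1 => ?_
  have hWn : A ⊔ F ≤ normalizer (W : Set G) := fun b hb => Cfsg.Lib.Sft.mem_normalizer_iSup _ fun e =>
    ZStarApps.mem_normalizer_of_maps (hfun.2.2.1 e e.2.1 e.2.2 b hb)
  have hWF : W = ⨆ f : {f : G // f ∈ F ∧ f ≠ 1}, θ f := by
    refine le_antisymm ?_ (iSup_le fun f =>
      le_iSup (fun e : {e : G // e ∈ A ⊔ F ∧ e ≠ 1} => θ e) ⟨f, mem_sup_right f.2.1, f.2.2⟩)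
    refine le_of_four' hFcard.ge hFcomm hFsq hWodd (le_sup_right.trans hWn) fun f hf hf1 => ?_
    exact (hWc f (mem_sup_right hf) hf1).le.trans
      (le_iSup (fun f : {f : G // f ∈ F ∧ f ≠ 1} => θ f) ⟨f, hf, hf1⟩)
  rw [← hdec a ha]
  refine sup_le ((hcomm a ha ha1).trans le_normalizer) ?_
  rw [hWF]
  intro g hg
  refine Cfsg.Lib.Sft.mem_normalizer_iSup _ fun f => ?_
  set D := Oc a ⊓ centralizer (F : Set G)
  have hDf : D ≤ centralizer ({(f : G)} : Set G) := inf_le_right.trans (centralizer_le (Set.singleton_subset_iff.2 f.2.1))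
  have hAD : A ≤ normalizer (D : Set G) := Cfsg.Lib.Coprime.le_normalizer_inf
    (h.le_normalizer_Oc (h.le_cent_self ha))
    ((show A ≤ centralizer (F : Set G) from fun b hb => mem_centralizer_iff.2 fun f' hf' =>
      (hAF b hb f' hf').symm.eq).trans le_normalizer)
  have h1 := h.le_normalizer_part (hFA f.2.1) hDf hAD ((odd_Oc a).of_dvd_nat (card_dvd_of_le inf_le_left)) hg
  refine Cfsg.Lib.Coprime.le_normalizer_inf (H := zpowers g) (zpowers_le.2 h1) ?_ (mem_zpowers g)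
  refine zpowers_le.2 (normalizer_inf_normalizer_le_normalizer_sup _ _ (mem_inf.2 ⟨?_, ?_⟩))
  · exact Cfsg.Lib.CommFixedGen.le_normalizer_commutator (X := D) (fun y hy => Oc_normalized (hDf hy))
      (inf_le_right.trans (centralizer_le_normalizer _)) hg
  · exact Cfsg.Lib.Coprime.le_normalizer_inf (H := D) (fun y hy => Oc_normalized (hDf hy))
      (inf_le_right.trans (Cfsg.Lib.CoreSep.centralizer_le_normalizer_coreC F)) hg

section Rotated

variable {Y : Subgroup G} {r₀ : G} (hR : Rotated S A Y r₀)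
include hR

theorem only_fixed {d a r' : G} (hd : d ∈ Y) (ha : a ∈ A) (hr' : IsRot A r') (hcr : Commute r' (a * d)) :
    a = 1 := by
  have hY := hR.split
  have hr₀ := hR.rot
  have hr₀Y := hR.comm
  obtain ⟨q, hqd, hq, hcq⟩ : ∃ q, Commute q d ∧ IsRot A q ∧ r' * q⁻¹ ∈ centralizer (A : Set G) := by
    rcases h.two_rot hr₀ hr' with hc | hc
    · exact ⟨r₀, hr₀Y d hd, hr₀, hc⟩
    · exact ⟨r₀⁻¹, (hr₀Y d hd).inv_left, h.rot_inv hr₀, by rwa [inv_inv]⟩
  set c := r' * q⁻¹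
  set a₁ := q * a * q⁻¹
  have ha₁ : a₁ ∈ A := (mem_normalizer_iff.1 hq.1 a).1 ha
  have e : c * d * c⁻¹ = d * (a₁⁻¹ * a) * 1 := by
    have e1 : c * a₁ * c⁻¹ = a₁ := by rw [← mem_centralizer_iff.1 hcq a₁ ha₁, mul_inv_cancel_right]
    have e2 : c * (a₁ * d) * c⁻¹ = a * d := by
      calc c * (a₁ * d) * c⁻¹ = r' * (a * (q⁻¹ * d * q)) * r'⁻¹ := by simp only [c, a₁]; group
        _ = r' * (a * d) * r'⁻¹ := by rw [mul_assoc q⁻¹, ← hqd.eq, inv_mul_cancel_left]
        _ = a * d := by rw [hcr.eq, mul_inv_cancel_right]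
    rw [← _root_.conj_mul, e1] at e2
    rw [mul_one, eq_inv_mul_of_mul_eq e2, ← mul_assoc,
      mem_centralizer_iff.1 (h.le_center (hY.le hd)) _ (mul_mem (inv_mem ha₁) ha)]
  have hb := h.no_shift hY (h.le_center (hY.le hd)) (mul_mem (inv_mem ha₁) ha) hcq (one_mem _)
    (by rw [orderOf_one]; exact odd_one) e
  exact h.rot_fix hq ha (mul_inv_eq_iff_eq_mul.1 (inv_mul_eq_one.1 hb))

theorem ord_shift {d a : G} (ha : a ∈ A) (hd : d ∈ Y) (hdd : d * d = 1) (hd1 : d ≠ 1) : orderOf (a * d) = 2 := by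
  have hY := hR.split
  have hYA : ∀ d ∈ Y, d ≠ 1 → d ∉ A := fun d hd hd1 hdA => hd1 (hY.uniq d hdA hd)
  refine h.orderOf_two ?_ fun e => hYA d hd hd1 ?_
  · rw [(show Commute d a from (mem_centralizer_iff.1 (h.le_center (hY.le hd)) a ha).symm).mul_mul_mul_comm,
      h.min.sq a ha, hdd, one_mul]
  · rw [eq_inv_of_mul_eq_one_right e]; exact inv_mem ha

variable (hF : Facts A)
include hF

theorem moved_fix {d a : G} {L : Subgroup G} (ha : a ∈ A) (hd : d ∈ Y) (hdd : d * d = 1) (hd1 : d ≠ 1)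
    (hm : MovedAt A (a * d) L) : a = 1 := by
  obtain ⟨r', -, hr', hc⟩ := h.moved_rot hF (mul_mem (h.le_cent_self ha) (h.le_center (hR.split.le hd)))
    (h.ord_shift hR ha hd hdd hd1) hm
  exact h.only_fixed hR hd ha hr' hc

theorem bad_mem (hall : ∀ y ∈ (S : Subgroup G), y ∉ A → y * y = 1 → ∃ a ∈ A, ¬ Harmless A (a * y))
    {d : G} (hd : d ∈ Y) (hdd : d * d = 1) (hd1 : d ≠ 1) : ¬ Harmless A d := by
  obtain ⟨a, ha, hb⟩ := hall d (hR.split.le hd) (fun hdA => hd1 (hR.split.uniq d hdA hd)) hdd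
  obtain ⟨L, hm, -⟩ := hF.bad (mul_mem (h.le_cent_self ha) (h.le_center (hR.split.le hd)))
    (h.ord_shift hR ha hd hdd hd1) hb
  rw [h.moved_fix hR hF ha hd hdd hd1 hm, one_mul] at hb
  exact hb

/-- A commuting element of `Y` centralises the component of a bad involution of `Y`. -/
theorem mem_centL {f y : G} {L : Subgroup G} (hf : f ∈ centralizer (A : Set G)) (hf2 : orderOf f = 2)
    (hm : MovedAt A f L) (hy : y ∈ Y)
    (hsp : ∃ v ∈ A, v⁻¹ * y ∈ CentL f L) : y ∈ CentL f L := by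
  obtain ⟨v, hv, hvc⟩ := hsp
  have hY := hR.split
  have hr₀ := hR.rot
  have hyC : y ∈ centralizer (A : Set G) := h.le_center (hY.le hy)
  obtain ⟨r', hr'L, hr', -⟩ := h.moved_rot hF hf hf2 hm
  have hv1 : v = 1 := by
    set o := ⁅r', v⁻¹ * y⁆ with ho
    have hoO : o ∈ Oc f := ((PTerminal.mem_cent hm.1.1).1 hvc).2 r' hr'L
    have hvy : v⁻¹ * y ∈ centralizer (A : Set G) := mul_mem (inv_mem (h.le_cent_self hv)) hyC
    have hoC : o ∈ centralizer (A : Set G) := by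
      refine mul_mem (mem_centralizer_iff.2 fun b hb => ?_) (inv_mem hvy)
      have hb' := mem_centralizer_iff.1 hvy _ ((mem_normalizer_iff''.1 hr'.1 b).1 hb)
      have := congrArg (fun w => r' * w * r'⁻¹) hb'
      simpa [mul_assoc] using this
    obtain ⟨q, hqy, hq, hcq⟩ : ∃ q, Commute q y ∧ IsRot A q ∧ r' * q⁻¹ ∈ centralizer (A : Set G) := by
      rcases h.two_rot hr₀ hr' with hc | hc
      · exact ⟨r₀, hR.comm y hy, hr₀, hc⟩
      · exact ⟨r₀⁻¹, (hR.comm y hy).inv_left, h.rot_inv hr₀, by rwa [inv_inv]⟩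
    set c := r' * q⁻¹
    set w := q * v⁻¹ * q⁻¹
    have hw : w ∈ A := (mem_normalizer_iff.1 hq.1 _).1 (inv_mem hv)
    have hwc : c * w * c⁻¹ = w := by rw [← mem_centralizer_iff.1 hcq w hw, mul_inv_cancel_right]
    have e1 : c * (w * y) * c⁻¹ = o * (v⁻¹ * y) := by
      calc c * (w * y) * c⁻¹ = r' * (v⁻¹ * (q⁻¹ * y * q)) * r'⁻¹ := by simp only [c, w]; group
        _ = r' * (v⁻¹ * y) * r'⁻¹ := by rw [mul_assoc q⁻¹, ← hqy.eq, inv_mul_cancel_left]
        _ = _ := by rw [ho, commutatorElement_def]; group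
    rw [← _root_.conj_mul, hwc] at e1
    have hodd : Odd (orderOf (y⁻¹ * o * y)) := by
      rw [show y⁻¹ * o * y = MulAut.conj y⁻¹ o by simp, MulEquiv.orderOf_eq]
      exact (odd_Oc f).of_dvd_nat (Subgroup.orderOf_dvd_natCard _ hoO)
    have hb : (w⁻¹ * v⁻¹ : G) ∈ A := mul_mem (inv_mem hw) (inv_mem hv)
    have e2 : c * y * c⁻¹ = y * (w⁻¹ * v⁻¹) * (y⁻¹ * o * y) := by
      have c1 : Commute (w⁻¹ * v⁻¹) y := mem_centralizer_iff.1 hyC _ hb
      have c2 : Commute v⁻¹ o := mem_centralizer_iff.1 hoC _ (inv_mem hv)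
      rw [eq_inv_mul_of_mul_eq e1, ← c1.eq,
        show w⁻¹ * v⁻¹ * y * (y⁻¹ * o * y) = w⁻¹ * (v⁻¹ * o) * y by group, c2.eq]
      group
    have hb1 := h.no_shift hY hyC hb hcq
      (mul_mem (mul_mem (inv_mem hyC) hoC) hyC) hodd e2
    have hwv : w = v⁻¹ := (inv_mul_eq_one.1 hb1)
    exact inv_eq_one.1 (h.rot_fix hq (inv_mem hv) (mul_inv_eq_iff_eq_mul.1 hwv))
  rwa [hv1, inv_one, one_mul] at hvc

theorem core_separated (hall : ∀ y ∈ (S : Subgroup G), y ∉ A → y * y = 1 → ∃ a ∈ A, ¬ Harmless A (a * y))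
    {F : Subgroup G} (hFY : F ≤ Y) (hFsq : ∀ f ∈ F, f * f = 1) (hFcomm : ∀ p ∈ F, ∀ q ∈ F, Commute p q)
    {e : G} (he : e ∈ A ⊔ F) (he1 : e ≠ 1) (E : Subgroup ↥(centralizer ({e} : Set G))) (hE : IsPComponent 2 E) :
    ⁅E.map (centralizer ({e} : Set G)).subtype, A⁆ ≤ Oc e ∨ ⁅E.map (centralizer ({e} : Set G)).subtype, F⁆ ≤ Oc e := by
  haveI : Fact (Nat.Prime 2) := ⟨Nat.prime_two⟩
  have hFA : F ≤ centralizer (A : Set G) := fun f hf => h.le_center (hR.split.le (hFY hf))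
  have hcomp : IsComp e (E.map (centralizer ({e} : Set G)).subtype) := ⟨map_subtype_le _, by
    rw [subgroupOf, comap_map_eq_self_of_injective (centralizer ({e} : Set G)).subtype_injective]; exact hE⟩
  by_cases hmv : A ≤ CentL e (E.map (centralizer ({e} : Set G)).subtype)
  · exact Or.inl ((commutator_mono le_rfl hmv).trans (PTerminal.commutator_cent_le hcomp.1))
  have hm : MovedAt A e (E.map (centralizer ({e} : Set G)).subtype) := ⟨hcomp, hmv⟩
  generalize E.map (centralizer ({e} : Set G)).subtype = L at hcomp hmv hm ⊢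
  obtain ⟨a, ha, f, hf, hef⟩ := (Cfsg.Lib.Coprime.mem_sup_of_le_normalizer
    (hFA.trans (centralizer_le_normalizer _))).1 he
  by_cases hf1 : f = 1
  · exfalso
    rw [hf1, mul_one] at hef
    exact h.moved_false ⟨hef ▸ ha, he1, hcomp, fun hz => hmv (hz.trans inf_le_right)⟩
  have hff := hFsq f hf
  have hm' := hm
  rw [← hef] at hm'
  have hfe : e = f := by rw [← hef, h.moved_fix hR hF ha (hFY hf) hff hf1 hm', one_mul]
  subst hfe
  right
  have hf2 := h.orderOf_two hff hf1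
  obtain ⟨L', hm'', hsp⟩ := hF.bad (hFA hf) hf2 (h.bad_mem hR hF hall (hFY hf) hff hf1)
  rw [← h.moved_unique hF (hFA hf) hf2 hm hm''] at hsp
  refine (commutator_mono le_rfl fun y hy => ?_).trans (PTerminal.commutator_cent_le hcomp.1)
  refine h.mem_centL hR hF (hFA hf) hf2 hm (hFY hy) (hsp y ?_ (hFA hy) ?_)
  · exact mem_centralizer_singleton_iff.2 (hFcomm y hy e hf).eq
  · by_cases hy1 : y = 1
    · exact ⟨0, by simp [hy1]⟩
    · exact ⟨1, by rw [pow_one]; exact h.orderOf_two (hFsq y hy) hy1⟩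

end Rotated

variable (hF : Facts A)
include hF

theorem exists_complement {x : G} (hx : x ∈ (S : Subgroup G)) (hxA : x ∉ A) (hsq : x * x = 1)
    (hbad : ¬ Harmless A x) :
    ∃ (Y : Subgroup G) (r₀ : G), (Y ≤ (S : Subgroup G) ⊓ centralizer ({x} : Set G) ∧
      (∀ s ∈ (S : Subgroup G) ⊓ centralizer ({x} : Set G), ∃ v ∈ A, v⁻¹ * s ∈ Y) ∧ (∀ a ∈ A, a ∈ Y → a = 1)) ∧
      IsRot A r₀ ∧ (∀ y ∈ Y, Commute r₀ y) ∧ x ∈ Y := by
  haveI : Fact (Nat.Prime 2) := ⟨Nat.prime_two⟩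
  have hx1 : x ≠ 1 := fun e => hxA (e ▸ one_mem A)
  have hxC := h.le_center hx
  have hx2 := h.orderOf_two hsq hx1
  obtain ⟨L, hm, hsplit⟩ := hF.bad hxC hx2 hbad
  set T := (S : Subgroup G) ⊓ centralizer ({x} : Set G) with hTdef
  set Y := T ⊓ CentL x L with hYdef
  have hTS : T ≤ (S : Subgroup G) := inf_le_left
  have hTx : T ≤ centralizer ({x} : Set G) := inf_le_right
  have hAT : A ≤ T := le_inf h.min.le fun a ha =>
    mem_centralizer_singleton_iff.2 (mem_centralizer_iff.1 hxC a ha)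
  have hY : Y ≤ T ∧ (∀ s ∈ T, ∃ v ∈ A, v⁻¹ * s ∈ Y) ∧ (∀ a ∈ A, a ∈ Y → a = 1) := by
    refine ⟨inf_le_left, fun s hs => ?_, fun a ha haY => h.cent_inf hF hxC hx2 hm ha haY.2⟩
    obtain ⟨k, hk⟩ := S.2 ⟨s, hTS hs⟩
    obtain ⟨j, -, hj⟩ := (Nat.dvd_prime_pow Nat.prime_two).1 (orderOf_dvd_of_pow_eq_one (congrArg Subtype.val hk))
    obtain ⟨v, hv, hvc⟩ := hsplit s (hTx hs) (h.le_center (hTS hs)) ⟨j, hj⟩
    exact ⟨v, hv, mem_inf.2 ⟨mul_mem (inv_mem (hAT hv)) hs, hvc⟩⟩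
  have hxY : x ∈ Y := mem_inf.2 ⟨mem_inf.2 ⟨hx, mem_centralizer_singleton_iff.2 rfl⟩, (PTerminal.mem_cent hm.1.1).2 ⟨mem_centralizer_singleton_iff.2 rfl, fun j hj => by
    rw [commutatorElement_eq_one_iff_mul_comm.2 (mem_centralizer_singleton_iff.1 (hm.1.1 hj))]
    exact one_mem _⟩⟩
  suffices hr : ∃ r, IsRot A r ∧ ∀ y ∈ Y, Commute r y by
    obtain ⟨r₀, h1, h2⟩ := hr
    exact ⟨Y, r₀, hY, h1, h2, hxY⟩
  obtain ⟨r, hrL, hr, -⟩ := h.moved_rot hF hxC hx2 hm
  set D := Oc x ⊓ normalizer (A : Set G)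
  have hYD : Y ≤ normalizer (D : Set G) := Cfsg.Lib.Coprime.le_normalizer_inf (H := Y)
    (fun y hy => Oc_normalized (hTx hy.1)) (((inf_le_left.trans hTS).trans (sylow_le_normalizer h.min.closed)).trans le_normalizer)
  have hcop : (Nat.card Y).Coprime (Nat.card D) := by
    obtain ⟨n, hn⟩ := IsPGroup.iff_card.1 (S.2.to_le ((inf_le_left : Y ≤ T).trans hTS))
    rw [hn]
    exact (Nat.coprime_two_left.2 ((odd_Oc x).of_dvd_nat (card_dvd_of_le inf_le_left))).pow_left n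
  haveI : Group.IsNilpotent ↥Y := (S.2.to_le ((inf_le_left : Y ≤ T).trans hTS)).isNilpotent
  obtain ⟨d, hd, hdc⟩ := Cfsg.Lib.Coprime.exists_fixed_in_coset hYD hcop (Or.inl inferInstance) (k := r)
    fun y hy => by
      refine mem_inf.2 ⟨?_, mul_mem (mul_mem (mul_mem (inv_mem hr.1) (sylow_le_normalizer h.min.closed (hTS hy.1))) hr.1)
        (inv_mem (sylow_le_normalizer h.min.closed (hTS hy.1)))⟩
      rw [show r⁻¹ * y * r * y⁻¹ = ⁅r⁻¹, y⁆ by simp [commutatorElement_def]]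
      exact ((PTerminal.mem_cent hm.1.1).1 hy.2).2 _ (inv_mem hrL)
  refine ⟨r * d, ⟨mul_mem hr.1 hd.2, fun e => hr.2 ?_⟩,
    fun y hy => (mem_centralizer_iff.1 hdc y hy).symm⟩
  have hdA : d ∈ centralizer (A : Set G) := mem_centralizer_iff.2 fun a ha => by
    have h1 : d * a * d⁻¹ * a⁻¹ ∈ Oc x := by
      rw [show d * a * d⁻¹ * a⁻¹ = d * (a * d⁻¹ * a⁻¹) by group]
      exact mul_mem hd.1 ((mem_normalizer_iff.1 (Oc_normalized (hTx (hAT ha))) _).1 (inv_mem hd.1))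
    have h2 : d * a * d⁻¹ * a⁻¹ ∈ A := mul_mem ((mem_normalizer_iff.1 hd.2 a).1 ha) (inv_mem ha)
    exact (mul_inv_eq_iff_eq_mul.1 (mul_inv_eq_one.1
      (Cfsg.Lib.AltEightType.eq_one_of_odd_two (odd_Oc x) h1 (h.min.sq _ h2)))).symm
  have := mul_mem e (inv_mem hdA)
  rwa [mul_inv_cancel_right] at this

theorem exists_rotated {x : G} (hx : x ∈ (S : Subgroup G)) (hxA : x ∉ A) (hsq : x * x = 1)
    (hcen : ∀ s ∈ (S : Subgroup G), Commute s x) (hbad : ¬ Harmless A x) :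
    ∃ Y r₀, Rotated S A Y r₀ ∧ x ∈ Y := by
  obtain ⟨Y, r₀, ⟨h1, h2, h3⟩, h4, h5, h6⟩ := h.exists_complement hF hx hxA hsq hbad
  exact ⟨Y, r₀, ⟨⟨h1.trans inf_le_left,
    fun s hs => h2 s (mem_inf.2 ⟨hs, mem_centralizer_singleton_iff.2 (hcen s hs).eq⟩), h3⟩, h4, h5⟩, h6⟩

/-- A bad involution in the centre of the Sylow subgroup. -/
theorem proper_of_central
    (hall : ∀ y ∈ (S : Subgroup G), y ∉ A → y * y = 1 → ∃ a ∈ A, ¬ Harmless A (a * y))
    {x : G} (hx : x ∈ (S : Subgroup G)) (hxA : x ∉ A) (hsq : x * x = 1)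
    (hcen : ∀ s ∈ (S : Subgroup G), Commute s x) (hbad : ¬ Harmless A x) : Proper A := by
  haveI : Fact (Nat.Prime 2) := ⟨Nat.prime_two⟩
  have hx1 : x ≠ 1 := fun e => hxA (e ▸ one_mem A)
  have hx2 := h.orderOf_two hsq hx1
  obtain ⟨Y, r₀, hR, hxY⟩ := h.exists_rotated hF hx hxA hsq hcen hbad
  have hY := hR.split
  have hr₀ := hR.rot
  have hr₀Y := hR.comm
  by_cases hrank : ∃ d ∈ Y, d * d = 1 ∧ d ≠ 1 ∧ d ≠ x
  swap
  · -- `x` is isolated
    push Not at hrank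
    have hkey : ∀ g : G, g * x * g⁻¹ ∈ (S : Subgroup G) → g * x * g⁻¹ = x := by
      intro g hg
      obtain ⟨n, hn, hne⟩ := h.fusion_all hx hg
      set s := g * x * g⁻¹ with hs
      obtain ⟨v, hv, hvY⟩ := hY.decomp s hg
      have hcv : Commute v⁻¹ s := (show Commute v s from mem_centralizer_iff.1 (h.le_center hg) v hv).inv_left
      have hss : v⁻¹ * s * (v⁻¹ * s) = 1 := by
        rw [hcv.symm.mul_mul_mul_comm, ← mul_inv_rev, h.min.sq v hv, inv_one, one_mul, hs, _root_.conj_mul, hsq,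
          mul_one, mul_inv_cancel]
      by_cases hy1 : v⁻¹ * s = 1
      · exfalso
        rw [inv_mul_eq_one] at hy1
        refine hxA ?_
        have := (mem_normalizer_iff''.1 hn s).1 (hy1 ▸ hv)
        rwa [← hne, show n⁻¹ * (n * x * n⁻¹) * n = x by group] at this
      have hy := hrank _ hvY hss hy1
      have hsv : s = v * x := by rw [← hy, mul_inv_cancel_left]
      have hv1 : v = 1 := by
        refine h.only_fixed hR hxY hv (r' := n * r₀ * n⁻¹) ⟨mul_mem (mul_mem hn hr₀.1) (inv_mem hn), fun e => hr₀.2 ?_⟩ ?_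
        · refine mem_centralizer_iff.2 fun a ha => ?_
          have := congrArg (fun w => n⁻¹ * w * n) (mem_centralizer_iff.1 e _ ((mem_normalizer_iff.1 hn a).1 ha))
          simpa [mul_assoc] using this
        · rw [← hsv, ← hne, Commute, SemiconjBy, _root_.conj_mul, _root_.conj_mul, (hr₀Y x hxY).eq]
      rw [hsv, hv1, one_mul]
    refine (h.no_isolated ⟨hx2, fun g hcm => ?_⟩).elim
    set w := g * x * g⁻¹ with hw
    have hp : IsPGroup 2 (zpowers x) := IsPGroup.of_card (n := 1) (by rw [Nat.card_zpowers, hx2, pow_one])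
    have hp' : IsPGroup 2 (zpowers w) := IsPGroup.of_card (n := 1)
      (by rw [Nat.card_zpowers, hw, show g * x * g⁻¹ = MulAut.conj g x from rfl, MulEquiv.orderOf_eq, hx2, pow_one])
    have hn : zpowers w ≤ normalizer ((zpowers x : Subgroup G) : Set G) := zpowers_le.2
      (centralizer_le_normalizer _ (mem_centralizer_iff.2 fun y hy => by
        obtain ⟨k, rfl⟩ := mem_zpowers_iff.1 hy
        exact (hcm.zpow_left k).eq))
    obtain ⟨R, hR⟩ := (hp.to_sup_of_normal_left' hp' hn).exists_le_sylow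
    obtain ⟨k, hk⟩ := MulAction.exists_smul_eq G R S
    have hmap : ∀ r ∈ R, k * r * k⁻¹ ∈ (S : Subgroup G) := fun r hr => by
      rw [← hk, Sylow.coe_subgroup_smul]
      exact ⟨r, hr, rfl⟩
    have h1 := hkey k (hmap x (hR (mem_sup_left (mem_zpowers x))))
    have e : k * (g * x * g⁻¹) * k⁻¹ = k * g * x * (k * g)⁻¹ := by group
    have h2 := hkey (k * g) (e ▸ hmap w (hR (mem_sup_right (mem_zpowers w))))
    exact mul_left_cancel (mul_right_cancel ((e.trans h2).trans h1.symm))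
  obtain ⟨d, hd, hdd, hd1, hdx⟩ := hrank
  have hcxd : Commute x d := (hcen d (hY.le hd)).symm
  set F := fourGp hsq hdd hcxd with hFdef
  have hFY : F ≤ Y := by
    rintro z (rfl | rfl | rfl | rfl)
    exacts [one_mem _, hxY, hd, mul_mem hxY hd]
  have hFsq : ∀ f ∈ F, f * f = 1 := by
    rintro f (rfl | rfl | rfl | rfl)
    exacts [one_mul 1, hsq, hdd, by rw [hcxd.symm.mul_mul_mul_comm, hsq, hdd, one_mul]]
  have hFcomm : ∀ p ∈ F, ∀ q ∈ F, Commute p q := by
    intro p hp q hq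
    have hc2 : ∀ z ∈ F, Commute z x ∧ Commute z d := by
      intro z hz
      rcases hz with e | e | e | e <;> rw [e]
      exacts [⟨Commute.one_left _, Commute.one_left _⟩, ⟨Commute.refl _, hcxd⟩, ⟨hcxd.symm, Commute.refl _⟩,
        ⟨(Commute.refl x).mul_left hcxd.symm, hcxd.mul_left (Commute.refl d)⟩]
    obtain ⟨h1, h2⟩ := hc2 p hp
    rcases hq with e | e | e | e <;> rw [e]
    exacts [Commute.one_right _, h1, h2, h1.mul_right h2]
  have hFA : F ≤ centralizer (A : Set G) := fun f hf => h.le_center (hY.le (hFY hf))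
  have hFcard : Nat.card ↥F = 4 := card_fourGp hx1 hd1 hdx
  refine h.proper_of_pair hFcard hFcomm hFsq hFA
    ⟨h.min.elemAb, ⟨⟨⟨fun p q => Subtype.ext (hFcomm p p.2 q q.2).eq⟩⟩, fun f hf => by
        rw [pow_two]; exact hFsq f hf⟩, h.card, hFcard, ?_, ?_,
      fun a ha f hf => mem_centralizer_iff.1 (hFA hf) a ha, ?_⟩
  · intro e
    exact hxA (e ▸ (Or.inr (Or.inl rfl) : x ∈ F))
  · exact (Subgroup.eq_bot_iff_forall _).2 fun z hz => hY.uniq z hz.1 (hFY hz.2)
  · exact fun e he he1 E hE => h.core_separated hR hF hall hFY hFsq hFcomm he he1 E hE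

end Ctx

end Cfsg.Lib.Goldschmidt.RankTwo
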