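import Cfsg.Agent.Goldschmidt.RankTwo.Max

/-!
Rank two: a maximal centraliser is `A × Y` with `Y` elementary of order at most four, and a 2-element of `C(A)`
shifts every involution of `Y` by an element of `A`.
-/

set_option autoImplicit false
set_option linter.unusedSectionVars false
set_option linter.style.haveILetI false

namespace Cfsg.Lib.Goldschmidt.RankTwo

open Subgroup Cfsg.Lib.Components
open scoped commutatorElement

universe u

variable {G : Type u} [Group G] [Finite G] {S : Sylow 2 G} {A : Subgroup G}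

/-- A maximal centraliser with a complement centralised by a rotation. -/
structure MaxData (S : Sylow 2 G) (A : Subgroup G) (x : G) (Y : Subgroup G) (r : G) : Prop where
  max : IsMax S A x
  le : Y ≤ Cs S x
  decomp : ∀ s ∈ Cs S x, ∃ v ∈ A, v⁻¹ * s ∈ Y
  uniq : ∀ a ∈ A, a ∈ Y → a = 1
  rot : IsRot A r
  comm : ∀ z ∈ Y, Commute r z
  bad : ∃ y ∈ Y, ∃ a ∈ A, y = a * x ∧ ¬ Harmless A y

/-- An element of `C(A)` acting on `T` by multiplication with elements of `A`. -/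
def IsShift (A T : Subgroup G) (u : G) : Prop :=
  u ∈ centralizer (A : Set G) ∧ u ∈ normalizer (T : Set G) ∧ ∀ t ∈ T, ⁅u, t⁆ ∈ A

theorem Ctx.rot_cases (h : Ctx S A) {r a b : G} (hr : IsRot A r) (ha : a ∈ A) (ha1 : a ≠ 1) (hb : b ∈ A) (hb1 : b ≠ 1) :
    b = a ∨ b = r * a * r⁻¹ ∨ b = r * (r * a * r⁻¹) * r⁻¹ := by
  have move : ∀ {x : G}, x ∈ A → x ≠ 1 → r * x * r⁻¹ ≠ x := fun hx hx1 e =>
    hx1 (h.rot_fix hr hx (mul_inv_eq_iff_eq_mul.1 e))
  set c := r * a * r⁻¹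
  have hc : c ∈ A := (mem_normalizer_iff.1 hr.1 a).1 ha
  have hc1 : c ≠ 1 := fun e => ha1 (conj_eq_one_iff.1 e)
  have hca : c ≠ a := move ha ha1
  have h3 : r * c * r⁻¹ = a * c := by
    rcases four_cases h.card h.min.sq ha ha1 hc hc1 hca ((mem_normalizer_iff.1 hr.1 c).1 hc) with e | e | e | e
    · exact absurd (conj_eq_one_iff.1 e) hc1
    · exfalso
      have hab : r * (a * c) * r⁻¹ = a * c := by
        rw [← _root_.conj_mul, e]; exact (h.comm hc ha).eq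
      exact move (mul_mem ha hc) (fun e1 => hca (mul_left_cancel (e1.trans (h.min.sq a ha).symm))) hab
    · exact absurd e (move hc hc1)
    · exact e
  rcases four_cases h.card h.min.sq ha ha1 hc hc1 hca hb with e | e | e | e
  · exact absurd e hb1
  · exact Or.inl e
  · exact Or.inr (Or.inl e)
  · exact Or.inr (Or.inr (e.trans h3.symm))

namespace MaxData

variable {x r : G} {Y : Subgroup G} (d : MaxData S A x Y r) (h : Two S A)
include d h

theorem T_le : Cs S x ≤ (S : Subgroup G) := inf_le_left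

theorem A_le : A ≤ Cs S x := h.le_Cs d.max.1.1

theorem cent {s : G} (hs : s ∈ Cs S x) : s ∈ centralizer (A : Set G) := h.ctx.le_center (d.T_le h hs)

theorem A_comm {a s : G} (ha : a ∈ A) (hs : s ∈ centralizer (A : Set G)) : Commute a s :=
  mem_centralizer_iff.1 hs a ha

theorem not_mem_A {z : G} (hz : z ∈ Y) (hz1 : z ≠ 1) : z ∉ A := fun e => hz1 (d.uniq z e hz)

theorem rot_shift {t : G} (ht : t ∈ Cs S x) : ⁅r, t⁆ ∈ A := by
  obtain ⟨v, hv, hvY⟩ := d.decomp t ht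
  rw [show t = v * (v⁻¹ * t) by group, Cfsg.Lib.CommFixedGen.comm_mul_right,
    commutatorElement_eq_one_iff_mul_comm.2 (d.comm _ hvY).eq, mul_one, mul_inv_cancel, mul_one]
  exact mul_mem ((mem_normalizer_iff.1 d.rot.1 v).1 hv) (inv_mem hv)

theorem rot_norm : r ∈ normalizer (Cs S x : Set G) := ZStarApps.mem_normalizer_of_maps fun t ht => by
  rw [show r * t * r⁻¹ = ⁅r, t⁆ * t by rw [commutatorElement_def]; group]
  exact mul_mem (d.A_le h (d.rot_shift h ht)) ht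

theorem rot_fix_mem {t : G} (ht : t ∈ Cs S x) (hc : Commute r t) : t ∈ Y := by
  obtain ⟨v, hv, hvY⟩ := d.decomp t ht
  have h1 : Commute r (t * (v⁻¹ * t)⁻¹) := hc.mul_right (d.comm _ hvY).inv_right
  rw [show t * (v⁻¹ * t)⁻¹ = v by group] at h1
  rwa [h.ctx.rot_fix d.rot hv h1, inv_one, one_mul] at hvY

theorem Y_comm {p q : G} (hp : p ∈ Y) (hq : q ∈ Y) : Commute p q := h.abelian d.max.1 (d.le hp) (d.le hq)

omit d in
theorem shift_mul_right {T : Subgroup G} {u s t : G} (hu : IsShift A T u) (hs : s ∈ centralizer (A : Set G))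
    (ht : t ∈ T) : ⁅u, s * t⁆ = ⁅u, s⁆ * ⁅u, t⁆ := by
  rw [Cfsg.Lib.CommFixedGen.comm_mul_right,
    (show Commute s ⁅u, t⁆ from (mem_centralizer_iff.1 hs _ (hu.2.2 t ht)).symm).eq, mul_inv_cancel_right]

omit d h in
theorem shift_mul_left {T : Subgroup G} {u w t : G} (hu : u ∈ centralizer (A : Set G)) (hw : ⁅w, t⁆ ∈ A) :
    ⁅u * w, t⁆ = ⁅w, t⁆ * ⁅u, t⁆ := by
  rw [Cfsg.Lib.CommFixedGen.comm_mul_left,
    (show Commute u ⁅w, t⁆ from (mem_centralizer_iff.1 hu _ hw).symm).eq, mul_inv_cancel_right]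

omit d h in
theorem shift_mul {T : Subgroup G} {u w : G} (hu : IsShift A T u) (hw : IsShift A T w) : IsShift A T (u * w) :=
  ⟨mul_mem hu.1 hw.1, mul_mem hu.2.1 hw.2.1, fun t ht => by
    rw [shift_mul_left (T := T) hu.1 (hw.2.2 t ht)]; exact mul_mem (hw.2.2 t ht) (hu.2.2 t ht)⟩

omit d in
theorem shift_sq {T : Subgroup G} {u : G} (hu : IsShift A T u) : u ^ 2 ∈ centralizer (T : Set G) :=
  mem_centralizer_iff.2 fun t ht => by
    refine (commutatorElement_eq_one_iff_mul_comm.1 ?_).symm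
    rw [pow_two, shift_mul_left (T := T) hu.1 (hu.2.2 t ht), h.ctx.min.sq _ (hu.2.2 t ht)]

theorem shift_pow {u : G} (hu : IsShift A (Cs S x) u) : ∀ n : ℕ, IsShift A (Cs S x) (u ^ n)
  | 0 => ⟨by simp, by simp, fun t _ => by simp [commutatorElement_one_left]⟩
  | n + 1 => by rw [pow_succ]; exact shift_mul (shift_pow hu n) hu

theorem shift_trivial {u z : G} (hu : IsShift A (Cs S x) u) (hz : z ∈ Cs S x) (hzA : z ∉ A) (hzz : z * z = 1)
    (hc : Commute u z) : u ∈ centralizer (Cs S x : Set G) :=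
  h.act_trivial d.max hu.1 hu.2.1 hz hzA hzz hc (k := 1) (by rw [pow_one]; exact shift_sq h hu)

theorem exists_shift : ∃ u, IsShift A (Cs S x) u ∧ IsPGroup 2 (zpowers u) ∧ u ∉ centralizer (Cs S x : Set G) := by
  haveI : Fact (Nat.Prime 2) := ⟨Nat.prime_two⟩
  set T := Cs S x
  obtain ⟨s, hsS, hsT, hsn⟩ : ∃ s ∈ (S : Subgroup G), s ∉ T ∧ s ∈ normalizer (T : Set G) := by
    haveI : Group.IsNilpotent ↥(S : Subgroup G) := S.2.isNilpotent
    have hT' : T.subgroupOf (S : Subgroup G) < ⊤ := lt_top_iff_ne_top.2 fun e' =>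
      h.none x d.max.1 (le_antisymm (d.T_le h) (subgroupOf_eq_top.1 e'))
    obtain ⟨s, hs, hsT⟩ := SetLike.exists_of_lt (Group.normalizerCondition_of_isNilpotent _ hT')
    exact ⟨s, s.2, fun e => hsT (mem_subgroupOf.2 e), ZStarApps.mem_normalizer_of_maps fun t ht =>
      (mem_normalizer_iff.1 hs ⟨t, d.T_le h ht⟩).1 (mem_subgroupOf.2 ht)⟩
  have hsC := h.ctx.le_center hsS
  set g := s * r * s⁻¹ * r⁻¹ with hg
  have hrn := d.rot_norm h
  have hgC : g ∈ centralizer (A : Set G) := mem_centralizer_iff.2 fun a ha => by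
    have h1 : r⁻¹ * a * r ∈ A := (mem_normalizer_iff''.1 d.rot.1 a).1 ha
    have e1 : s⁻¹ * (r⁻¹ * a * r) * s = r⁻¹ * a * r := by
      rw [mul_assoc, (d.A_comm h h1 hsC).eq, inv_mul_cancel_left]
    have e2 : g * a * g⁻¹ = a := by
      calc g * a * g⁻¹ = s * (r * (s⁻¹ * (r⁻¹ * a * r) * s) * r⁻¹) * s⁻¹ := by simp only [g]; group
        _ = s * a * s⁻¹ := by rw [e1]; group
        _ = a := by rw [← (d.A_comm h ha hsC).eq, mul_inv_cancel_right]
    exact (mul_inv_eq_iff_eq_mul.1 e2).symm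
  have hshift : IsShift A T g := by
    refine ⟨hgC, mul_mem (mul_mem (mul_mem hsn hrn) (inv_mem hsn)) (inv_mem hrn), fun t ht => ?_⟩
    -- modulo `A` the rotation is trivial on `T`
    set t₁ := r⁻¹ * t * r
    have ht₁ : t₁ ∈ T := (mem_normalizer_iff''.1 hrn t).1 ht
    set t₂ := s⁻¹ * t₁ * s
    have ht₂ : t₂ ∈ T := (mem_normalizer_iff''.1 hsn t₁).1 ht₁
    have ea : ⁅g, t⁆ = s * ⁅r, t₂⁆ * s⁻¹ * (t * t₁⁻¹)⁻¹ := by
      simp only [g, t₁, t₂, commutatorElement_def]; group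
    rw [ea]
    refine mul_mem ?_ (inv_mem ?_)
    · rw [← (d.A_comm h (d.rot_shift h ht₂) hsC).eq, mul_inv_cancel_right]
      exact d.rot_shift h ht₂
    · rw [show t * t₁⁻¹ = ⁅r, t₁⁆ by simp only [t₁, commutatorElement_def]; group]
      exact d.rot_shift h ht₁
  have hnontriv : g ∉ centralizer (T : Set G) := by
    intro hgT
    refine hsT ?_
    have hY' : ∀ y ∈ Y, s * y * s⁻¹ ∈ Y := fun y hy => by
      set t := s * y * s⁻¹
      have ht : t ∈ T := (mem_normalizer_iff.1 hsn y).1 (d.le hy)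
      refine d.rot_fix_mem h ht ?_
      have e2 := mem_centralizer_iff.1 hgT (r * t * r⁻¹) ((mem_normalizer_iff.1 hrn t).1 ht)
      have e3 : s * r * s⁻¹ * t * (s * r * s⁻¹)⁻¹ = r * t * r⁻¹ := by
        calc s * r * s⁻¹ * t * (s * r * s⁻¹)⁻¹ = g * (r * t * r⁻¹) * g⁻¹ := by simp only [g]; group
          _ = r * t * r⁻¹ := by rw [← e2, mul_inv_cancel_right]
      have e4 : s * r * s⁻¹ * t * (s * r * s⁻¹)⁻¹ = t := by
        calc s * r * s⁻¹ * t * (s * r * s⁻¹)⁻¹ = s * (r * y * r⁻¹) * s⁻¹ := by simp only [t]; group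
          _ = t := by rw [(d.comm y hy).eq, mul_inv_cancel_right]
      exact mul_inv_eq_iff_eq_mul.1 (e3.symm.trans e4)
    have hsY : s ∈ normalizer (Y : Set G) := ZStarApps.mem_normalizer_of_maps hY'
    obtain ⟨y, hy, a, ha, hye, -⟩ := d.bad
    have hy1 : y ≠ 1 := fun e => d.max.1.2.1 (by
      rw [eq_inv_of_mul_eq_one_right (hye.symm.trans e)]; exact inv_mem ha)
    have hYS : Y ≤ (S : Subgroup G) := d.le.trans (d.T_le h)
    obtain ⟨c, hc, hcc, hc1, hcN⟩ := exists_fixed_involution (N := Y ⊔ zpowers s) (Z := Y)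
      (S.2.to_le (sup_le hYS (zpowers_le.2 hsS))) le_sup_left (sup_le le_normalizer (zpowers_le.2 hsY))
      (fun e => hy1 (mem_bot.1 (e ▸ hy)))
    exact h.free d.max hsC hsn (S.2.to_le (zpowers_le.2 hsS)) (d.le hc) (d.not_mem_A h hc hc1) hcc
      (hcN s (mem_sup_right (mem_zpowers s)))
  obtain ⟨i, m, hm, ho⟩ := Nat.exists_eq_two_pow_mul_odd (orderOf_pos g).ne'
  refine ⟨g ^ m, d.shift_pow h hshift m, IsPGroup.of_card (n := i) (by
    rw [Nat.card_zpowers, orderOf_pow' g hm.pos.ne', Nat.gcd_eq_right (Dvd.intro_left _ ho.symm), ho,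
      Nat.mul_div_cancel _ hm.pos]), fun e => hnontriv ?_⟩
  exact mem_of_pow_coprime ((Nat.coprime_two_left.2 hm).symm) e (shift_sq h hshift)

theorem sq {w : G} (hw : w ∈ Y) : w * w = 1 := by
  haveI : Fact (Nat.Prime 2) := ⟨Nat.prime_two⟩
  by_contra hne
  obtain ⟨u, hu, -, hun⟩ := d.exists_shift h
  obtain ⟨c, hc, hcc, hc1⟩ := exists_involution
    (S.2.to_le (zpowers_le.2 (d.T_le h (d.le (mul_mem hw hw)))) : IsPGroup 2 (zpowers (w * w)))
    (fun e => hne (mem_bot.1 (e ▸ mem_zpowers _)))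
  obtain ⟨i, rfl⟩ := mem_zpowers_iff.1 hc
  have hwi := zpow_mem hw i
  rw [(Commute.refl w).mul_zpow] at hcc hc1 hc
  refine hun (d.shift_trivial h hu (d.le (mul_mem hwi hwi)) (d.not_mem_A h (mul_mem hwi hwi) hc1) hcc ?_)
  refine commutatorElement_eq_one_iff_mul_comm.1 ?_
  rw [shift_mul_right h hu (d.cent h (d.le hwi)) (d.le hwi), h.ctx.min.sq _ (hu.2.2 _ (d.le hwi))]

theorem T_sq {t : G} (ht : t ∈ Cs S x) : t * t = 1 := by
  obtain ⟨v, hv, hvY⟩ := d.decomp t ht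
  have hc : Commute v (v⁻¹ * t) := d.A_comm h hv (d.cent h (d.le hvY))
  have e : t = v * (v⁻¹ * t) := by group
  rw [e, hc.symm.mul_mul_mul_comm, h.ctx.min.sq v hv, d.sq h hvY, one_mul]

/-- A non-trivial shift moves every involution of `T` outside `A`. -/
theorem shift_inj {u z : G} (hu : IsShift A (Cs S x) u) (hun : u ∉ centralizer (Cs S x : Set G))
    (hz : z ∈ Cs S x) (hzA : z ∉ A) : ⁅u, z⁆ ≠ 1 := fun e =>
  hun (d.shift_trivial h hu hz hzA (d.T_sq h hz) (commutatorElement_eq_one_iff_mul_comm.1 e))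

theorem card_Y_le : Nat.card ↥Y ≤ 4 := by
  obtain ⟨u, hu, -, hun⟩ := d.exists_shift h
  rw [← h.ctx.card]
  refine Nat.card_le_card_of_injective (fun y : Y => (⟨⁅u, (y : G)⁆, hu.2.2 _ (d.le y.2)⟩ : A)) fun p q e => ?_
  by_contra hne
  have hpq : (p : G)⁻¹ * q ∈ Y := mul_mem (inv_mem p.2) q.2
  refine d.shift_inj h hu hun (d.le hpq) (d.not_mem_A h hpq fun e' => hne (Subtype.ext (inv_mul_eq_one.1 e'))) ?_
  have e2 := shift_mul_right h hu (d.cent h (d.le p.2)) (d.le hpq)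
  have e' : ⁅u, (p : G)⁆ = ⁅u, (q : G)⁆ := congrArg Subtype.val e
  rw [show (p : G) * ((p : G)⁻¹ * q) = q by group, ← e'] at e2
  exact (left_eq_mul.1 e2)

theorem card_T : Nat.card ↥(Cs S x) = 4 * Nat.card ↥Y := by
  rw [← h.ctx.card, ← Nat.card_prod]
  refine (Nat.card_eq_of_bijective (fun p : A × Y =>
    (⟨(p.1 : G) * p.2, mul_mem (d.A_le h p.1.2) (d.le p.2.2)⟩ : ↥(Cs S x))) ⟨fun p q e => ?_, fun t => ?_⟩).symm
  · have e' : (p.1 : G) * p.2 = q.1 * q.2 := congrArg Subtype.val e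
    have h1 : (q.1 : G)⁻¹ * p.1 = q.2 * (p.2 : G)⁻¹ := by
      rw [show (q.1 : G)⁻¹ * p.1 = (q.1 : G)⁻¹ * (p.1 * p.2) * (p.2 : G)⁻¹ by group, e']; group
    have h2 := d.uniq _ (mul_mem (inv_mem q.1.2) p.1.2) (h1 ▸ mul_mem q.2.2 (inv_mem p.2.2))
    rw [h2] at h1
    exact Prod.ext (Subtype.ext (inv_mul_eq_one.1 h2).symm) (Subtype.ext (mul_inv_eq_one.1 h1.symm).symm)
  · obtain ⟨v, hv, hvY⟩ := d.decomp t t.2
    exact ⟨(⟨v, hv⟩, ⟨_, hvY⟩), Subtype.ext (by simp)⟩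

theorem card_Y : Nat.card ↥Y = 2 ∨ Nat.card ↥Y = 4 := by
  haveI : Fact (Nat.Prime 2) := ⟨Nat.prime_two⟩
  obtain ⟨k, hk⟩ := IsPGroup.iff_card.1 (S.2.to_le (d.le.trans (d.T_le h)))
  have h4 := d.card_Y_le h
  obtain ⟨y, hy, a, ha, hye, -⟩ := d.bad
  have hy1 : y ≠ 1 := fun e => d.max.1.2.1 (by
    rw [eq_inv_of_mul_eq_one_right (hye.symm.trans e)]; exact inv_mem ha)
  have h2 : 1 < Nat.card ↥Y :=
    haveI : Nontrivial ↥Y := ⟨⟨⟨y, hy⟩, 1, fun e => hy1 (congrArg Subtype.val e)⟩⟩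
    Finite.one_lt_card
  rw [hk] at h2 h4 ⊢
  have hk2 : k ≤ 2 := by
    by_contra hlt
    have := Nat.pow_le_pow_right (n := 2) two_pos (show 3 ≤ k by omega)
    omega
  interval_cases k <;> simp_all

/-- The shifts realise every element of `A` at every involution outside `A`. -/
theorem exists_shift_eq {z b : G} (hz : z ∈ Cs S x) (hzA : z ∉ A) (hb : b ∈ A) :
    ∃ u, IsShift A (Cs S x) u ∧ IsPGroup 2 (zpowers u) ∧ ⁅u, z⁆ = b := by
  by_cases hb1 : b = 1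
  · exact ⟨1, ⟨one_mem _, one_mem _, fun t _ => by rw [commutatorElement_one_left]; exact one_mem _⟩,
      by rw [zpowers_one_eq_bot]; exact IsPGroup.of_bot, by rw [hb1, commutatorElement_one_left]⟩
  obtain ⟨u, hu, hu2, hun⟩ := d.exists_shift h
  have hrn := d.rot_norm h
  have hconj : ∀ w, IsShift A (Cs S x) w → IsPGroup 2 (zpowers w) →
      IsShift A (Cs S x) (r * w * r⁻¹) ∧ IsPGroup 2 (zpowers (r * w * r⁻¹)) ∧
        ⁅r * w * r⁻¹, z⁆ = r * ⁅w, z⁆ * r⁻¹ := by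
    intro w hw hw2
    have hval : ∀ t ∈ Cs S x, ⁅r * w * r⁻¹, t⁆ = r * ⁅w, t⁆ * r⁻¹ := by
      intro t ht
      obtain ⟨v, hv, hvY⟩ := d.decomp t ht
      have hwv : ∀ c ∈ A, ⁅w, c⁆ = 1 := fun c hc =>
        commutatorElement_eq_one_iff_mul_comm.2 (mem_centralizer_iff.1 hw.1 c hc).symm
      have h1 : ⁅w, r⁻¹ * t * r⁆ = ⁅w, t⁆ := by
        have hv' : r⁻¹ * v * r ∈ A := (mem_normalizer_iff''.1 d.rot.1 v).1 hv
        have e : r⁻¹ * t * r = r⁻¹ * v * r * (v⁻¹ * t) := by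
          rw [show r⁻¹ * t * r = r⁻¹ * v * (v⁻¹ * t * r) by group, ← (d.comm _ hvY).eq]; group
        rw [e, shift_mul_right h hw (h.ctx.le_cent_self hv') (d.le hvY), hwv _ hv', one_mul]
        conv_rhs => rw [show t = v * (v⁻¹ * t) by group]
        rw [shift_mul_right h hw (h.ctx.le_cent_self hv) (d.le hvY), hwv _ hv, one_mul]
      rw [← h1]; simp only [commutatorElement_def]; group
    refine ⟨⟨mem_centralizer_iff.2 fun a ha => ?_, mul_mem (mul_mem hrn hw.2.1) (inv_mem hrn), fun t ht => ?_⟩, ?_, hval z hz⟩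
    · have := congrArg (fun c => r * c * r⁻¹) (mem_centralizer_iff.1 hw.1 _ ((mem_normalizer_iff''.1 d.rot.1 a).1 ha))
      simpa [mul_assoc] using this
    · rw [hval t ht]; exact (mem_normalizer_iff.1 d.rot.1 _).1 (hw.2.2 t ht)
    · have := hw2.map (MulAut.conj r).toMonoidHom
      rwa [MonoidHom.map_zpowers] at this
  obtain ⟨h1, h1', e1⟩ := hconj u hu hu2
  obtain ⟨h2, h2', e2⟩ := hconj _ h1 h1'
  rcases h.ctx.rot_cases d.rot (hu.2.2 z hz) (d.shift_inj h hu hun hz hzA) hb hb1 with e | e | e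
  · exact ⟨u, hu, hu2, e.symm⟩
  · exact ⟨_, h1, h1', e1.trans e.symm⟩
  · exact ⟨_, h2, h2', by rw [e2, e1]; exact e.symm⟩

omit d h in
theorem comm_sq {s z : G} {T : Subgroup G} (hT : ∀ p ∈ T, ∀ q ∈ T, Commute p q) (hT2 : ∀ p ∈ T, p * p = 1)
    (hs : s ∈ normalizer (T : Set G)) (hz : z ∈ T) : ⁅s, ⁅s, z⁆⁆ = ⁅s ^ 2, z⁆ := by
  have hp : s * z * s⁻¹ ∈ T := (mem_normalizer_iff.1 hs z).1 hz
  have hq : s * (s * z * s⁻¹) * s⁻¹ ∈ T := (mem_normalizer_iff.1 hs _).1 hp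
  have hi : ∀ p ∈ T, p⁻¹ = p := fun p hp => inv_eq_of_mul_eq_one_right (hT2 p hp)
  have e1 : ⁅s, ⁅s, z⁆⁆ = s * (s * z * s⁻¹) * s⁻¹ * ((s * z * s⁻¹)⁻¹ * (z * (s * z * s⁻¹)⁻¹)) := by
    simp only [commutatorElement_def]; group
  rw [e1, hi _ hp, (hT _ hz _ hp).eq, ← mul_assoc (s * z * s⁻¹), hT2 _ hp, one_mul,
    show s ^ 2 = s * s from pow_two s]
  conv_rhs => rw [commutatorElement_def, hi z hz]
  group

theorem exists_fixed_mod : ∀ (j : ℕ) (s : G), s ∈ normalizer (Cs S x : Set G) →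
    s ^ 2 ^ j ∈ centralizer (Cs S x : Set G) → ∃ z ∈ Cs S x, z ∉ A ∧ ⁅s, z⁆ ∈ A
  | 0, s, _, hj => ⟨x, mem_Cs.2 ⟨d.max.1.1, Commute.refl x⟩, d.max.1.2.1, by
      rw [pow_zero, pow_one] at hj
      rw [commutatorElement_eq_one_iff_mul_comm.2 (mem_centralizer_iff.1 hj x (mem_Cs.2 ⟨d.max.1.1, Commute.refl x⟩)).symm]
      exact one_mem _⟩
  | j + 1, s, hs, hj => by
      obtain ⟨z, hz, hzA, hzf⟩ := exists_fixed_mod j (s ^ 2) (pow_mem hs 2)
        (by rwa [← pow_mul, ← pow_succ'])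
      by_cases hf : ⁅s, z⁆ ∈ A
      · exact ⟨z, hz, hzA, hf⟩
      · refine ⟨⁅s, z⁆, mul_mem ((mem_normalizer_iff.1 hs z).1 hz) (inv_mem hz), hf, ?_⟩
        rw [comm_sq (fun p hp q hq => h.abelian d.max.1 hp hq) (fun p hp => d.T_sq h hp) hs hz]
        exact hzf

/-- Every element of the Sylow subgroup normalising `T` shifts. -/
theorem shift_of_normalizer {s : G} (hs : s ∈ (S : Subgroup G)) (hn : s ∈ normalizer (Cs S x : Set G)) :
    IsShift A (Cs S x) s := by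
  haveI : Fact (Nat.Prime 2) := ⟨Nat.prime_two⟩
  have hsC := h.ctx.le_center hs
  obtain ⟨k, hk⟩ := S.2 ⟨s, hs⟩
  have hk' : s ^ 2 ^ k = 1 := congrArg Subtype.val hk
  obtain ⟨z, hz, hzA, hzb⟩ := d.exists_fixed_mod h k s hn (hk' ▸ one_mem _)
  obtain ⟨u, hu, -, hue⟩ := d.exists_shift_eq h hz hzA hzb
  set w := u⁻¹ * s
  have hwC : w ∈ centralizer (A : Set G) := mul_mem (inv_mem hu.1) hsC
  have hwn : w ∈ normalizer (Cs S x : Set G) := mul_mem (inv_mem hu.2.1) hn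
  -- `w` and `s` agree on `T` modulo `A`
  have hmod : ∀ n : ℕ, ∀ t ∈ Cs S x, w ^ n * t * (w ^ n)⁻¹ * (s ^ n * t * (s ^ n)⁻¹)⁻¹ ∈ A := by
    intro n
    induction n with
    | zero => intro t _; simp
    | succ n ih =>
      intro t ht
      set p := s ^ n * t * (s ^ n)⁻¹
      have hp : p ∈ Cs S x := (mem_normalizer_iff.1 (pow_mem hn n) t).1 ht
      set q := s * p * s⁻¹
      have hq : q ∈ Cs S x := (mem_normalizer_iff.1 hn p).1 hp
      set a := w ^ n * t * (w ^ n)⁻¹ * p⁻¹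
      have ha : a ∈ A := ih t ht
      have hb : ⁅u, q⁆ ∈ A := hu.2.2 _ hq
      have e : w ^ (n + 1) * t * (w ^ (n + 1))⁻¹ * (s ^ (n + 1) * t * (s ^ (n + 1))⁻¹)⁻¹ =
          w * a * w⁻¹ * (u⁻¹ * ⁅u, q⁆⁻¹ * u) := by
        rw [pow_succ' w n, pow_succ' s n]
        simp only [a, q, p, commutatorElement_def]
        generalize w ^ n = W
        generalize s ^ n = P
        simp only [w]; group
      rw [e]
      exact mul_mem (by rw [← mem_centralizer_iff.1 hwC a ha, mul_inv_cancel_right]; exact ha)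
        (by rw [mul_assoc, mem_centralizer_iff.1 hu.1 _ (inv_mem hb), inv_mul_cancel_left]; exact inv_mem hb)
  have hsh : IsShift A (Cs S x) (w ^ 2 ^ k) := ⟨pow_mem hwC _, pow_mem hwn _, fun t ht => by
    have := hmod (2 ^ k) t ht
    rw [hk', one_mul, inv_one, mul_one] at this
    rwa [commutatorElement_def]⟩
  have hw2 : w ^ 2 ^ (k + 1) ∈ centralizer (Cs S x : Set G) := by
    rw [pow_succ, pow_mul]; exact shift_sq h hsh
  have hwz : Commute w z := by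
    refine commutatorElement_eq_one_iff_mul_comm.1 ?_
    rw [show ⁅w, z⁆ = u⁻¹ * (⁅s, z⁆ * ⁅u, z⁆⁻¹) * u by simp only [w, commutatorElement_def]; group, hue,
      mul_inv_cancel, mul_one, inv_mul_cancel]
  have hwT := h.act_trivial d.max hwC hwn hz hzA (d.T_sq h hz) hwz hw2
  refine ⟨hsC, hn, fun t ht => ?_⟩
  have e : ⁅s, t⁆ = ⁅u, t⁆ := by
    rw [show s = u * w by simp only [w]; group, Cfsg.Lib.CommFixedGen.comm_mul_left,
      commutatorElement_eq_one_iff_mul_comm.2 (mem_centralizer_iff.1 hwT t ht).symm, mul_one, mul_inv_cancel, one_mul]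
  rw [e]
  exact hu.2.2 t ht

end MaxData

end Cfsg.Lib.Goldschmidt.RankTwo
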