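import Cfsg.Agent.Goldschmidt.RankTwo.Delta
import Cfsg.Agent.Walter.Main
import Cfsg.Agent.FourGroupGW.Main
import Cfsg.Agent.S3216

/-!
Rank two: a maximal centraliser of order eight gives a centraliser `Z₂ × PSL(2, q)`, hence abelian Sylow subgroups.
-/

set_option autoImplicit false
set_option linter.unusedSectionVars false
set_option linter.style.haveILetI false

namespace Cfsg.Lib.Goldschmidt.RankTwo

open Subgroup Cfsg.Lib.Components
open Cfsg.Lib.Walter (IsComp Qt qm bar)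

universe u

variable {G : Type u} [Group G] [Finite G] {S : Sylow 2 G} {A : Subgroup G}

theorem exists_model {X : Type u} [Group X] [Finite X] (T : Sylow 2 X) (h8 : Nat.card ↥(T : Subgroup X) ≤ 8)
    (hsq : ∀ x ∈ T, x * x = 1) (hO : Cfsg.pPrimeCore 2 X = ⊥) {t : X} (ht : t ∈ T) (ht1 : t ≠ 1)
    (htc : ∀ y, Commute t y) {K : Subgroup X} (hK : Cfsg.IsComponent K) :
    ∃ (F : Type) (_ : Field F) (_ : Fintype F), 3 < Fintype.card F ∧
      Nonempty (↥(Subgroup.closure {x : X | ∃ k : ℕ, orderOf x = 2 ^ k}) ≃*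
        (Multiplicative (ZMod 2) × Matrix.ProjectiveSpecialLinearGroup (Fin 2) F)) := by
  classical
  haveI : Fact (Nat.Prime 2) := ⟨Nat.prime_two⟩
  have hsq' : ∀ (R : Sylow 2 X), ∀ x ∈ R, x * x = 1 := by
    intro R x hx
    obtain ⟨g, hg⟩ := MulAction.exists_smul_eq X T R
    rw [← hg] at hx
    obtain ⟨a, ha, rfl⟩ := hx
    show MulAut.conj g a * MulAut.conj g a = 1
    rw [← map_mul, hsq a ha, map_one]
  have hab : Walter.AbTwo X := fun R x hx y hy => by
    have e : ∀ z ∈ R, z⁻¹ = z := fun z hz => inv_eq_of_mul_eq_one_right (hsq' R z hz)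
    calc x * y = (x * y)⁻¹ := (e _ (mul_mem hx hy)).symm
      _ = y * x := by rw [mul_inv_rev, e x hx, e y hy]
  have W : Walter.CoreFree T := ⟨hab, hO, fun L hs hn =>
    haveI := hs
    Walter.walterProp ↥L hn (hab.subgroup L), GW.fourGroupProp⟩
  obtain ⟨hsimp, -⟩ := Walter.comp_simple W hK
  haveI := hsimp
  set T₀ := (T : Subgroup X)
  set Z := zpowers t
  have hZT : Z ≤ T₀ := zpowers_le.2 ht
  have hZc : ∀ z ∈ Z, ∀ y : X, Commute z y := fun z hz y => by
    obtain ⟨i, rfl⟩ := mem_zpowers_iff.1 hz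
    exact (htc y).zpow_left i
  have hZK : ∀ z ∈ Z, z ∈ K → z = 1 := fun z hz hzK => mem_bot.1 ((Walter.comp_center W hK).le
    ⟨hzK, mem_centralizer_iff.2 fun y _ => (hZc z hz y).symm.eq⟩)
  have hZ2 : Nat.card Z = 2 := by
    rw [Nat.card_zpowers, orderOf_eq_prime (by rw [pow_two, hsq t ht]) ht1]
  let φ : Z × ↥(T₀ ⊓ K) → T₀ := fun p => ⟨(p.1 : X) * p.2, mul_mem (hZT p.1.2) p.2.2.1⟩
  have hφ : Function.Injective φ := fun p q e => by
    have e' : (p.1 : X) * p.2 = q.1 * q.2 := congrArg Subtype.val e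
    have h1 : (q.1 : X)⁻¹ * p.1 = q.2 * (p.2 : X)⁻¹ := by
      rw [eq_mul_inv_iff_mul_eq, mul_assoc, e', inv_mul_cancel_left]
    have h2 := hZK _ (mul_mem (inv_mem q.1.2) p.1.2) (h1 ▸ mul_mem q.2.2.2 (inv_mem p.2.2.2))
    rw [h2] at h1
    exact Prod.ext (Subtype.ext (inv_mul_eq_one.1 h2).symm) (Subtype.ext (mul_inv_eq_one.1 h1.symm).symm)
  have h4 : 4 ≤ Nat.card ↥(T₀ ⊓ K) := Walter.card_inf W hK
  have hP : Nat.card ↥(T₀ ⊓ K) = 4 := by
    have := Nat.card_le_card_of_injective φ hφ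
    rw [Nat.card_prod, hZ2] at this
    omega
  have hbij : Function.Bijective φ := (Nat.bijective_iff_injective_and_card φ).2 ⟨hφ, by
    have := Nat.card_le_card_of_injective φ hφ
    rw [Nat.card_prod, hZ2, hP] at this ⊢
    omega⟩
  have honly : ∀ K', Cfsg.IsComponent K' → K' = K := by
    intro K' hK'
    by_contra hne
    have hle : T₀ ⊓ K' ≤ Z := fun s hs => by
      obtain ⟨⟨z, p⟩, e⟩ := hbij.2 ⟨s, hs.1⟩
      have e' : (z : X) * p = s := congrArg Subtype.val e
      have hsc : s ∈ centralizer (K : Set X) :=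
        commutator_eq_bot_iff_le_centralizer.1 (comp_commute hK' hK hne) hs.2
      have hzc : (z : X) ∈ centralizer (K : Set X) := mem_centralizer_iff.2 fun y _ => (hZc z z.2 y).symm.eq
      have hp : (p : X) = 1 := mem_bot.1 ((Walter.comp_center W hK).le
        ⟨p.2.2, (Subgroup.mul_mem_cancel_left _ hzc).1 (e' ▸ hsc)⟩)
      rw [← e', hp, mul_one]
      exact z.2
    have := (Walter.card_inf W hK').trans (card_le_of_le hle)
    omega
  haveI hKn : K.Normal :=
    (show Cfsg.layer X = K from le_antisymm (sSup_le fun K' hK' => (honly K' hK').le) (comp_le_layer hK)) ▸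
      (inferInstance : (Cfsg.layer X).Normal)
  haveI : Z.Normal := ⟨fun z hz g => by rwa [← (hZc z hz g).eq, mul_inv_cancel_right]⟩
  set C2 := Subgroup.closure {x : X | ∃ k : ℕ, orderOf x = 2 ^ k}
  have hC2 : C2.Normal := by
    refine ⟨fun n hn g => ?_⟩
    induction hn using Subgroup.closure_induction with
    | mem x hx =>
      obtain ⟨k, hk⟩ := hx
      exact Subgroup.subset_closure ⟨k, ((MulAut.conj g).orderOf_eq x).trans hk⟩
    | one => simp
    | mul a b _ _ ha hb =>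
      rw [show g * (a * b) * g⁻¹ = g * a * g⁻¹ * (g * b * g⁻¹) by group]
      exact mul_mem ha hb
    | inv a _ ha =>
      rw [show g * a⁻¹ * g⁻¹ = (g * a * g⁻¹)⁻¹ by group]
      exact inv_mem ha
  have htwo : ∀ x : X, x * x = 1 → x ∈ C2 := fun x hx => by
    by_cases h1 : x = 1
    · exact h1 ▸ one_mem _
    · exact Subgroup.subset_closure ⟨1, by rw [pow_one]; exact orderOf_eq_prime (by rw [pow_two, hx]) h1⟩
  have hN : C2 = Z ⊔ K := by
    refine le_antisymm ((closure_le _).2 ?_) (sup_le (zpowers_le.2 (htwo t (hsq t ht))) ?_)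
    · rintro x ⟨k, hk⟩
      obtain ⟨R, hR⟩ := (IsPGroup.of_card (n := k) (by rw [Nat.card_zpowers, hk]) :
        IsPGroup 2 (zpowers x)).exists_le_sylow
      obtain ⟨g, hg⟩ := MulAction.exists_smul_eq X T R
      have hx : x ∈ (R : Subgroup X) := hR (mem_zpowers x)
      rw [← hg] at hx
      obtain ⟨a, ha, rfl⟩ := hx
      obtain ⟨⟨z, p⟩, e⟩ := hbij.2 ⟨a, ha⟩
      refine (inferInstance : (Z ⊔ K).Normal).conj_mem a ?_ g
      have e' : (z : X) * p = a := congrArg Subtype.val e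
      rw [← e']
      exact mul_mem (mem_sup_left z.2) (mem_sup_right p.2.2)
    · haveI : (C2.subgroupOf K).Normal := hC2.subgroupOf K
      rcases IsSimpleGroup.eq_bot_or_eq_top_of_normal (C2.subgroupOf K) inferInstance with e | e
      · exfalso
        have hb : T₀ ⊓ K = ⊥ := (Subgroup.eq_bot_iff_forall _).2 fun p hp => by
          have : (⟨p, hp.2⟩ : K) ∈ C2.subgroupOf K := mem_subgroupOf.2 (htwo p (hsq p hp.1))
          rw [e, mem_bot] at this
          exact congrArg Subtype.val this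
        rw [hb, card_bot] at h4
        omega
      · exact subgroupOf_eq_top.1 e
  -- the direct product
  let ψ : Z × K →* X := Z.subtype.noncommCoprod K.subtype fun z k => hZc z z.2 k
  have hψ : Function.Injective ψ := (injective_iff_map_eq_one ψ).2 fun p e => by
    have e' : (p.1 : X) * p.2 = 1 := e
    have h1 := hZK p.1 p.1.2 (by rw [eq_inv_of_mul_eq_one_left e']; exact inv_mem p.2.2)
    rw [h1, one_mul] at e'
    exact Prod.ext (Subtype.ext h1) (Subtype.ext e')
  have hrange : ψ.range = C2 :=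
    (MonoidHom.noncommCoprod_range Z.subtype K.subtype fun z k => hZc z z.2 k).trans
      (by rw [range_subtype, range_subtype, hN])
  obtain ⟨P, hPK⟩ := Walter.sylow_comp W hK
  have hP4 : Nat.card ↥(P : Subgroup ↥K) = 4 := by
    rw [hPK, ← inf_subgroupOf_right, Nat.card_congr (subgroupOfEquivOfLe inf_le_right).toEquiv, hP]
  obtain ⟨F, iF, iFt, -, h5, ⟨f⟩⟩ := GW.fourGroupProp ↥K P (GWFour.klein_of_sq hP4 fun x => Subtype.ext (by
    have hx : (x : ↥K) ∈ (T : Subgroup X).subgroupOf K := hPK ▸ x.2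
    exact Subtype.ext (hsq _ hx)))
  haveI : IsCyclic ↥Z := inferInstance
  let eZ : ↥Z ≃* Multiplicative (ZMod 2) := mulEquivOfCyclicCardEq (by
    rw [hZ2, Nat.card_congr Multiplicative.toAdd, Nat.card_zmod])
  exact ⟨F, iF, iFt, by omega,
    ⟨((MulEquiv.subgroupCongr hrange.symm).trans (MonoidHom.ofInjective hψ).symm).trans (eZ.prodCongr f)⟩⟩

namespace MaxData

variable {x r : G} {Y : Subgroup G} (d : MaxData S A x Y r) (h : Two S A)
include d h

/-- The complement has order four. -/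
theorem card_Y_ne_two : Nat.card ↥Y ≠ 2 := by
  intro h2
  haveI : Fact (Nat.Prime 2) := ⟨Nat.prime_two⟩
  haveI := h.ctx.min.simple
  obtain ⟨y, hy, a, ha, hye, hbad⟩ := d.bad
  have hy1 : y ≠ 1 := fun e => d.max.1.2.1 (by
    rw [eq_inv_of_mul_eq_one_right (hye.symm.trans e)]; exact inv_mem ha)
  have hyy : y * y = 1 := d.sq h hy
  have hy2 : orderOf y = 2 := h.ctx.orderOf_two hyy hy1
  obtain ⟨hym, hye'⟩ := h.max_of_mem d.max (d.le hy) (d.not_mem_A h hy hy1) hyy
  have hyS : y ∈ (S : Subgroup G) := hym.1.1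
  obtain ⟨L, hm, -⟩ := h.facts.bad (h.ctx.le_center hyS) hy2 hbad
  set C := centralizer ({y} : Set G)
  set T := Cs S y
  have hT8 : Nat.card ↥T = 8 := by rw [show T = Cs S x from hye', d.card_T h, h2]
  obtain ⟨R, hR⟩ := ((S.2.to_le (inf_le_left : T ≤ (S : Subgroup G))).of_equiv
    (subgroupOfEquivOfLe (inf_le_right : T ≤ C)).symm).exists_le_sylow
  -- a Sylow subgroup of `C(y)` centralises `A`
  set R₀ := (R : Subgroup ↥C).map C.subtype
  have hTR : T ≤ R₀ := fun s hs => ⟨⟨s, (mem_inf.1 hs).2⟩, hR (mem_subgroupOf.2 hs), rfl⟩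
  have hR2 : IsPGroup 2 R₀ := R.2.map C.subtype
  have hRA : R₀ ≤ centralizer (A : Set G) := by
    obtain ⟨R', hR'⟩ := hR2.exists_le_sylow
    obtain ⟨k, hk⟩ := MulAction.exists_smul_eq G R' S
    have hmap : ∀ u ∈ R₀, k * u * k⁻¹ ∈ (S : Subgroup G) := fun u hu => by
      rw [← hk, Sylow.coe_subgroup_smul]; exact ⟨u, hR' hu, rfl⟩
    have hkA : k ∈ normalizer (A : Set G) := mem_normalizer_of_le h.ctx.min.closed fun b hb =>
      hmap b (hTR (h.le_Cs hyS hb))
    intro u hu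
    refine mem_centralizer_iff.2 fun b hb => ?_
    have := congrArg (fun w => k⁻¹ * w * k)
      (mem_centralizer_iff.1 (h.ctx.le_center (hmap u hu)) _ ((mem_normalizer_iff.1 hkA b).1 hb))
    simpa [mul_assoc] using this
  have hle := h.card_two_le hym hR2 hRA (map_subtype_le _)
  have hR₀ : R₀ = T := (Subgroup.eq_of_le_of_card_ge hTR hle).symm
  have hRsq : ∀ u ∈ R, u * u = 1 := fun u hu => Subtype.ext (by
    have hu' : (u : G) ∈ T := hR₀ ▸ ⟨u, hu, rfl⟩
    exact d.T_sq h (hye' ▸ hu'))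
  let Tq : Sylow 2 (Qt y) := R.mapSurjective (QuotientGroup.mk'_surjective _)
  have hcard : Nat.card ↥(Tq : Subgroup (Qt y)) ≤ 8 := by
    refine le_trans (Nat.le_of_dvd Nat.card_pos (Subgroup.card_map_dvd _ _)) (le_of_eq ?_)
    rw [← hT8, ← hR₀]
    exact (Nat.card_congr ((R : Subgroup ↥C).equivMapOfInjective C.subtype C.subtype_injective).toEquiv)
  have hyC : y ∈ C := mem_centralizer_singleton_iff.2 rfl
  have hyR : (⟨y, hyC⟩ : C) ∈ R :=
    hR (mem_subgroupOf.2 (mem_Cs.2 ⟨hyS, Commute.refl y⟩))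
  set t := qm y ⟨y, hyC⟩
  have ht1 : t ≠ 1 := fun e => by
    have h1 : (⟨y, hyC⟩ : C) ∈ Cfsg.pPrimeCore 2 ↥C := (QuotientGroup.eq_one_iff _).1 e
    have hd := Subgroup.orderOf_dvd_natCard _ h1
    rw [Subgroup.orderOf_mk, hy2] at hd
    exact Nat.not_even_iff_odd.2 (Nat.coprime_two_right.1 (coprime_card_pPrimeCore 2)) (even_iff_two_dvd.2 hd)
  obtain ⟨F, iF, iFt, hF, hiso⟩ := exists_model Tq hcard
    (by rintro _ ⟨u, hu, rfl⟩; rw [← map_mul, hRsq u hu, map_one])
    pPrimeCore_quotient_eq_bot (t := t) ⟨_, hyR, rfl⟩ ht1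
    (fun q => by
      obtain ⟨c, rfl⟩ := QuotientGroup.mk'_surjective _ q
      show t * _ = _ * t
      rw [← map_mul, ← map_mul]
      exact congrArg _ (Subtype.ext (mem_centralizer_singleton_iff.1 c.2).symm))
    (K := bar y L) hm.1.2.2.1
  obtain ⟨-, hsq⟩ := Cfsg.Agent.S3216.result h.ctx.min.nonab y hy2 hF hiso S
  refine h.ctx.min.sylow ⟨⟨fun p q => Subtype.ext ?_⟩⟩
  have e : ∀ z ∈ (S : Subgroup G), z⁻¹ = z := fun z hz =>
    inv_eq_of_mul_eq_one_right (by rw [← pow_two]; exact hsq z hz)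
  show (p : G) * q = q * p
  calc (p : G) * q = ((p : G) * q)⁻¹ := (e _ (mul_mem p.2 q.2)).symm
    _ = q * p := by rw [mul_inv_rev, e _ p.2, e _ q.2]

end MaxData

end Cfsg.Lib.Goldschmidt.RankTwo
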