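import Cfsg.Agent.Goldschmidt.RankTwo.Fixed
import Cfsg.Agent.Goldschmidt.S1.Local

/-!
Rank two: the facts about the centralisers of the involutions of `C(A)`, from the core-free layer.
-/

set_option autoImplicit false
set_option linter.unusedSectionVars false
set_option linter.style.haveILetI false

namespace Cfsg.Lib.Goldschmidt.RankTwo

open Subgroup Cfsg.Lib.Components
open Cfsg.Lib.Walter (IsComp Triv Oc qm bar Qt)
open scoped commutatorElement

universe u

variable {G : Type u} [Group G] [Finite G] {S : Sylow 2 G} {A : Subgroup G}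

theorem mk_loc (h : Min S A) {y : G} (hy : y ∈ centralizer (A : Set G)) (hy2 : orderOf y = 2) : Loc S A y :=
  ⟨h, fun a ha => mem_centralizer_singleton_iff.2 (mem_centralizer_iff.1 hy a ha),
    fun e => by rw [e, orderOf_one] at hy2; omega⟩

theorem moved_mov (h : Min S A) {y : G} {L : Subgroup G} (hy : y ∈ centralizer (A : Set G)) (hy2 : orderOf y = 2)
    (hm : MovedAt A y L) : Mov (bar y A) (bar y L) :=
  ((mk_loc h hy hy2).mov_iff hm.1).2 fun hle => hm.2 (hle.trans inf_le_right)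

theorem za_bot (h : Min S A) (h4 : Nat.card A = 4) {y : G} {L : Subgroup G} (hy : y ∈ centralizer (A : Set G))
    (hy2 : orderOf y = 2) (hm : MovedAt A y L) : ZA A y L = ⊥ := by
  have hl := mk_loc h hy hy2
  have hidx := hl.coreFree.four_le_index (hl.comp hm.1) (moved_mov h hy hy2 hm)
  rw [← hl.relIndex_za hm.1] at hidx
  have e := Cfsg.Lib.KBal.card_mul_relIndex' (A := A) (B := ZA A y L) inf_le_left
  rw [h4] at e
  refine Subgroup.eq_bot_of_card_eq _ ?_
  have := Nat.mul_le_mul_left (Nat.card ↥(ZA A y L)) hidx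
  have : 0 < Nat.card ↥(ZA A y L) := Nat.card_pos
  omega

theorem le_moved' (h : Min S A) (h4 : Nat.card A = 4) {y : G} {L : Subgroup G} (hy : y ∈ centralizer (A : Set G))
    (hy2 : orderOf y = 2) (hm : MovedAt A y L) : A ≤ L := fun a ha => by
  obtain ⟨v, hv, hvc⟩ := (mk_loc h hy hy2).exists_part hm.1 (moved_mov h hy hy2 hm) ha
  rw [za_bot h h4 hy hy2 hm, mem_bot, inv_mul_eq_one] at hvc
  exact hvc ▸ hv.2

theorem normalizer_comp (h : Min S A) (h4 : Nat.card A = 4) {y g : G} {L : Subgroup G}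
    (hy : y ∈ centralizer (A : Set G)) (hy2 : orderOf y = 2) (hm : MovedAt A y L)
    (hgy : g ∈ centralizer ({y} : Set G)) (hgA : g ∈ centralizer (A : Set G)) : g ∈ normalizer (L : Set G) := by
  haveI : Fact (Nat.Prime 2) := ⟨Nat.prime_two⟩
  have hgC : g ∈ normalizer ((centralizer ({y} : Set G) : Subgroup G) : Set G) := le_normalizer hgy
  have hc := PTerminal.pcompOf_conj hm.1 g
  rw [PTerminal.map_conj_of_mem hgC] at hc
  set L' := L.map (MulAut.conj g).toMonoidHom
  have hAL : A ≤ L' := fun a ha => ⟨a, le_moved' h h4 hy hy2 hm ha, by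
    show g * a * g⁻¹ = a
    rw [← mem_centralizer_iff.1 hgA a ha, mul_inv_cancel_right]⟩
  have e : L' = L := by
    by_contra hne
    exact hm.2 (hAL.trans (PTerminal.pcompOf_le_cent hm.1 hc (Ne.symm hne)))
  exact mem_normalizer_iff_map_conj_eq.2 e

/-- Off the small types balance holds. -/
theorem harmless_of_not_small (hX : Ctx S A) {y : G} (hy : y ∈ centralizer (A : Set G)) (hy2 : orderOf y = 2)
    (hns : ∀ L, MovedAt A y L → ¬ Small (↥(bar y L) ⧸ center ↥(bar y L))) : Harmless A y := by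
  haveI : Fact (Nat.Prime 2) := ⟨Nat.prime_two⟩
  have hl := mk_loc hX.min hy hy2
  have key : ∀ {b x : G}, b ∈ A → x ∈ Oc b → x ∈ centralizer ({y} : Set G) → x ∈ Oc y := fun {b x} hb hx hxy => by
    refine Walter.mem_Oc.2 ⟨hxy, hl.coreFree.faith (hl.mem_barA.2 ⟨b, hb, rfl⟩) (hl.core_image hb hx hxy)
      fun K hK hmK => ?_⟩
    obtain ⟨L, hL, rfl⟩ := hl.exists_comp hK
    have hm : MovedAt A y L := ⟨hL, fun hle => (hl.mov_iff hL).1 hmK fun a ha => ⟨ha, hle ha⟩⟩
    exact hl.coreFree.core_moved (hl.mem_barA.2 ⟨b, hb, rfl⟩) hK hmK (hns L hm) (hl.core_image hb hx hxy)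
  refine ⟨fun D hD hAD hodd => commutator_le.2 fun d hd a ha => ?_, fun x hx => ?_⟩
  · -- the elements commuting with `A` modulo the core
    let M : Subgroup G :=
      { carrier := {g | g ∈ centralizer ({y} : Set G) ∧ ∀ c ∈ A, ⁅g, c⁆ ∈ Oc y}
        one_mem' := ⟨one_mem _, fun c _ => by rw [commutatorElement_one_left]; exact one_mem _⟩
        mul_mem' := fun {p q} hp hq => ⟨mul_mem hp.1 hq.1, fun c hc => by
          rw [Cfsg.Lib.CommFixedGen.comm_mul_left]
          exact mul_mem ((mem_normalizer_iff.1 (Cfsg.Lib.LFourType.Oc_normalized hp.1) _).1 (hq.2 c hc)) (hp.2 c hc)⟩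
        inv_mem' := fun {p} hp => ⟨inv_mem hp.1, fun c hc => by
          rw [show ⁅p⁻¹, c⁆ = p⁻¹ * ⁅p, c⁆⁻¹ * p by simp only [commutatorElement_def]; group]
          exact (mem_normalizer_iff''.1 (Cfsg.Lib.LFourType.Oc_normalized hp.1) _).1 (inv_mem (hp.2 c hc))⟩ }
    have hDM : D ≤ M := Cfsg.Lib.LFourType.le_of_four' hX.card.ge
      (fun p hp q hq => hX.comm hp hq) hX.min.sq hodd hAD fun b hb hb1 g hg => by
        refine ⟨hD hg.1, fun c hc => ?_⟩
        have h1 : ⁅g, c⁆ ∈ Oc b := hX.comm_le hb hb1 (D := zpowers g) (zpowers_le.2 hg.2)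
          (commutator_mem_commutator (mem_zpowers g) hc)
        have hcy := hl.cent hc
        exact key hb h1 (mul_mem (mul_mem (mul_mem (hD hg.1) hcy) (inv_mem (hD hg.1))) (inv_mem hcy))
    exact (hDM hd).2 a ha
  · obtain ⟨b, hb, hb1, -⟩ := hX.ne_one_two (z := 1)
    exact key hb (hX.kappa_le_Oc hb hb1 (mem_inf.1 hx).1) (mem_inf.1 hx).2

/-- The facts follow from the induction hypothesis. -/
theorem factsOf (hX : Ctx S A) : Facts A := by
  refine ⟨fun {y L} hy hy2 hm => ?_, fun {y} hy hy2 hbad => ?_⟩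
  · have hl := mk_loc hX.min hy hy2
    obtain ⟨r, hrL, hrN, -, htr, -, -⟩ := hl.rot_lift hm.1 (moved_mov hX.min hy hy2 hm)
    refine ⟨hl.le_norm hm.1, r, hrL, hrN, fun hrA => ?_⟩
    obtain ⟨a, ha, ha1, -⟩ := hX.ne_one_two (z := 1)
    obtain ⟨c, hc, hc1, hca⟩ := hX.ne_one_two (z := a)
    have hz := za_bot hX.min hX.card hy hy2 hm
    obtain ⟨k, hk⟩ := htr a ha c hc (by rw [hz, mem_bot]; exact ha1) (by rw [hz, mem_bot]; exact hc1)
    rw [hz, mem_bot, inv_mul_eq_one] at hk
    refine hca ?_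
    rw [← hk, (show Commute (r ^ k) a from ((show Commute r a from (mem_centralizer_iff.1 hrA a ha).symm).pow_left k)).eq,
      mul_inv_cancel_right]
  · obtain ⟨L, hm, hs⟩ : ∃ L, MovedAt A y L ∧ Small (↥(bar y L) ⧸ center ↥(bar y L)) := by
      by_contra hno
      push Not at hno
      exact hbad (harmless_of_not_small hX hy hy2 hno)
    exact ⟨L, hm, fun g hgy hgA h2 => (mk_loc hX.min hy hy2).inner_lift hm.1 (moved_mov hX.min hy hy2 hm) hs hgy hgA
      (normalizer_comp hX.min hX.card hy hy2 hm hgy hgA) h2⟩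

end Cfsg.Lib.Goldschmidt.RankTwo
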