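import Cfsg.Agent.Goldschmidt.RankTwo.Base
import Cfsg.Agent.AltEightType.Core

/-!
Rank two: `C(a) = O(C(a)) C(A)`, the fixed points of `[Y, A]`, and the criteria for properness.
-/

set_option autoImplicit false
set_option linter.unusedSectionVars false
set_option linter.style.haveILetI false

namespace Cfsg.Lib.Goldschmidt.RankTwo

open Subgroup Cfsg.Lib.Components
open Cfsg.Lib.Walter (IsComp Oc)
open Cfsg.Lib.CoreSep (part)
open Cfsg.Lib.AltEightType (odd_sup)
open Cfsg.Lib.LFourType (odd_Oc Oc_normalized le_of_four')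
open scoped commutatorElement

universe u

variable {G : Type u} [Group G] [Finite G] {S : Sylow 2 G} {A : Subgroup G}

namespace Ctx

variable (h : Ctx S A)
include h

theorem comm {x y : G} (hx : x ∈ A) (hy : y ∈ A) : Commute x y := h.min.comm x hx y hy

theorem cent_le_normalizer : centralizer (A : Set G) ≤ normalizer (A : Set G) := centralizer_le_normalizer _

theorem le_cent_self : A ≤ centralizer (A : Set G) := fun x hx =>
  mem_centralizer_iff.2 fun y hy => (h.comm hy hx).eq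

theorem cent_le_cent_singleton {a : G} (ha : a ∈ A) : centralizer (A : Set G) ≤ centralizer ({a} : Set G) :=
  centralizer_le (Set.singleton_subset_iff.2 ha)

/-- An element of `N(A)` fixing an involution of `A` centralises `A`. -/
theorem cent_of_fix {g a : G} (hg : g ∈ normalizer (A : Set G)) (ha : a ∈ A) (ha1 : a ≠ 1)
    (hfix : g * a * g⁻¹ = a) : g ∈ centralizer (A : Set G) := by
  haveI : Fact (Nat.Prime 2) := ⟨Nat.prime_two⟩
  obtain ⟨w, hw, hw1, hwa⟩ := h.ne_one_two (z := a)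
  set N := normalizer (A : Set G)
  have hCN : ∀ n ∈ N, ∀ c ∈ centralizer (A : Set G), n * c * n⁻¹ ∈ centralizer (A : Set G) := fun n hn c hc =>
    mem_centralizer_iff.2 fun x hx => by
      have hx' : n⁻¹ * x * n ∈ A := (mem_normalizer_iff''.1 hn x).1 hx
      have := congrArg (fun u => n * u * n⁻¹) (mem_centralizer_iff.1 hc _ hx')
      simpa [mul_assoc] using this
  have hall : ∀ u : G, u * a * u⁻¹ = a → u * w * u⁻¹ = w → u ∈ centralizer (A : Set G) := fun u e1 e2 =>
    mem_centralizer_iff.2 fun x hx => by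
      have ca : Commute a u := (mul_inv_eq_iff_eq_mul.1 e1).symm
      have cw : Commute w u := (mul_inv_eq_iff_eq_mul.1 e2).symm
      rcases four_cases h.card h.min.sq ha ha1 hw hw1 hwa hx with e | e | e | e <;> rw [e]
      · simp
      · exact ca.eq
      · exact cw.eq
      · exact (ca.mul_left cw).eq
  have hgw : g * w * g⁻¹ = w ∨ g * w * g⁻¹ = a * w := by
    rcases four_cases h.card h.min.sq ha ha1 hw hw1 hwa ((mem_normalizer_iff.1 hg w).1 hw) with e | e | e | e
    · exact absurd (conj_eq_one_iff.1 e) hw1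
    · exact absurd (mul_left_cancel (mul_right_cancel (e.trans hfix.symm))) hwa
    · exact Or.inl e
    · exact Or.inr e
  have h2 : g * g ∈ centralizer (A : Set G) := by
    refine hall _ (by rw [show g * g * a * (g * g)⁻¹ = g * (g * a * g⁻¹) * g⁻¹ by group, hfix, hfix]) ?_
    rw [show g * g * w * (g * g)⁻¹ = g * (g * w * g⁻¹) * g⁻¹ by group]
    rcases hgw with e | e
    · rw [e, e]
    · rw [e, ← _root_.conj_mul, hfix, e, ← mul_assoc, h.min.sq a ha, one_mul]
  obtain ⟨k, m, hm, ho⟩ := Nat.exists_eq_two_pow_mul_odd (orderOf_pos g).ne'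
  have hp : IsPGroup 2 (zpowers (g ^ m)) := by
    refine IsPGroup.of_card (n := k) ?_
    rw [Nat.card_zpowers, orderOf_pow' g hm.pos.ne', Nat.gcd_eq_right (Dvd.intro_left _ ho.symm), ho,
      Nat.mul_div_cancel _ hm.pos]
  obtain ⟨P, hP⟩ := (hp.of_equiv (subgroupOfEquivOfLe (zpowers_le.2 (pow_mem hg m) : zpowers (g ^ m) ≤ N)).symm).exists_le_sylow
  obtain ⟨n, hn⟩ := MulAction.exists_smul_eq (↥N) P (S.subtype (sylow_le_normalizer h.min.closed))
  have hgS : (n : G) * g ^ m * (n : G)⁻¹ ∈ (S : Subgroup G) := by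
    have hin : n * (⟨g ^ m, pow_mem hg m⟩ : ↥N) * n⁻¹ ∈ (S.subtype (sylow_le_normalizer h.min.closed) : Subgroup ↥N) := by
      rw [← hn, Sylow.coe_subgroup_smul]
      exact ⟨_, hP (mem_subgroupOf.2 (mem_zpowers _)), rfl⟩
    exact hin
  have hgm : g ^ m ∈ centralizer (A : Set G) := by
    have := hCN _ (inv_mem n.2) _ (h.le_center hgS)
    rwa [show (n : G)⁻¹ * ((n : G) * g ^ m * (n : G)⁻¹) * (n : G)⁻¹⁻¹ = g ^ m by group] at this
  obtain ⟨j, rfl⟩ := hm
  have h2j : g ^ (2 * j) ∈ centralizer (A : Set G) := by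
    rw [pow_mul, pow_two]; exact pow_mem h2 j
  rw [show g = (g ^ (2 * j))⁻¹ * g ^ (2 * j + 1) by rw [pow_succ]; group]
  exact mul_mem (inv_mem h2j) hgm

theorem cent_decomp' {a g : G} (ha : a ∈ A) (ha1 : a ≠ 1) (hg : g ∈ centralizer ({a} : Set G)) :
    ∃ o ∈ Oc a, ∃ n ∈ centralizer (A : Set G), g = o * n := by
  obtain ⟨o, ho, n, hn, hna, e⟩ := h.cent_decomp ha ha1 hg
  exact ⟨o, ho, n, h.cent_of_fix hn ha ha1
    (mul_inv_eq_iff_eq_mul.2 (mem_centralizer_singleton_iff.1 hna)), e⟩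

theorem le_normalizer_Oc {y : G} (hy : y ∈ centralizer (A : Set G)) : A ≤ normalizer (Oc y : Set G) := fun a ha =>
  Oc_normalized (mem_centralizer_singleton_iff.2 (mem_centralizer_iff.1 hy a ha))

/-- `[C(a), A] ≤ O(C(a))`. -/
theorem comm_le {a : G} (ha : a ∈ A) (ha1 : a ≠ 1) {D : Subgroup G} (hD : D ≤ centralizer ({a} : Set G)) :
    ⁅D, A⁆ ≤ Oc a := commutator_le.2 fun d hd b hb => by
  obtain ⟨o, ho, n, hn, rfl⟩ := h.cent_decomp' ha ha1 (hD hd)
  rw [Cfsg.Lib.CommFixedGen.comm_mul_left,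
    commutatorElement_eq_one_iff_mul_comm.2 (mem_centralizer_iff.1 hn b hb).symm, mul_one, mul_inv_cancel, one_mul]
  exact Cfsg.Lib.Coprime.commutator_le_of_le_normalizer (h.le_normalizer_Oc (h.le_cent_self ha))
    (commutator_mem_commutator ho hb)

theorem Oc_inf_le_kappa {a : G} (ha : a ∈ A) : Oc a ⊓ centralizer (A : Set G) ≤ kappa A :=
  PTerminal.le_core inf_le_right
    (fun _ hc => Cfsg.Lib.Coprime.le_normalizer_inf
      ((h.cent_le_cent_singleton ha).trans fun _ hx => Oc_normalized hx) le_normalizer hc)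
    (Nat.coprime_two_right.2 ((odd_Oc a).of_dvd_nat (card_dvd_of_le inf_le_left)))

theorem kappa_le : kappa A ≤ centralizer (A : Set G) := PTerminal.core_le _

theorem odd_kappa : Odd (Nat.card (kappa A)) := Nat.coprime_two_right.1 (PTerminal.card_core _)

theorem kappa_le_Oc {a : G} (ha : a ∈ A) (ha1 : a ≠ 1) : kappa A ≤ Oc a := by
  have hCa := h.cent_le_cent_singleton ha
  have hn : kappa A ≤ normalizer (Oc a : Set G) := fun x hx => Oc_normalized (hCa (h.kappa_le hx))
  refine le_trans (le_sup_right : _ ≤ Oc a ⊔ kappa A) (Cfsg.Lib.LFourType.le_Oc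
    (sup_le (centralizerPPrimeCore_le_centralizer a) (h.kappa_le.trans hCa)) (fun g hg => ?_)
    (odd_sup (odd_Oc a) h.odd_kappa hn))
  obtain ⟨o, ho, c, hc, rfl⟩ := h.cent_decomp' ha ha1 hg
  exact mul_mem (le_normalizer (mem_sup_left ho))
    (Cfsg.Lib.Coprime.le_normalizer_sup ((hCa).trans fun _ hx => Oc_normalized hx)
      (PTerminal.le_normalizer_core _) hc)

/-- `C_{[Y, A]}(A) ≤ O(C(A))` for `Y` of odd order. -/
theorem fixed_le {Y : Subgroup G} (hY : A ≤ normalizer (Y : Set G)) (hodd : Odd (Nat.card Y)) :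
    ⁅Y, A⁆ ⊓ centralizer (A : Set G) ≤ kappa A := by
  have hcop : ∀ X : Subgroup G, Odd (Nat.card X) → (Nat.card A).Coprime (Nat.card X) := fun X hX => by
    rw [h.card, show (4 : ℕ) = 2 ^ 2 from rfl]
    exact (Nat.coprime_two_left.2 hX).pow_left 2
  have hsol : Group.IsSolvable ↥A := Group.isSolvable_of_comm fun a b => Subtype.ext (h.comm a.2 b.2).eq
  have hYle := Cfsg.Lib.Coprime.commutator_le_of_le_normalizer hY
  have hoY : Odd (Nat.card ↥⁅Y, A⁆) := hodd.of_dvd_nat (card_dvd_of_le hYle)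
  have hs : Cfsg.Lib.CommFixedGen.Setup A A ⁅Y, A⁆ :=
    ⟨h.min.elemAb.1, le_rfl, Cfsg.Lib.Coprime.le_normalizer_commutator_right A _, hcop _ hoY,
      Cfsg.Lib.Coprime.commutator_commutator_eq hY (hcop Y hodd) (Or.inl hsol)⟩
  rw [hs.fixed_eq_gen (odd_solvable hoY)]
  refine iSup₂_le fun C hC z hz => ?_
  obtain ⟨hCA, b, hb, hgen⟩ := hC
  obtain ⟨e, heC, he1⟩ : ∃ e ∈ C, e ≠ 1 := by
    by_contra hne
    push Not at hne
    have hC0 : C = ⊥ := (eq_bot_iff_forall _).mpr hne
    have hzb : zpowers b = A := by rw [← hgen, hC0, bot_sup_eq]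
    have : Nat.card ↥A ≤ 2 := by
      rw [← hzb, Nat.card_zpowers]
      exact Nat.le_of_dvd (by norm_num) (orderOf_dvd_of_pow_eq_one (by rw [pow_two]; exact h.min.sq b hb))
    rw [h.card] at this
    omega
  refine h.Oc_inf_le_kappa (hCA heC) (mem_inf.2 ⟨?_, hz.1.2⟩)
  refine h.comm_le (hCA heC) he1 ?_ hz.2
  exact inf_le_right.trans (centralizer_le (Set.singleton_subset_iff.mpr heC))

theorem sup_le_part {V : Subgroup G} {y : G} (hV : A ≤ normalizer (V : Set G)) (hVO : V ≤ Oc y)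
    (hfix : V ⊓ centralizer (A : Set G) ≤ kappa A) : V ≤ part A y := by
  have hcop : (Nat.card A).Coprime (Nat.card V) := by
    rw [h.card, show (4 : ℕ) = 2 ^ 2 from rfl]
    exact (Nat.coprime_two_left.2 ((odd_Oc y).of_dvd_nat (card_dvd_of_le hVO))).pow_left 2
  rw [← Cfsg.Lib.Coprime.commutator_sup_centralizer hV hcop
    (Or.inl (Group.isSolvable_of_comm fun a b => Subtype.ext (h.comm a.2 b.2).eq))]
  exact sup_le_sup (commutator_mono hVO le_rfl) (le_inf (inf_le_left.trans hVO) hfix)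

theorem part_self {a : G} (ha : a ∈ A) : part A a = Oc a :=
  le_antisymm (Cfsg.Lib.CoreSep.Pair.part_le (h.le_normalizer_Oc (h.le_cent_self ha)))
    (h.sup_le_part (h.le_normalizer_Oc (h.le_cent_self ha)) le_rfl (h.Oc_inf_le_kappa ha))

theorem part_fixed {y : G} (hy : y ∈ centralizer (A : Set G)) :
    part A y ⊓ centralizer (A : Set G) ≤ kappa A := by
  intro x hx
  have hn : Oc y ⊓ kappa A ≤ normalizer ((⁅Oc y, A⁆ : Subgroup G) : Set G) :=
    inf_le_left.trans (Cfsg.Lib.Coprime.le_normalizer_commutator_left A _)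
  have hx1 : x ∈ ((⁅Oc y, A⁆ ⊔ Oc y ⊓ kappa A : Subgroup G) : Set G) := (mem_inf.1 hx).1
  rw [coe_mul_of_right_le_normalizer_left _ _ hn] at hx1
  obtain ⟨n, hn', w, hw, rfl⟩ := hx1
  refine mul_mem (h.fixed_le (h.le_normalizer_Oc hy) (odd_Oc y) (mem_inf.2 ⟨hn', ?_⟩)) (mem_inf.1 hw).2
  have := mul_mem (mem_inf.1 hx).2 (inv_mem (h.kappa_le (mem_inf.1 hw).2))
  simpa using this

/-- An odd `A`-invariant subgroup of `C(y)` normalises `[O, A](O ∩ O(C(A)))` at `y`. -/
theorem le_normalizer_part {y : G} (hy : y ∈ centralizer (A : Set G)) {D : Subgroup G}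
    (hD : D ≤ centralizer ({y} : Set G)) (hAD : A ≤ normalizer (D : Set G)) (hodd : Odd (Nat.card D)) :
    D ≤ normalizer (part A y : Set G) := by
  have hDO : D ≤ normalizer (Oc y : Set G) := fun d hd => Oc_normalized (hD hd)
  have hAO := h.le_normalizer_Oc hy
  have hcop : (Nat.card A).Coprime (Nat.card D) := by
    rw [h.card, show (4 : ℕ) = 2 ^ 2 from rfl]
    exact (Nat.coprime_two_left.2 hodd).pow_left 2
  rw [← Cfsg.Lib.Coprime.commutator_sup_centralizer hAD hcop
    (Or.inl (Group.isSolvable_of_comm fun a b => Subtype.ext (h.comm a.2 b.2).eq))]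
  refine sup_le (fun g hg => ?_) ?_
  · have hgD := Cfsg.Lib.Coprime.commutator_le_of_le_normalizer hAD hg
    set Y := Oc y ⊔ D
    have hAY : A ≤ normalizer (Y : Set G) := Cfsg.Lib.Coprime.le_normalizer_sup hAO hAD
    have hY : Odd (Nat.card Y) := odd_sup (odd_Oc y) hodd hDO
    set V := ⁅Y, A⁆ ⊓ Oc y
    have hV : V ≤ part A y := h.sup_le_part
      (Cfsg.Lib.Coprime.le_normalizer_inf (Cfsg.Lib.Coprime.le_normalizer_commutator_right A Y) hAO)
      inf_le_right ((inf_le_inf_right _ inf_le_left).trans (h.fixed_le hAY hY))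
    have hgY : g ∈ ⁅Y, A⁆ := commutator_mono le_sup_right le_rfl hg
    refine ZStarApps.mem_normalizer_of_maps fun p hp => ?_
    have hpO : p ∈ Oc y := Cfsg.Lib.CoreSep.Pair.part_le hAO hp
    have hgp : g * p * g⁻¹ * p⁻¹ ∈ V := by
      refine mem_inf.2 ⟨?_, mul_mem ((mem_normalizer_iff.1 (hDO hgD) p).1 hpO) (inv_mem hpO)⟩
      rw [show g * p * g⁻¹ * p⁻¹ = g * (p * g⁻¹ * p⁻¹) by group]
      exact mul_mem hgY ((mem_normalizer_iff.1
        (Cfsg.Lib.Coprime.le_normalizer_commutator_left A Y (mem_sup_left hpO)) _).1 (inv_mem hgY))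
    rw [show g * p * g⁻¹ = g * p * g⁻¹ * p⁻¹ * p by group]
    exact mul_mem (hV hgp) hp
  · intro g hg
    obtain ⟨hgD, hgA⟩ := mem_inf.1 hg
    refine normalizer_inf_normalizer_le_normalizer_sup _ _ (mem_inf.2 ⟨?_, ?_⟩)
    · exact Cfsg.Lib.CommFixedGen.le_normalizer_commutator (X := D ⊓ centralizer (A : Set G))
        (inf_le_left.trans hDO) (inf_le_right.trans (centralizer_le_normalizer _)) hg
    · exact Cfsg.Lib.Coprime.le_normalizer_inf (H := D ⊓ centralizer (A : Set G)) (inf_le_left.trans hDO)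
        (inf_le_right.trans (PTerminal.le_normalizer_core _)) hg

/-- A proper subgroup containing all the cores suffices. -/
theorem proper_of_cores {M : Subgroup G} (hM : M ≠ ⊤) (hle : ∀ a ∈ A, a ≠ 1 → Oc a ≤ M) : Proper A := by
  haveI := h.min.simple
  set N := normalizer (A : Set G)
  set Γ₀ : Subgroup G := ⨆ a : {a : G // a ∈ A ∧ a ≠ 1}, Oc (a : G) with hΓ
  have hO : ∀ a ∈ A, a ≠ 1 → Oc a ≤ Γ₀ := fun a ha ha1 =>
    le_iSup (fun a : {a : G // a ∈ A ∧ a ≠ 1} => Oc (a : G)) ⟨a, ha, ha1⟩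
  have hN : N ≤ normalizer (Γ₀ : Set G) := fun n hn => ZStarApps.mem_normalizer_of_maps fun x hx => by
    have hle' : Γ₀ ≤ Γ₀.comap (MulAut.conj n).toMonoidHom := iSup_le fun a z hz =>
      hO _ ((mem_normalizer_iff.1 hn _).1 a.2.1) (fun e => a.2.2 (conj_eq_one_iff.1 e))
        (Cfsg.Lib.LFourType.conj_Oc n a hz)
    exact hle' hx
  have hC : ∀ a ∈ A, a ≠ 1 → centralizer ({a} : Set G) ≤ normalizer (Γ₀ : Set G) := fun a ha ha1 g hg => by
    obtain ⟨o, ho, n, hn, rfl⟩ := h.cent_decomp' ha ha1 hg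
    exact mul_mem (le_normalizer (hO a ha ha1 ho)) (hN (h.cent_le_normalizer hn))
  by_cases htop : normalizer (Γ₀ : Set G) = ⊤
  · haveI : Γ₀.Normal := normalizer_eq_top_iff.1 htop
    rcases IsSimpleGroup.eq_bot_or_eq_top_of_normal Γ₀ inferInstance with e | e
    · refine h.min.proper_of_le (M := N) ?_ fun a ha ha1 g hg => ?_
      · intro e'
        haveI : A.Normal := normalizer_eq_top_iff.1 e'
        rcases IsSimpleGroup.eq_bot_or_eq_top_of_normal A inferInstance with e'' | e''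
        · exact h.min.ne_bot e''
        · exact h.min.nonab ⟨⟨fun p q => (h.comm (e''.symm ▸ mem_top p) (e''.symm ▸ mem_top q)).eq⟩⟩
      · obtain ⟨o, ho, n, hn, rfl⟩ := h.cent_decomp' ha ha1 hg
        have := hO a ha ha1 ho
        rw [e, mem_bot] at this
        rw [this, one_mul]
        exact h.cent_le_normalizer hn
    · exact absurd (top_le_iff.1 (e ▸ iSup_le fun a => hle _ a.2.1 a.2.2)) hM
  · exact h.min.proper_of_le htop hC

/-- A non-trivial subgroup of odd order normalised by all the cores suffices. -/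
theorem proper_of_odd {W : Subgroup G} (hW : Odd (Nat.card W)) (hW1 : W ≠ ⊥)
    (hle : ∀ a ∈ A, a ≠ 1 → Oc a ≤ normalizer (W : Set G)) : Proper A := by
  haveI := h.min.simple
  refine h.proper_of_cores (M := normalizer (W : Set G)) (fun e => ?_) hle
  haveI : W.Normal := normalizer_eq_top_iff.1 e
  obtain ⟨a, ha, ha1, -⟩ := h.ne_one_two (z := 1)
  rcases IsSimpleGroup.eq_bot_or_eq_top_of_normal W inferInstance with e' | e'
  · exact hW1 e'
  · rw [e', card_top] at hW
    exact Nat.not_even_iff_odd.2 hW (even_iff_two_dvd.2 (h.min.ord_two ha ha1 ▸ orderOf_dvd_natCard a))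

/-- `N(A)` controls all fusion in the Sylow subgroup. -/
theorem fusion_all {x g : G} (hx : x ∈ (S : Subgroup G)) (hy : g * x * g⁻¹ ∈ (S : Subgroup G)) :
    ∃ n ∈ normalizer (A : Set G), n * x * n⁻¹ = g * x * g⁻¹ := by
  have hxA := h.le_center hx
  obtain ⟨e, he, hn⟩ := conj_within (g := g) (g' := 1) h.min.closed (H := centralizer ({g * x * g⁻¹} : Set G))
    (fun a ha => mem_centralizer_singleton_iff.2 (by
      have := congrArg (fun w => g * w * g⁻¹) (mem_centralizer_iff.1 hxA a ha)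
      simpa [mul_assoc] using this))
    fun a ha => by
      rw [one_mul, inv_one, mul_one]
      exact mem_centralizer_singleton_iff.2 (mem_centralizer_iff.1 (h.le_center hy) a ha)
  rw [inv_one, one_mul] at hn
  refine ⟨e * g, hn, ?_⟩
  rw [show e * g * x * (e * g)⁻¹ = e * (g * x * g⁻¹) * e⁻¹ by group, mem_centralizer_singleton_iff.1 he,
    mul_inv_cancel_right]

end Ctx

end Cfsg.Lib.Goldschmidt.RankTwo
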