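import Cfsg.Agent.Goldschmidt.RankTwo.CaseOne

/-!
Rank two, no bad involution in the centre of the Sylow subgroup: the centralisers in it of the involutions outside `A`
are abelian, and the largest ones are Sylow in the centralisers in `C(A)`.
-/

set_option autoImplicit false
set_option linter.unusedSectionVars false
set_option linter.style.haveILetI false

namespace Cfsg.Lib.Goldschmidt.RankTwo

open Subgroup Cfsg.Lib.Components
open scoped commutatorElement

universe u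

variable {G : Type u} [Group G] [Finite G] {S : Sylow 2 G} {A : Subgroup G}

/-- `C_S(x)`. -/
abbrev Cs (S : Sylow 2 G) (x : G) : Subgroup G := (S : Subgroup G) ⊓ centralizer ({x} : Set G)

/-- An involution of the Sylow subgroup outside `A`. -/
def Inv (S : Sylow 2 G) (A : Subgroup G) (x : G) : Prop := x ∈ (S : Subgroup G) ∧ x ∉ A ∧ x * x = 1

/-- Its centraliser in the Sylow subgroup is as large as possible. -/
def IsMax (S : Sylow 2 G) (A : Subgroup G) (x : G) : Prop :=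
  Inv S A x ∧ ∀ z, Inv S A z → Nat.card ↥(Cs S z) ≤ Nat.card ↥(Cs S x)

theorem mem_Cs {x s : G} : s ∈ Cs S x ↔ s ∈ (S : Subgroup G) ∧ Commute s x := by
  rw [mem_inf, mem_centralizer_singleton_iff]
  rfl

theorem mem_of_pow_coprime {H : Subgroup G} {u : G} {a b : ℕ} (hab : a.Coprime b) (ha : u ^ a ∈ H)
    (hb : u ^ b ∈ H) : u ∈ H := by
  have h : u ^ ((Nat.gcd a b : ℕ) : ℤ) ∈ H := by
    rw [Nat.gcd_eq_gcd_ab, zpow_add, zpow_mul, zpow_mul, zpow_natCast, zpow_natCast]
    exact mul_mem (zpow_mem ha _) (zpow_mem hb _)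
  rwa [hab.gcd_eq_one, Nat.cast_one, zpow_one] at h

theorem exists_involution {N : Subgroup G} (hN : IsPGroup 2 N) (hne : N ≠ ⊥) : ∃ c ∈ N, c * c = 1 ∧ c ≠ 1 := by
  haveI : Fact (Nat.Prime 2) := ⟨Nat.prime_two⟩
  obtain ⟨k, hk⟩ := IsPGroup.iff_card.1 hN
  have hk0 : k ≠ 0 := fun e => hne (Subgroup.eq_bot_of_card_eq N (by rw [hk, e, pow_zero]))
  obtain ⟨c, hc⟩ := exists_prime_orderOf_dvd_card' 2 (hk ▸ dvd_pow_self 2 hk0 : 2 ∣ Nat.card N)
  refine ⟨c, c.2, ?_, fun e => ?_⟩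
  · have := pow_orderOf_eq_one c
    rw [hc, pow_two] at this
    exact congrArg Subtype.val this
  · rw [show c = 1 from Subtype.ext e, orderOf_one] at hc
    omega

/-- A normal subgroup of a 2-group contains a central involution. -/
theorem exists_fixed_involution {N Z : Subgroup G} (hN : IsPGroup 2 N) (hZN : Z ≤ N)
    (hn : N ≤ normalizer (Z : Set G)) (hne : Z ≠ ⊥) : ∃ c ∈ Z, c * c = 1 ∧ c ≠ 1 ∧ ∀ n ∈ N, Commute n c := by
  haveI : Fact (Nat.Prime 2) := ⟨Nat.prime_two⟩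
  haveI : (Z.subgroupOf N).Normal := normal_subgroupOf_of_le_normalizer hn
  haveI : Group.IsNilpotent ↥N := hN.isNilpotent
  have hne' : Z.subgroupOf N ≠ ⊥ := fun e => hne (by rw [← map_subgroupOf_eq_of_le hZN, e, Subgroup.map_bot])
  set I := (Z.subgroupOf N ⊓ center ↥N).map N.subtype
  have hI : I ≠ ⊥ := fun e => Cfsg.Lib.Coprime.inf_center_ne_bot (Z.subgroupOf N) hne'
    ((Subgroup.map_eq_bot_iff_of_injective _ N.subtype_injective).1 e)
  obtain ⟨c, hc, hcc, hc1⟩ := exists_involution (hN.to_le (map_subtype_le _)) hI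
  obtain ⟨c', hc', rfl⟩ := hc
  exact ⟨c', (mem_inf.1 hc').1, hcc, hc1,
    fun n hn => congrArg Subtype.val (mem_center_iff.1 (mem_inf.1 hc').2 ⟨n, hn⟩)⟩

/-- The configuration without a bad involution in the centre of the Sylow subgroup. -/
structure Two (S : Sylow 2 G) (A : Subgroup G) : Prop where
  ctx : Ctx S A
  facts : Facts A
  hall : ∀ y ∈ (S : Subgroup G), y ∉ A → y * y = 1 → ∃ a ∈ A, ¬ Harmless A (a * y)
  none : ∀ x, Inv S A x → Cs S x ≠ (S : Subgroup G)

namespace Two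

variable (h : Two S A)
include h

theorem Cs_mul {a x : G} (ha : a ∈ A) : Cs S (a * x) = Cs S x := by
  have key : ∀ (b w s : G), b ∈ A → s ∈ (S : Subgroup G) → Commute s w → Commute s (b * w) := fun b w s hb hs hc =>
    (show Commute b s from mem_centralizer_iff.1 (h.ctx.le_center hs) b hb).symm.mul_right hc
  ext s
  rw [mem_Cs, mem_Cs]
  refine ⟨fun hs => ⟨hs.1, ?_⟩, fun hs => ⟨hs.1, key a x s ha hs.1 hs.2⟩⟩
  have := key a⁻¹ (a * x) s (inv_mem ha) hs.1 hs.2
  rwa [inv_mul_cancel_left] at this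

theorem le_Cs {x : G} (hx : x ∈ (S : Subgroup G)) : A ≤ Cs S x := fun a ha =>
  mem_Cs.2 ⟨h.ctx.min.le ha, mem_centralizer_iff.1 (h.ctx.le_center hx) a ha⟩

/-- Every involution of the coset has a complement centralised by a rotation. -/
theorem complement {x : G} (hx : Inv S A x) : ∃ (Y : Subgroup G) (r : G) (y : G), Y ≤ Cs S x ∧
    (∀ s ∈ Cs S x, ∃ v ∈ A, v⁻¹ * s ∈ Y) ∧ (∀ a ∈ A, a ∈ Y → a = 1) ∧ IsRot A r ∧ (∀ z ∈ Y, Commute r z) ∧
      y ∈ Y ∧ ∃ a ∈ A, y = a * x ∧ ¬ Harmless A y := by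
  obtain ⟨a, ha, hbad⟩ := h.hall x hx.1 hx.2.1 hx.2.2
  have hax : Commute x a := (mem_centralizer_iff.1 (h.ctx.le_center hx.1) a ha).symm
  obtain ⟨Y, r, ⟨h1, h2, h3⟩, h4, h5, h6⟩ := h.ctx.exists_complement h.facts (x := a * x)
    (mul_mem (h.ctx.min.le ha) hx.1) (fun e => hx.2.1 (by simpa using mul_mem (inv_mem ha) e))
    (by rw [hax.mul_mul_mul_comm, h.ctx.min.sq a ha, hx.2.2, one_mul]) hbad
  have hC : Cs S (a * x) = Cs S x := h.Cs_mul ha
  exact ⟨Y, r, a * x, hC ▸ h1, hC ▸ h2, h3, h4, h5, h6, a, ha, rfl, hbad⟩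

theorem abelian_aux (n : ℕ) : ∀ x, Inv S A x → Nat.card ↥(S : Subgroup G) - Nat.card ↥(Cs S x) = n →
    ∀ p ∈ Cs S x, ∀ q ∈ Cs S x, Commute p q := by
  haveI : Fact (Nat.Prime 2) := ⟨Nat.prime_two⟩
  induction n using Nat.strong_induction_on with
  | _ n ih =>
    intro x hx hn p hp q hq
    by_contra hpq
    set T := Cs S x
    obtain ⟨Y, r, y, hYT, hdec, huniq, -, -, -, -⟩ := h.complement hx
    have hTS : T ≤ (S : Subgroup G) := inf_le_left
    have hcomm : ⁅T, T⁆ ≤ Y := commutator_le.2 fun s hs t ht => by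
      obtain ⟨v, hv, hvY⟩ := hdec s hs
      obtain ⟨w, hw, hwY⟩ := hdec t ht
      have hsS := hTS hs
      have htS := hTS ht
      have c1 : Commute v t := mem_centralizer_iff.1 (h.ctx.le_center htS) v hv
      have c2 : Commute w (v⁻¹ * s) :=
        mem_centralizer_iff.1 (h.ctx.le_center (hTS (hYT hvY))) w hw
      have e : ⁅s, t⁆ = ⁅v⁻¹ * s, w⁻¹ * t⁆ := by
        have e1 : ⁅v⁻¹ * s, t⁆ = ⁅s, t⁆ := by
          rw [Cfsg.Lib.CommFixedGen.comm_mul_left, commutatorElement_eq_one_iff_mul_comm.2 c1.inv_left.eq, mul_one]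
          have hmem : ⁅s, t⁆ ∈ (S : Subgroup G) :=
            mul_mem (mul_mem (mul_mem hsS htS) (inv_mem hsS)) (inv_mem htS)
          rw [(show Commute v⁻¹ ⁅s, t⁆ from
            (show Commute v _ from mem_centralizer_iff.1 (h.ctx.le_center hmem) v hv).inv_left).eq, mul_inv_cancel_right]
        rw [Cfsg.Lib.CommFixedGen.comm_mul_right, commutatorElement_eq_one_iff_mul_comm.2 c2.inv_left.symm.eq, one_mul,
          e1]
        have hmem : ⁅s, t⁆ ∈ (S : Subgroup G) :=
          mul_mem (mul_mem (mul_mem hsS htS) (inv_mem hsS)) (inv_mem htS)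
        rw [(show Commute w⁻¹ ⁅s, t⁆ from
          (show Commute w _ from mem_centralizer_iff.1 (h.ctx.le_center hmem) w hw).inv_left).eq, mul_inv_cancel_right]
      rw [e]
      exact mul_mem (mul_mem (mul_mem hvY hwY) (inv_mem hvY)) (inv_mem hwY)
    have hne : ⁅T, T⁆ ≠ ⊥ := fun e => hpq (commutatorElement_eq_one_iff_mul_comm.1
      (mem_bot.1 (e ▸ commutator_mem_commutator hp hq)))
    set N := (S : Subgroup G) ⊓ normalizer (T : Set G)
    have hTN : T ≤ N := le_inf hTS le_normalizer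
    have hNn : N ≤ normalizer ((⁅T, T⁆ : Subgroup G) : Set G) := Cfsg.Lib.CommFixedGen.le_normalizer_commutator
      (X := N) inf_le_right inf_le_right
    obtain ⟨c, hc, hcc, hc1, hcN⟩ := exists_fixed_involution (S.2.to_le (inf_le_left : N ≤ (S : Subgroup G)))
      ((commutator_le_self T).trans hTN) hNn hne
    have hcY := hcomm hc
    have hcI : Inv S A c := ⟨hTS (hYT hcY), fun e => hc1 (huniq c e hcY), hcc⟩
    have hNc : N ≤ Cs S c := fun n hn => mem_Cs.2 ⟨(mem_inf.1 hn).1, hcN n hn⟩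
    have hlt : T < N := by
      refine lt_of_le_of_ne hTN fun e => ?_
      haveI : Group.IsNilpotent ↥(S : Subgroup G) := S.2.isNilpotent
      have hT' : T.subgroupOf (S : Subgroup G) < ⊤ := lt_top_iff_ne_top.2 fun e' =>
        h.none x hx (le_antisymm hTS (subgroupOf_eq_top.1 e'))
      obtain ⟨s, hs, hsT⟩ := SetLike.exists_of_lt (Group.normalizerCondition_of_isNilpotent _ hT')
      refine hsT (mem_subgroupOf.2 ?_)
      show (s : G) ∈ T
      rw [e]
      refine mem_inf.2 ⟨s.2, ZStarApps.mem_normalizer_of_maps fun t ht => ?_⟩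
      have := (mem_normalizer_iff.1 hs ⟨t, hTS ht⟩).1 (mem_subgroupOf.2 ht)
      exact this
    have hcard : Nat.card ↥T < Nat.card ↥(Cs S c) :=
      lt_of_lt_of_le (lt_of_le_of_ne (Subgroup.card_le_of_le hlt.le) fun e =>
        hlt.ne (Subgroup.eq_of_le_of_card_ge hlt.le e.ge)) (Subgroup.card_le_of_le hNc)
    have hle : Nat.card ↥(Cs S c) ≤ Nat.card ↥(S : Subgroup G) := Subgroup.card_le_of_le inf_le_left
    exact hpq (ih _ (by omega) c hcI rfl p (hNc (hTN hp)) q (hNc (hTN hq)))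

/-- The centralisers in the Sylow subgroup are abelian. -/
theorem abelian {x : G} (hx : Inv S A x) {p q : G} (hp : p ∈ Cs S x) (hq : q ∈ Cs S x) : Commute p q :=
  h.abelian_aux _ x hx rfl p hp q hq

omit h in
theorem exists_max {x : G} (hx : Inv S A x) : ∃ y, IsMax S A y := by
  obtain ⟨y, hy, hmax⟩ := Set.exists_max_image {z : G | Inv S A z} (fun z => Nat.card ↥(Cs S z))
    (Set.toFinite _) ⟨x, hx⟩
  exact ⟨y, hy, fun z hz => hmax z hz⟩

theorem card_two_le {x : G} (hx : IsMax S A x) {U : Subgroup G} (hU : IsPGroup 2 U)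
    (hUA : U ≤ centralizer (A : Set G)) (hUx : U ≤ centralizer ({x} : Set G)) :
    Nat.card ↥U ≤ Nat.card ↥(Cs S x) := by
  haveI : Fact (Nat.Prime 2) := ⟨Nat.prime_two⟩
  have hxC := h.ctx.le_center hx.1.1
  have hp : IsPGroup 2 (zpowers x) := S.2.to_le (zpowers_le.2 hx.1.1)
  set U' := zpowers x ⊔ U with hU'
  have hU'2 : IsPGroup 2 U' := hp.to_sup_of_normal_left' hU (hUx.trans (by
    intro u hu
    refine centralizer_le_normalizer _ (mem_centralizer_iff.2 fun z hz => ?_)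
    obtain ⟨i, rfl⟩ := mem_zpowers_iff.1 hz
    exact ((show Commute u x from mem_centralizer_singleton_iff.1 hu).zpow_right i).symm.eq))
  have hU'C : U' ≤ centralizer (A : Set G) := sup_le (zpowers_le.2 hxC) hUA
  obtain ⟨P, hP⟩ := (hU'2.of_equiv (subgroupOfEquivOfLe hU'C).symm).exists_le_sylow
  obtain ⟨c, hc⟩ := MulAction.exists_smul_eq (↥(centralizer (A : Set G))) P (S.subtype h.ctx.le_center)
  have hmap : ∀ u ∈ U', (c : G) * u * (c : G)⁻¹ ∈ (S : Subgroup G) := fun u hu => by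
    have hin : c * (⟨u, hU'C hu⟩ : ↥(centralizer (A : Set G))) * c⁻¹ ∈
        (S.subtype h.ctx.le_center : Subgroup ↥(centralizer (A : Set G))) := by
      rw [← hc, Sylow.coe_subgroup_smul]
      exact ⟨_, hP (mem_subgroupOf.2 hu), rfl⟩
    exact hin
  set z := (c : G) * x * (c : G)⁻¹
  have hz : Inv S A z := by
    refine ⟨hmap x (mem_sup_left (mem_zpowers x)), fun e => hx.1.2.1 ?_,
      by rw [_root_.conj_mul, hx.1.2.2, mul_one, mul_inv_cancel]⟩
    have := mem_centralizer_iff.1 c.2 _ e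
    rw [show x = (c : G)⁻¹ * z * c by simp only [z]; group, mul_assoc, this, inv_mul_cancel_left]
    exact e
  refine le_trans ?_ (hx.2 z hz)
  refine Nat.card_le_card_of_injective (fun u : U => (⟨(c : G) * u * (c : G)⁻¹, mem_Cs.2
    ⟨hmap u (mem_sup_right u.2), ?_⟩⟩ : ↥(Cs S z))) fun u v e => ?_
  · show (c : G) * u * (c : G)⁻¹ * z = z * ((c : G) * u * (c : G)⁻¹)
    simp only [z]
    rw [_root_.conj_mul, _root_.conj_mul, mem_centralizer_singleton_iff.1 (hUx u.2)]
  · exact Subtype.ext (mul_left_cancel (mul_right_cancel (congrArg Subtype.val e)))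

theorem max_of_mem {x z : G} (hx : IsMax S A x) (hz : z ∈ Cs S x) (hzA : z ∉ A) (hzz : z * z = 1) :
    IsMax S A z ∧ Cs S z = Cs S x := by
  have hzI : Inv S A z := ⟨(mem_Cs.1 hz).1, hzA, hzz⟩
  have hle : Cs S x ≤ Cs S z := fun t ht => mem_Cs.2 ⟨(mem_Cs.1 ht).1, h.abelian hx.1 ht hz⟩
  have heq : Cs S x = Cs S z := Subgroup.eq_of_le_of_card_ge hle (hx.2 z hzI)
  exact ⟨⟨hzI, fun w hw => heq ▸ hx.2 w hw⟩, heq.symm⟩

/-- A 2-element of `C(A)` normalising `C_S(x)` and centralising an involution of it outside `A` lies in it. -/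
theorem free {x z u : G} (hx : IsMax S A x) (hu : u ∈ centralizer (A : Set G))
    (hun : u ∈ normalizer (Cs S x : Set G)) (hu2 : IsPGroup 2 (zpowers u)) (hz : z ∈ Cs S x) (hzA : z ∉ A)
    (hzz : z * z = 1) (hc : Commute u z) : u ∈ Cs S x := by
  obtain ⟨hzm, he⟩ := h.max_of_mem hx hz hzA hzz
  set U := Cs S x ⊔ zpowers u
  have hU2 : IsPGroup 2 U := (S.2.to_le (inf_le_left : Cs S x ≤ (S : Subgroup G))).to_sup_of_normal_left' hu2
    (zpowers_le.2 hun)
  have hle := h.card_two_le hzm hU2 (sup_le (inf_le_left.trans h.ctx.le_center) (zpowers_le.2 hu))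
    (sup_le (fun t ht => mem_centralizer_singleton_iff.2 (h.abelian hx.1 ht hz).eq)
      (zpowers_le.2 (mem_centralizer_singleton_iff.2 hc.eq)))
  rw [he] at hle
  exact (Subgroup.eq_of_le_of_card_ge (le_sup_left : Cs S x ≤ U) hle).ge (mem_sup_right (mem_zpowers u))

/-- An element fixing such an involution and acting as a 2-element centralises `C_S(x)`. -/
theorem act_trivial {x z u : G} (hx : IsMax S A x) (hu : u ∈ centralizer (A : Set G))
    (hun : u ∈ normalizer (Cs S x : Set G)) (hz : z ∈ Cs S x) (hzA : z ∉ A) (hzz : z * z = 1) (hc : Commute u z)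
    {k : ℕ} (hk : u ^ 2 ^ k ∈ centralizer (Cs S x : Set G)) : u ∈ centralizer (Cs S x : Set G) := by
  haveI : Fact (Nat.Prime 2) := ⟨Nat.prime_two⟩
  obtain ⟨i, m, hm, ho⟩ := Nat.exists_eq_two_pow_mul_odd (orderOf_pos u).ne'
  have hp : IsPGroup 2 (zpowers (u ^ m)) := by
    refine IsPGroup.of_card (n := i) ?_
    rw [Nat.card_zpowers, orderOf_pow' u hm.pos.ne', Nat.gcd_eq_right (Dvd.intro_left _ ho.symm), ho,
      Nat.mul_div_cancel _ hm.pos]
  have hmT := h.free hx (pow_mem hu m) (pow_mem hun m) hp hz hzA hzz (hc.pow_left m)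
  refine mem_of_pow_coprime ((Nat.coprime_two_left.2 hm).pow_left k) hk (mem_centralizer_iff.2 fun t ht => ?_)
  exact (h.abelian hx.1 hmT ht).symm.eq

end Two

end Cfsg.Lib.Goldschmidt.RankTwo
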