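import Cfsg.Agent.Goldschmidt.RankTwo.Normal

/-!
Rank two: no element outside `T K` is fused into it; by the focal subgroup theorem `S = T K`.
-/

set_option autoImplicit false
set_option linter.unusedSectionVars false
set_option linter.style.haveILetI false

namespace Cfsg.Lib.Goldschmidt.RankTwo

open Subgroup Cfsg.Lib.Components
open scoped commutatorElement

universe u

variable {G : Type u} [Group G] [Finite G] {S : Sylow 2 G} {A : Subgroup G}

namespace Dual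

variable {x w : G} (P : Dual S A x w)
include P

/-- Transport a fusion so that everything fixed modulo `A` lands in the Sylow subgroup. -/
theorem exists_transport {g n m : G} (hg : g ∈ (S : Subgroup G)) (hn : n ∈ Ns S x)
    (hm : m ∈ normalizer (A : Set G)) (e : m * g * m⁻¹ = n) :
    ∃ m' ∈ normalizer (A : Set G), m' * g * m'⁻¹ ∈ Ns S x ∧
      ∀ p ∈ (S : Subgroup G), ⁅g, p⁆ ∈ A → m' * p * m'⁻¹ ∈ (S : Subgroup G) := by
  haveI : Fact (Nat.Prime 2) := ⟨Nat.prime_two⟩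
  have hAc := P.big.two.ctx.le_cent_self
  set M := centMod A hAc n
  set U := ((S : Subgroup G) ⊓ centMod A hAc g).map (MulAut.conj m).toMonoidHom
  have hUM : U ≤ M := by
    rintro _ ⟨p, hp, rfl⟩
    refine ⟨mem_centralizer_iff.2 fun a ha => ?_, ?_⟩
    · have h1 := mem_centralizer_iff.1 (mem_inf.1 hp).2.1 _ ((mem_normalizer_iff''.1 hm a).1 ha)
      have := congrArg (fun z => m * z * m⁻¹) h1
      simpa [mul_assoc] using this
    · show ⁅n, m * p * m⁻¹⁆ ∈ A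
      rw [show ⁅n, m * p * m⁻¹⁆ = m * ⁅g, p⁆ * m⁻¹ by rw [← e]; simp only [commutatorElement_def]; group]
      exact (mem_normalizer_iff.1 hm _).1 (mem_inf.1 hp).2.2
  have hNM : Ns S x ≤ M := fun p hp => ⟨P.big.two.ctx.le_center (mem_inf.1 hp).1, P.big.comm_mem hn hp⟩
  have hU2 : IsPGroup 2 U := (S.2.to_le inf_le_left).map _
  obtain ⟨R, hR⟩ := ((S.2.to_le inf_le_left : IsPGroup 2 (Ns S x)).of_equiv (subgroupOfEquivOfLe hNM).symm).exists_le_sylow
  obtain ⟨R', hR'⟩ := (hU2.of_equiv (subgroupOfEquivOfLe hUM).symm).exists_le_sylow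
  obtain ⟨c', hc'⟩ := MulAction.exists_smul_eq ↥M R' R
  set R₀ := (R : Subgroup ↥M).map M.subtype
  have hRA : R₀ ≤ centralizer (A : Set G) := (map_subtype_le _).trans fun p hp => hp.1
  obtain ⟨c, hc, hcS⟩ := P.big.two.ctx.exists_conj (R.2.map M.subtype) hRA
  have hcN := P.conj_N hc fun p hp => ⟨hcS p ⟨⟨p, hNM hp⟩, hR (mem_subgroupOf.2 hp), rfl⟩,
    P.S_le_normalizer (hcS p ⟨⟨p, hNM hp⟩, hR (mem_subgroupOf.2 hp), rfl⟩)⟩
  have hc'n : (c' : G) * n * (c' : G)⁻¹ ∈ Ns S x := by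
    rw [show (c' : G) * n * (c' : G)⁻¹ = ⁅n, (c' : G)⁆⁻¹ * n by simp only [commutatorElement_def]; group]
    exact mul_mem (P.big.T_le_N (P.big.A_le (inv_mem c'.2.2))) hn
  have hn' := P.big.two.ctx.cent_le_normalizer
  refine ⟨c * c' * m, mul_mem (mul_mem (hn' hc) (hn' c'.2.1)) hm, ?_, fun p hp hgp => ?_⟩
  · rw [show c * c' * m * g * (c * c' * m)⁻¹ = c * ((c' : G) * (m * g * m⁻¹) * (c' : G)⁻¹) * c⁻¹ by group, e]
    exact hcN _ hc'n
  · rw [show c * c' * m * p * (c * c' * m)⁻¹ = c * ((c' : G) * (m * p * m⁻¹) * (c' : G)⁻¹) * c⁻¹ by group]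
    have hpU : m * p * m⁻¹ ∈ U := ⟨p, mem_inf.2 ⟨hp, P.big.two.ctx.le_center hp, hgp⟩, rfl⟩
    refine hcS _ ⟨c' * ⟨_, hUM hpU⟩ * c'⁻¹, ?_, rfl⟩
    rw [SetLike.mem_coe, ← hc', Sylow.coe_subgroup_smul]
    exact ⟨_, hR' (mem_subgroupOf.2 hpU), rfl⟩

theorem no_fusion {g n m : G} (hg : g ∈ (S : Subgroup G)) (hgN : g ∉ Ns S x) (hn : n ∈ Ns S x)
    (hm : m ∈ normalizer (A : Set G)) (e : m * g * m⁻¹ = n) : False := by
  obtain ⟨m, hm, hn, hS⟩ := P.exists_transport hg hn hm e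
  clear e
  have hgg : g * g ∈ A := by
    refine (mem_normalizer_iff.1 hm _).2 ?_
    rw [← _root_.conj_mul]
    exact P.big.sq_mem hn
  have hnA : m * g * m⁻¹ ∉ A := fun e => hgN (P.big.T_le_N (P.big.A_le ((mem_normalizer_iff.1 hm g).2 e)))
  have hwK : w ∈ Cs S w := mem_Cs.2 ⟨P.inv_w.1, Commute.refl w⟩
  obtain ⟨k', hk', hk'A, hwk'⟩ := P.exists_other hwK P.K_facts.2.1
  let κ : Fin 3 → G := ![w, k', w * k']
  have hκ : ∀ i, κ i ∈ Cs S w ∧ κ i ∉ A := by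
    intro i
    fin_cases i
    exacts [⟨hwK, P.inv_w.2.1⟩, ⟨hk', hk'A⟩, ⟨mul_mem hwK hk', hwk'⟩]
  have hκne : ∀ i j, i ≠ j → κ i * κ j ∉ A := by
    have h1 : w * (w * k') ∉ A := by rwa [← mul_assoc, P.invol, one_mul]
    have h2 : k' * (w * k') ∉ A := by
      rw [← mul_assoc, (P.K_comm hk' hwK).eq, mul_assoc, P.K_sq hk', mul_one]
      exact P.inv_w.2.1
    have h3 : k' * w ∉ A := by rwa [(P.K_comm hk' hwK).eq]
    have h4 : w * k' * w ∉ A := by rwa [(P.K_comm (mul_mem hwK hk') hwK).eq]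
    have h5 : w * k' * k' ∉ A := by rw [mul_assoc, P.K_sq hk', mul_one]; exact P.inv_w.2.1
    intro i j hij
    fin_cases i <;> fin_cases j <;> first | exact absurd rfl hij | assumption
  let p : Fin 3 → G := fun i => g * κ i * g⁻¹ * κ i
  have hp : ∀ i, p i ∈ Ns S x ∧ g * p i * g⁻¹ = (p i)⁻¹ ∧ ⁅g, p i⁆ ∈ A := fun i => P.diag hg hgN hgg (hκ i).1
  have hpne : ∀ i, p i * p i ≠ 1 := fun i => P.diag_sq hg hgN (hκ i).1 (hκ i).2
  have hp01 : p 0 * p 1 = ⁅κ 0, g * κ 1 * g⁻¹⁆ * p 2 := by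
    show g * w * g⁻¹ * w * (g * k' * g⁻¹ * k') = ⁅w, g * k' * g⁻¹⁆ * (g * (w * k') * g⁻¹ * (w * k'))
    have ha : ⁅w, g * k' * g⁻¹⁆ ∈ A := P.big.comm_mem P.mem (P.big.T_le_N ((P.swap hg hgN).2 k' hk'))
    calc g * w * g⁻¹ * w * (g * k' * g⁻¹ * k')
        = g * w * g⁻¹ * ⁅w, g * k' * g⁻¹⁆ * (g * k' * g⁻¹ * (w * k')) := by
          simp only [commutatorElement_def]; group
      _ = _ := by
        rw [← (P.big.central ha (mul_mem (mul_mem hg (mem_inf.1 hwK).1) (inv_mem hg))).eq]; group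
  have hp01sq : p 0 * p 1 * (p 0 * p 1) ≠ 1 := by
    rw [hp01]
    have ha : ⁅κ 0, g * κ 1 * g⁻¹⁆ ∈ A :=
      P.big.comm_mem (P.K_le (hκ 0).1) (P.big.T_le_N ((P.swap hg hgN).2 _ (hκ 1).1))
    rw [(show Commute ⁅κ 0, g * κ 1 * g⁻¹⁆ (p 2) from P.big.central ha (mem_inf.1 (hp 2).1).1).symm.mul_mul_mul_comm,
      P.big.two.ctx.min.sq _ ha, one_mul]
    exact hpne 2
  let d : Fin 3 → G := fun i => m * p i * m⁻¹
  have hdS : ∀ i, d i ∈ (S : Subgroup G) := fun i => hS _ (mem_inf.1 (hp i).1).1 (hp i).2.2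
  have hdinv : ∀ i, m * g * m⁻¹ * d i * (m * g * m⁻¹)⁻¹ = (d i)⁻¹ := fun i => by
    calc _ = m * (g * p i * g⁻¹) * m⁻¹ := by simp only [d]; group
      _ = _ := by rw [(hp i).2.1]; simp only [d]; group
  have hdsq : ∀ i, d i * d i ≠ 1 := fun i hd => hpne i (by
    rw [_root_.conj_mul] at hd
    exact conj_eq_one_iff.1 hd)
  have hd01 : d 0 * d 1 * (d 0 * d 1) ≠ 1 := fun hd => hp01sq (by
    rw [_root_.conj_mul, _root_.conj_mul] at hd
    exact conj_eq_one_iff.1 hd)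
  by_cases hall : ∀ i, d i ∈ Ns S x
  · refine P.no_three hn hnA d hall hdsq hdinv (fun i j hij hA => ?_) hd01
    have hpA : p i * (p j)⁻¹ ∈ A := by
      refine (mem_normalizer_iff.1 hm _).2 ?_
      rwa [show m * (p i * (p j)⁻¹) * m⁻¹ = d i * (d j)⁻¹ by simp only [d]; group]
    -- compare the parts in `K`
    have hti := (P.swap hg hgN).2 _ (hκ i).1
    have htj := (P.swap hg hgN).2 _ (hκ j).1
    have ek : κ i * κ j = (g * κ i * g⁻¹)⁻¹ * (p i * (p j)⁻¹ * (g * κ j * g⁻¹)) := by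
      conv_lhs => rw [← inv_eq_of_mul_eq_one_right (P.K_sq (hκ j).1)]
      simp only [p]; group
    have hT : κ i * κ j ∈ Cs S x := ek ▸ mul_mem (inv_mem hti) (mul_mem (P.big.A_le hpA) htj)
    exact hκne i j hij (P.inter hT (mul_mem (hκ i).1 (hκ j).1))
  -- some image outside, one inside
  push Not at hall
  obtain ⟨i, hi⟩ := hall
  obtain ⟨d', hd', hd'inv, hd'sq, hd'comm⟩ : ∃ d' ∈ Ns S x, m * g * m⁻¹ * d' * (m * g * m⁻¹)⁻¹ = d'⁻¹ ∧
      d' * d' ≠ 1 ∧ Commute (d i) d' := by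
    have hcomm : ∀ i j, Commute (d i) (d j) := fun i j =>
      (P.fixed_comm hg hgN hgg (hp i).1 (hp i).2.2 (hp j).1 (hp j).2.2).map (MulAut.conj m).toMonoidHom
    by_cases h0 : d 0 ∈ Ns S x
    · exact ⟨d 0, h0, hdinv 0, hdsq 0, hcomm i 0⟩
    by_cases h1 : d 1 ∈ Ns S x
    · exact ⟨d 1, h1, hdinv 1, hdsq 1, hcomm i 1⟩
    refine ⟨d 0 * d 1, P.normalizer_mul (hdS 0) (P.S_le_normalizer (hdS 0)) h0 (hdS 1) (P.S_le_normalizer (hdS 1)) h1,
      ?_, hd01, (hcomm i 0).mul_right (hcomm i 1)⟩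
    rw [← _root_.conj_mul, hdinv 0, hdinv 1, (hcomm 0 1).eq]
    exact (mul_inv_rev _ _).symm
  have hgi2 : d i * d i ∈ A := by
    rw [_root_.conj_mul]
    exact (mem_normalizer_iff.1 hm _).1 (P.big.sq_mem (hp i).1)
  have hgn : ⁅d i, m * g * m⁻¹⁆ ∈ A := by
    have e : ⁅d i, m * g * m⁻¹⁆ = d i * d i := by
      rw [← commutatorElement_inv, commutatorElement_def, hdinv i, ← mul_inv_rev, inv_inv]
    rw [e]
    exact hgi2
  have hc := P.fixed_comm (hdS i) hi hgi2 hn hgn hd'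
    (by rw [commutatorElement_eq_one_iff_mul_comm.2 hd'comm.eq]; exact one_mem _)
  rw [hc.eq, mul_inv_cancel_right] at hd'inv
  exact hd'sq (mul_eq_one_iff_eq_inv.2 hd'inv)

/-- The Sylow subgroup is `T K`. -/
theorem S_eq : Ns S x = (S : Subgroup G) := by
  haveI := P.big.two.ctx.min.simple
  refine le_antisymm inf_le_left (focal_top_two P.big.two.ctx.min.nonab fun y hy g hg => ?_)
  obtain ⟨m, hm, he⟩ := P.big.two.ctx.fusion_all hy hg
  by_cases hyN : y ∈ Ns S x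
  · refine mul_mem (inv_mem hyN) ?_
    by_contra hgN
    refine P.no_fusion hg hgN hyN (inv_mem hm) ?_
    rw [← he]; group
  by_cases hgN : g * y * g⁻¹ ∈ Ns S x
  · exact (P.no_fusion hy hyN hgN hm he).elim
  exact P.normalizer_mul (inv_mem hy) (P.S_le_normalizer (inv_mem hy)) (fun e => hyN (inv_mem_iff.1 e))
    hg (P.S_le_normalizer hg) hgN

end Dual

end Cfsg.Lib.Goldschmidt.RankTwo
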