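import Cfsg.Agent.Goldschmidt.RankTwo.Sixteen

/-!
Rank two: nothing outside `N_S(T)` is fused into it, so the Sylow subgroup is `T K`.
-/

set_option autoImplicit false
set_option linter.unusedSectionVars false
set_option linter.style.haveILetI false

namespace Cfsg.Lib.Goldschmidt.RankTwo

open Subgroup Cfsg.Lib.Components
open scoped commutatorElement

universe u

variable {G : Type u} [Group G] [Finite G] {S : Sylow 2 G} {A : Subgroup G}

/-- The elements of `C(A)` commuting with `z` modulo `A`. -/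
def centMod (A : Subgroup G) (hA : A ≤ centralizer (A : Set G)) (z : G) : Subgroup G where
  carrier := {s | s ∈ centralizer (A : Set G) ∧ ⁅z, s⁆ ∈ A}
  one_mem' := ⟨one_mem _, by rw [commutatorElement_one_right]; exact one_mem _⟩
  mul_mem' := fun {s t} hs ht => ⟨mul_mem hs.1 ht.1, by
    rw [Cfsg.Lib.CommFixedGen.comm_mul_right, (mem_centralizer_iff.1 hs.1 _ ht.2).symm, mul_inv_cancel_right]
    exact mul_mem hs.2 ht.2⟩
  inv_mem' := fun {s} hs => ⟨inv_mem hs.1, by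
    rw [show ⁅z, s⁻¹⁆ = s⁻¹ * ⁅z, s⁆⁻¹ * s by simp only [commutatorElement_def]; group, mul_assoc,
      mem_centralizer_iff.1 hs.1 _ (inv_mem hs.2), inv_mul_cancel_left]
    exact inv_mem hs.2⟩

namespace Dual

variable {x w : G} (P : Dual S A x w)
include P

theorem exists_other {y : G} (hy : y ∈ Cs S y) (h16 : Nat.card ↥(Cs S y) = 16) :
    ∃ t ∈ Cs S y, t ∉ A ∧ y * t ∉ A := by
  classical
  by_contra hno
  push Not at hno
  let f : ↥(Cs S y) → ↥A × Bool := fun t => if ht : (t : G) ∈ A then (⟨t, ht⟩, false) else (⟨y * t, hno t t.2 ht⟩, true)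
  have hf : Function.Injective f := fun p q e => by
    simp only [f] at e
    split_ifs at e with h1 h2 h2
    · exact Subtype.ext (congrArg Subtype.val (Prod.ext_iff.1 e).1 :)
    · exact absurd (congrArg Prod.snd e :) Bool.false_ne_true
    · exact absurd (congrArg Prod.snd e :).symm Bool.false_ne_true
    · exact Subtype.ext (mul_left_cancel (congrArg Subtype.val (Prod.ext_iff.1 e).1 : y * (p : G) = y * q))
  have := Nat.card_le_card_of_injective f hf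
  rw [h16, Nat.card_prod, P.big.two.ctx.card, Nat.card_eq_fintype_card, Fintype.card_bool] at this
  omega

theorem not_conj_A {c t : G} (hc : c ∈ centralizer (A : Set G)) (ht : t ∉ A) : c * t * c⁻¹ ∉ A := fun e => ht (by
  rw [show t = c⁻¹ * (c * t * c⁻¹) * c by group, mul_assoc, mem_centralizer_iff.1 hc _ e, inv_mul_cancel_left]
  exact e)

theorem conj_cases {c y : G} (hy : IsMax S A y) (h16 : Nat.card ↥(Cs S y) = 16) (hc : c ∈ centralizer (A : Set G))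
    (hS : ∀ t ∈ Cs S y, c * t * c⁻¹ ∈ (S : Subgroup G)) {t : G} (ht : t ∈ Cs S y) (htA : t ∉ A) (htt : t * t = 1)
    (htN : c * t * c⁻¹ ∈ Ns S x) :
    (∀ t ∈ Cs S y, c * t * c⁻¹ ∈ Cs S x) ∨ (∀ t ∈ Cs S y, c * t * c⁻¹ ∈ Cs S w) := by
  set E := (Cs S y).map (MulAut.conj c).toMonoidHom
  rcases P.elem_cases (E := E) (by rintro _ ⟨p, hp, rfl⟩; exact hS p hp)
      (by
        rintro _ ⟨p, hp, rfl⟩ _ ⟨q, hq, rfl⟩
        exact (P.big.two.abelian hy.1 hp hq).map (MulAut.conj c).toMonoidHom)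
      (by rw [card_map_of_injective (MulAut.conj c).injective, h16])
      (z := c * t * c⁻¹) ⟨t, ht, rfl⟩ (P.not_conj_A hc htA)
      (by rw [_root_.conj_mul, htt, mul_one, mul_inv_cancel]) htN with e | e
  · exact Or.inl fun p hp => e ▸ ⟨p, hp, rfl⟩
  · exact Or.inr fun p hp => e ▸ ⟨p, hp, rfl⟩

theorem normalizer_cases {g : G} (hg : g ∈ (S : Subgroup G)) (hn : g ∈ normalizer (Ns S x : Set G)) (hgN : g ∉ Ns S x) :
    (∀ t ∈ Cs S x, g * t * g⁻¹ ∈ Cs S w) ∧ (∀ k ∈ Cs S w, g * k * g⁻¹ ∈ Cs S x) := by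
  have hgC := P.big.two.ctx.le_center hg
  have hconjS : ∀ p ∈ (S : Subgroup G), g * p * g⁻¹ ∈ (S : Subgroup G) := fun p hp =>
    mul_mem (mul_mem hg hp) (inv_mem hg)
  have hT : ∀ t ∈ Cs S x, g * t * g⁻¹ ∈ Cs S w :=
    (P.conj_cases P.big.max P.big.card16 hgC (fun t ht => hconjS t (P.big.T_le ht)) P.big.x_mem P.big.max.1.2.1
      P.big.max.1.2.2 ((mem_normalizer_iff.1 hn x).1 (P.big.T_le_N P.big.x_mem))).resolve_left fun h =>
      hgN (mem_inf.2 ⟨hg, ZStarApps.mem_normalizer_of_maps h⟩)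
  refine ⟨hT, (P.conj_cases P.K_facts.1 P.K_facts.2.1 hgC (fun t ht => hconjS t (mem_inf.1 ht).1)
    (mem_Cs.2 ⟨P.inv_w.1, Commute.refl w⟩) P.inv_w.2.1 P.invol
    ((mem_normalizer_iff.1 hn w).1 P.mem)).resolve_right fun h => P.nmem (mem_Cs.2 ⟨P.inv_w.1, ?_⟩)⟩
  have := (P.K_comm (h w (mem_Cs.2 ⟨P.inv_w.1, Commute.refl w⟩)) (hT x P.big.x_mem)).map (MulAut.conj g⁻¹).toMonoidHom
  simpa [mul_assoc] using this

theorem normalizer_mul {g g' : G} (hg : g ∈ (S : Subgroup G)) (hn : g ∈ normalizer (Ns S x : Set G))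
    (hgN : g ∉ Ns S x) (hg' : g' ∈ (S : Subgroup G)) (hn' : g' ∈ normalizer (Ns S x : Set G)) (hgN' : g' ∉ Ns S x) :
    g * g' ∈ Ns S x := by
  refine mem_inf.2 ⟨mul_mem hg hg', ZStarApps.mem_normalizer_of_maps fun t ht => ?_⟩
  rw [show g * g' * t * (g * g')⁻¹ = g * (g' * t * g'⁻¹) * g⁻¹ by group]
  exact (P.normalizer_cases hg hn hgN).2 _ ((P.normalizer_cases hg' hn' hgN').1 t ht)

/-- A conjugate of `T` or `K` inside `N_S(N_S(T))` lies in `N_S(T)`. -/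
theorem conj_into {c y : G} (hy : IsMax S A y) (h16 : Nat.card ↥(Cs S y) = 16) (hsq : ∀ t ∈ Cs S y, t * t = 1)
    (hc : c ∈ centralizer (A : Set G))
    (hM : ∀ t ∈ Cs S y, c * t * c⁻¹ ∈ (S : Subgroup G) ∧ c * t * c⁻¹ ∈ normalizer (Ns S x : Set G)) :
    ∀ t ∈ Cs S y, c * t * c⁻¹ ∈ Ns S x := by
  have hyy : y ∈ Cs S y := mem_Cs.2 ⟨hy.1.1, Commute.refl y⟩
  obtain ⟨t, ht, htA, hytA⟩ := P.exists_other hyy h16
  obtain ⟨z, hz, hzA, hzN⟩ : ∃ z ∈ Cs S y, z ∉ A ∧ c * z * c⁻¹ ∈ Ns S x := by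
    by_cases h1 : c * y * c⁻¹ ∈ Ns S x
    · exact ⟨y, hyy, hy.1.2.1, h1⟩
    by_cases h2 : c * t * c⁻¹ ∈ Ns S x
    · exact ⟨t, ht, htA, h2⟩
    refine ⟨y * t, mul_mem hyy ht, hytA, ?_⟩
    rw [← _root_.conj_mul]
    exact P.normalizer_mul (hM y hyy).1 (hM y hyy).2 h1 (hM t ht).1 (hM t ht).2 h2
  rcases P.conj_cases hy h16 hc (fun t ht => (hM t ht).1) hz hzA (hsq z hz) hzN with h | h
  · exact fun p hp => P.big.T_le_N (h p hp)
  · exact fun p hp => P.K_le (h p hp)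

theorem conj_N {c : G} (hc : c ∈ centralizer (A : Set G))
    (hM : ∀ p ∈ Ns S x, c * p * c⁻¹ ∈ (S : Subgroup G) ∧ c * p * c⁻¹ ∈ normalizer (Ns S x : Set G)) :
    ∀ p ∈ Ns S x, c * p * c⁻¹ ∈ Ns S x := by
  intro p hp
  obtain ⟨t, ht, k, hk, rfl⟩ := P.split hp
  rw [← _root_.conj_mul]
  exact mul_mem
    (P.conj_into P.big.max P.big.card16 (fun t ht => P.big.T_sq ht) hc (fun t ht => hM t (P.big.T_le_N ht)) t ht)
    (P.conj_into P.K_facts.1 P.K_facts.2.1 (fun k hk => P.K_sq hk) hc (fun k hk => hM k (P.K_le hk)) k hk)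

theorem S_le_normalizer : (S : Subgroup G) ≤ normalizer (Ns S x : Set G) := by
  haveI : Fact (Nat.Prime 2) := ⟨Nat.prime_two⟩
  haveI : Group.IsNilpotent ↥(S : Subgroup G) := S.2.isNilpotent
  set M := (S : Subgroup G) ⊓ normalizer (Ns S x : Set G)
  by_contra hno
  have hlt : M.subgroupOf (S : Subgroup G) < ⊤ := lt_top_iff_ne_top.2 fun e =>
    hno ((subgroupOf_eq_top.1 e).trans inf_le_right)
  obtain ⟨s, hs, hsM⟩ := SetLike.exists_of_lt (Group.normalizerCondition_of_isNilpotent _ hlt)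
  refine hsM (mem_subgroupOf.2 (mem_inf.2 ⟨s.2, ZStarApps.mem_normalizer_of_maps ?_⟩))
  refine P.conj_N (P.big.two.ctx.le_center s.2) fun p hp => ?_
  have := (mem_normalizer_iff.1 hs ⟨p, (mem_inf.1 hp).1⟩).1
    (mem_subgroupOf.2 (mem_inf.2 ⟨(mem_inf.1 hp).1, le_normalizer hp⟩))
  exact ⟨(mem_inf.1 (mem_subgroupOf.1 this)).1, (mem_inf.1 (mem_subgroupOf.1 this)).2⟩

theorem swap {g : G} (hg : g ∈ (S : Subgroup G)) (hgN : g ∉ Ns S x) :
    (∀ t ∈ Cs S x, g * t * g⁻¹ ∈ Cs S w) ∧ (∀ k ∈ Cs S w, g * k * g⁻¹ ∈ Cs S x) :=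
  P.normalizer_cases hg (P.S_le_normalizer hg) hgN

/-- An element outside with square in `A` inverts what it fixes modulo `A`. -/
theorem inverts {g p : G} (hg : g ∈ (S : Subgroup G)) (hgN : g ∉ Ns S x) (hgg : g * g ∈ A) (hp : p ∈ Ns S x)
    (hgp : ⁅g, p⁆ ∈ A) : g * p * g⁻¹ = p⁻¹ := by
  obtain ⟨t, ht, k, hk, rfl⟩ := P.split hp
  obtain ⟨hgT, hgK⟩ := P.swap hg hgN
  set k' := g * t * g⁻¹
  set t' := g * k * g⁻¹
  have hk' : k' ∈ Cs S w := hgT t ht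
  have ht' : t' ∈ Cs S x := hgK k hk
  have e0 : k' * t' = ⁅g, t * k⁆ * (t * k) := by simp only [k', t', commutatorElement_def]; group
  have hconj : t'⁻¹ * k' * t' ∈ Cs S w := by
    rw [show t'⁻¹ * k' * t' = ⁅t'⁻¹, k'⁆ * k' by simp only [commutatorElement_def]; group]
    exact mul_mem (P.A_le_K (P.big.comm_mem (inv_mem (P.big.T_le_N ht')) (P.K_le hk'))) hk'
  have e1 : (⁅g, t * k⁆ * t)⁻¹ * t' = k * (t'⁻¹ * k' * t')⁻¹ := by
    rw [show (t'⁻¹ * k' * t')⁻¹ = t'⁻¹ * k'⁻¹ * t' by group]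
    calc (⁅g, t * k⁆ * t)⁻¹ * t' = k * (⁅g, t * k⁆ * (t * k))⁻¹ * t' := by group
      _ = k * (k' * t')⁻¹ * t' := by rw [e0]
      _ = _ := by group
  have hA := P.inter (mul_mem (inv_mem (mul_mem (P.big.A_le hgp) ht)) ht') (e1 ▸ mul_mem hk (inv_mem hconj))
  set a := ⁅g, t * k⁆ * ((⁅g, t * k⁆ * t)⁻¹ * t')
  have ha : a ∈ A := mul_mem hgp hA
  have et : t' = a * t := by
    simp only [a]
    rw [mul_assoc, ← (P.big.central hA (P.big.T_le ht)).symm.eq]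
    group
  have hgfix : g * g * k * (g * g)⁻¹ = k := by
    rw [(P.big.central hgg (mem_inf.1 hk).1).eq, mul_inv_cancel_right]
  have ek : k' = a * k := by
    have h1 : g * t' * g⁻¹ = k := by
      calc g * t' * g⁻¹ = g * g * k * (g * g)⁻¹ := by simp only [t']; group
        _ = k := hgfix
    rw [et, ← _root_.conj_mul, (show g * a * g⁻¹ = a from by
      rw [← (P.big.central ha hg).eq, mul_inv_cancel_right])] at h1
    show k' = _
    rw [← h1, ← mul_assoc, P.big.two.ctx.min.sq a ha, one_mul]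
  show g * (t * k) * g⁻¹ = _
  rw [← _root_.conj_mul]
  show k' * t' = _
  rw [et, ek, mul_inv_rev, inv_eq_of_mul_eq_one_right (P.big.T_sq ht), inv_eq_of_mul_eq_one_right (P.K_sq hk),
    mul_assoc a k, ← mul_assoc k a t, ← (P.big.central ha (mem_inf.1 hk).1).eq, mul_assoc a k t,
    ← mul_assoc a a, P.big.two.ctx.min.sq a ha, one_mul]

theorem fixed_comm {g p q : G} (hg : g ∈ (S : Subgroup G)) (hgN : g ∉ Ns S x) (hgg : g * g ∈ A)
    (hp : p ∈ Ns S x) (hgp : ⁅g, p⁆ ∈ A) (hq : q ∈ Ns S x) (hgq : ⁅g, q⁆ ∈ A) : Commute p q := by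
  have hgpq : ⁅g, p * q⁆ ∈ A := by
    rw [Cfsg.Lib.CommFixedGen.comm_mul_right, (P.big.central hgq (mem_inf.1 hp).1).symm.eq, mul_inv_cancel_right]
    exact mul_mem hgp hgq
  have e := P.inverts hg hgN hgg (mul_mem hp hq) hgpq
  rw [← _root_.conj_mul, P.inverts hg hgN hgg hp hgp, P.inverts hg hgN hgg hq hgq, ← mul_inv_rev, inv_inj] at e
  exact e.symm

theorem diag {g k : G} (hg : g ∈ (S : Subgroup G)) (hgN : g ∉ Ns S x) (hgg : g * g ∈ A) (hk : k ∈ Cs S w) :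
    g * k * g⁻¹ * k ∈ Ns S x ∧ g * (g * k * g⁻¹ * k) * g⁻¹ = (g * k * g⁻¹ * k)⁻¹ ∧
      ⁅g, g * k * g⁻¹ * k⁆ ∈ A := by
  have hkk := inv_eq_of_mul_eq_one_right (P.K_sq hk)
  have hp : g * k * g⁻¹ * k ∈ Ns S x := mul_mem (P.big.T_le_N ((P.swap hg hgN).2 k hk)) (P.K_le hk)
  have e : g * (g * k * g⁻¹ * k) * g⁻¹ = (g * k * g⁻¹ * k)⁻¹ := by
    calc g * (g * k * g⁻¹ * k) * g⁻¹ = g * g * k * (g * g)⁻¹ * (g * k * g⁻¹) := by group
      _ = k * (g * k * g⁻¹) := by rw [(P.big.central hgg (mem_inf.1 hk).1).eq, mul_inv_cancel_right]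
      _ = k⁻¹ * (g * k⁻¹ * g⁻¹) := by rw [hkk]
      _ = _ := by group
  refine ⟨hp, e, ?_⟩
  rw [commutatorElement_def, e, ← mul_inv_rev]
  exact inv_mem (P.big.sq_mem hp)

theorem diag_sq {g k : G} (hg : g ∈ (S : Subgroup G)) (hgN : g ∉ Ns S x) (hk : k ∈ Cs S w) (hkA : k ∉ A) :
    g * k * g⁻¹ * k * (g * k * g⁻¹ * k) ≠ 1 := by
  rw [P.mul_sq ((P.swap hg hgN).2 k hk) hk]
  exact P.pair_ne ((P.swap hg hgN).2 k hk) (P.not_conj_A (P.big.two.ctx.le_center hg) hkA) hk hkA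

theorem pairing {t₀ k₀ t k : G} (ht₀ : t₀ ∈ Cs S x) (hk₀ : k₀ ∈ Cs S w) (ht : t ∈ Cs S x) (hk : k ∈ Cs S w)
    (e : t₀ * k₀ * (t * k) * (t₀ * k₀)⁻¹ = (t * k)⁻¹) : ⁅t, k⁆ = ⁅t₀, k⁆ * ⁅t, k₀⁆ := by
  have n₀ := P.big.T_le_N ht₀
  have m₀ := P.K_le hk₀
  have nt := P.big.T_le_N ht
  have mk := P.K_le hk
  calc ⁅t, k⁆ = ⁅t, k⁆⁻¹ := (P.big.A_inv (P.big.comm_mem nt mk)).symm
    _ = (t * k)⁻¹ * (t * k)⁻¹ := by rw [← P.mul_sq ht hk, mul_inv_rev]
    _ = ⁅t₀ * k₀, t * k⁆ := by rw [commutatorElement_def, e]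
    _ = ⁅t₀, t⁆ * ⁅t₀, k⁆ * (⁅k₀, t⁆ * ⁅k₀, k⁆) := by
      rw [P.big.mul_left n₀ m₀ (mul_mem nt mk), P.big.mul_right n₀ nt mk, P.big.mul_right m₀ nt mk]
    _ = ⁅t₀, k⁆ * ⁅t, k₀⁆ := by
      rw [commutatorElement_eq_one_iff_mul_comm.2 (P.big.T_comm ht₀ ht).eq,
        commutatorElement_eq_one_iff_mul_comm.2 (P.K_comm hk₀ hk).eq, one_mul, mul_one, P.big.symm nt m₀]

theorem cancel_right {t k k' : G} (ht : t ∈ Cs S x) (htA : t ∉ A) (hk : k ∈ Cs S w) (hk' : k' ∈ Cs S w)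
    (e : ⁅t, k⁆ = ⁅t, k'⁆) : k * k' ∈ A := by
  by_contra hA
  refine P.pair_ne ht htA (mul_mem hk hk') hA ?_
  rw [P.big.mul_right (P.big.T_le_N ht) (P.K_le hk) (P.K_le hk'), e,
    P.big.two.ctx.min.sq _ (P.big.comm_mem (P.big.T_le_N ht) (P.K_le hk'))]

theorem cancel_left {t t' k : G} (ht : t ∈ Cs S x) (ht' : t' ∈ Cs S x) (hk : k ∈ Cs S w) (hkA : k ∉ A)
    (e : ⁅t, k⁆ = ⁅t', k⁆) : t * t' ∈ A := by
  by_contra hA
  refine P.pair_ne (mul_mem ht ht') hA hk hkA ?_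
  rw [P.big.mul_left (P.big.T_le_N ht) (P.big.T_le_N ht') (P.K_le hk), e,
    P.big.two.ctx.min.sq _ (P.big.comm_mem (P.big.T_le_N ht') (P.K_le hk))]

/-- Three elements of `N_S(T)` inverted by one of it do not behave like a four group. -/
theorem no_three {n : G} (hn : n ∈ Ns S x) (hnA : n ∉ A) (d : Fin 3 → G) (hd : ∀ i, d i ∈ Ns S x)
    (hsq : ∀ i, d i * d i ≠ 1) (hinv : ∀ i, n * d i * n⁻¹ = (d i)⁻¹)
    (hne : ∀ i j, i ≠ j → d i * (d j)⁻¹ ∉ A) (hprod : d 0 * d 1 * (d 0 * d 1) ≠ 1) : False := by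
  classical
  obtain ⟨t₀, ht₀, k₀, hk₀, rfl⟩ := P.split hn
  choose t ht k hk hdk using fun i => P.split (hd i)
  have heq : ∀ i, ⁅t i, k i⁆ = ⁅t₀, k i⁆ * ⁅t i, k₀⁆ := fun i =>
    P.pairing ht₀ hk₀ (ht i) (hk i) (by rw [← hdk i]; exact hinv i)
  have htA : ∀ i, t i ∉ A := fun i hA => hsq i (by
    rw [hdk i]
    exact P.K_sq (mul_mem (P.A_le_K hA) (hk i)))
  have hkA : ∀ i, k i ∉ A := fun i hA => hsq i (by
    rw [hdk i]
    exact P.big.T_sq (mul_mem (ht i) (P.big.A_le hA)))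
  have one_of : ∀ {p q : G}, p ∈ A → q ∈ Ns S x → ⁅p, q⁆ = 1 := fun hp hq =>
    commutatorElement_eq_one_iff_mul_comm.2 (P.big.central hp (mem_inf.1 hq).1).eq
  have hsq' : ∀ {p : G}, p ∈ Ns S x → ∀ q ∈ A, q * q = 1 := fun _ q hq => P.big.two.ctx.min.sq q hq
  by_cases h0 : t₀ ∈ A
  · have h1 : ∀ i, k i * k₀ ∈ A := fun i => P.cancel_right (ht i) (htA i) (hk i) hk₀ (by
      rw [heq i, one_of h0 (P.K_le (hk i)), one_mul])
    refine hprod (P.big.T_sq ?_)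
    have h01 : k 0 * k 1 ∈ A := by
      have := mul_mem (h1 0) (inv_mem (h1 1))
      rwa [show k 0 * k₀ * (k 1 * k₀)⁻¹ = k 0 * (k 1)⁻¹ by group,
        inv_eq_of_mul_eq_one_right (P.K_sq (hk 1))] at this
    rw [hdk 0, hdk 1, show t 0 * k 0 * (t 1 * k 1) = t 0 * ⁅k 0, t 1⁆ * t 1 * (k 0 * k 1) by
      rw [commutatorElement_def]; group]
    exact mul_mem (mul_mem (mul_mem (ht 0) (P.big.A_le (P.big.comm_mem (P.K_le (hk 0)) (P.big.T_le_N (ht 1)))))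
      (ht 1)) (P.big.A_le h01)
  by_cases h1 : k₀ ∈ A
  · have h1' : ∀ i, t i * t₀ ∈ A := fun i => P.cancel_left (ht i) ht₀ (hk i) (hkA i) (by
      rw [heq i, P.big.symm (P.K_le hk₀) (P.big.T_le_N (ht i)), one_of h1 (P.big.T_le_N (ht i)), mul_one])
    refine hprod (P.K_sq ?_)
    have h01 : t 0 * t 1 ∈ A := by
      have := mul_mem (h1' 0) (inv_mem (h1' 1))
      rwa [show t 0 * t₀ * (t 1 * t₀)⁻¹ = t 0 * (t 1)⁻¹ by group,
        inv_eq_of_mul_eq_one_right (P.big.T_sq (ht 1))] at this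
    rw [hdk 0, hdk 1, show t 0 * k 0 * (t 1 * k 1) = t 0 * t 1 * (⁅(t 1)⁻¹, k 0⁆ * k 0) * k 1 by
      rw [commutatorElement_def]; group]
    exact mul_mem (mul_mem (P.A_le_K h01) (mul_mem
      (P.A_le_K (P.big.comm_mem (inv_mem (P.big.T_le_N (ht 1))) (P.K_le (hk 0)))) (hk 0))) (hk 1)
  have hc : ⁅t₀, k₀⁆ ≠ 1 := P.pair_ne ht₀ h0 hk₀ h1
  have hshift : ∀ i, ⁅t i * t₀, k i * k₀⁆ = ⁅t₀, k₀⁆ := fun i => by
    have ni := P.big.T_le_N (ht i)
    have n₀ := P.big.T_le_N ht₀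
    have mi := P.K_le (hk i)
    have m₀ := P.K_le hk₀
    rw [P.big.mul_left ni n₀ (mul_mem mi m₀), P.big.mul_right ni mi m₀, P.big.mul_right n₀ mi m₀, heq i,
      mul_assoc ⁅t₀, k i⁆, hsq' ni _ (P.big.comm_mem ni m₀), mul_one, ← mul_assoc,
      hsq' ni _ (P.big.comm_mem n₀ mi), one_mul]
  have hk0i : ∀ i, k i * k₀ ∉ A := fun i hA => hc (by
    rw [← hshift i, P.big.symm (P.K_le (mul_mem (hk i) hk₀)) (mul_mem (P.big.T_le_N (ht i)) (P.big.T_le_N ht₀))]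
    exact one_of hA (mul_mem (P.big.T_le_N (ht i)) (P.big.T_le_N ht₀)))
  have hkij : ∀ i j, i ≠ j → k i * k j ∉ A := fun i j hij hA => by
    have e : ⁅t i * t₀, k i * k₀⁆ = ⁅t j * t₀, k i * k₀⁆ := by
      rw [hshift i, ← hshift j, show k i * k₀ = k i * k j * (k j * k₀) by
        rw [← mul_assoc, mul_assoc (k i) (k j) (k j), P.K_sq (hk j), mul_one],
        P.big.mul_right (mul_mem (P.big.T_le_N (ht j)) (P.big.T_le_N ht₀)) (P.K_le (mul_mem (hk i) (hk j)))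
          (P.K_le (mul_mem (hk j) hk₀)),
        P.big.symm (P.K_le (mul_mem (hk i) (hk j))) (mul_mem (P.big.T_le_N (ht j)) (P.big.T_le_N ht₀)),
        one_of hA (mul_mem (P.big.T_le_N (ht j)) (P.big.T_le_N ht₀)), one_mul]
    have h2 := P.cancel_left (mul_mem (ht i) ht₀) (mul_mem (ht j) ht₀) (mul_mem (hk i) hk₀) (hk0i i) e
    rw [show t i * t₀ * (t j * t₀) = t i * t₀ * (t₀ * t j) by rw [(P.big.T_comm (ht j) ht₀).eq],
      ← mul_assoc, mul_assoc (t i), P.big.T_sq ht₀, mul_one] at h2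
    refine hne i j hij ?_
    rw [hdk i, hdk j, mul_inv_rev, inv_eq_of_mul_eq_one_right (P.K_sq (hk j)),
      inv_eq_of_mul_eq_one_right (P.big.T_sq (ht j)),
      show t i * k i * (k j * t j) = t i * (k i * k j) * t j by group,
      mul_assoc, (P.big.central hA (P.big.T_le (ht j))).eq, ← mul_assoc]
    exact mul_mem h2 hA
  let c : Fin 5 → ↥(Cs S w) := ![1, ⟨k₀, hk₀⟩, ⟨k 0, hk 0⟩, ⟨k 1, hk 1⟩, ⟨k 2, hk 2⟩]
  have hc' : ∀ i j, i < j → (c i : G) * c j ∉ A := by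
    intro i j hij
    have hsym : ∀ i, k₀ * k i ∉ A := fun i => by rw [(P.K_comm hk₀ (hk i)).eq]; exact hk0i i
    fin_cases i <;> fin_cases j <;> first | (exact absurd hij (by decide)) |
      simp [c, h1, hkA, hsym, hkij]
  have hinj : Function.Injective fun p : ↥A × Fin 5 => (⟨(p.1 : G) * c p.2, mul_mem (P.A_le_K p.1.2) (c p.2).2⟩ : ↥(Cs S w)) := by
    intro p q e
    have e' : (p.1 : G) * c p.2 = q.1 * c q.2 := congrArg Subtype.val e
    have h2 : (c p.2 : G) * c q.2 = (p.1 : G)⁻¹ * q.1 := by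
      rw [show (p.1 : G)⁻¹ * q.1 = (p.1 : G)⁻¹ * (q.1 * c q.2) * (c q.2 : G)⁻¹ by group, ← e',
        inv_eq_of_mul_eq_one_right (P.K_sq (c q.2).2)]
      group
    have hA' : (c p.2 : G) * c q.2 ∈ A := h2 ▸ mul_mem (inv_mem p.1.2) q.1.2
    rcases lt_trichotomy p.2 q.2 with hl | hl | hl
    · exact absurd hA' (hc' _ _ hl)
    · rw [hl] at e'
      exact Prod.ext (Subtype.ext (mul_right_cancel e')) hl
    · exact absurd ((P.K_comm (c p.2).2 (c q.2).2).eq ▸ hA') (hc' _ _ hl)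
  have := Nat.card_le_card_of_injective _ hinj
  rw [Nat.card_prod, P.big.two.ctx.card, Nat.card_fin, P.K_facts.2.1] at this
  omega

end Dual

end Cfsg.Lib.Goldschmidt.RankTwo
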