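import Cfsg.Agent.Goldschmidt.Fusion
import Cfsg.Agent.LFourType.Spec

/-!
Rank two (`notes/goldschmidt_r2_h8.md`): what is used about the centralisers of the involutions of `C(A)` outside `A`.
-/

set_option autoImplicit false
set_option linter.unusedSectionVars false

namespace Cfsg.Lib.Goldschmidt.RankTwo

open Subgroup Cfsg.Lib.Components
open Cfsg.Lib.Walter (IsComp Oc)
open scoped commutatorElement

universe u

variable {G : Type u} [Group G] [Finite G]

/-- `O(C(A))`. -/
abbrev kappa (A : Subgroup G) : Subgroup G := PTerminal.Core 2 (centralizer (A : Set G))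

/-- A 2-component of `C(y)` which `A` does not centralise modulo the core. -/
def MovedAt (A : Subgroup G) (y : G) (L : Subgroup G) : Prop :=
  IsComp y L ∧ ¬ A ≤ PTerminal.Cent 2 (centralizer ({y} : Set G)) L

/-- The functor `[O, A](O ∩ O(C(A)))` is balanced at `y`. -/
def Harmless (A : Subgroup G) (y : G) : Prop :=
  (∀ D : Subgroup G, D ≤ centralizer ({y} : Set G) → A ≤ normalizer (D : Set G) → Odd (Nat.card D) →
    ⁅D, A⁆ ≤ Oc y) ∧ kappa A ⊓ centralizer ({y} : Set G) ≤ Oc y

/-- The two facts from the structure of the centralisers. -/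
structure Facts (A : Subgroup G) : Prop where
  -- a moved component contains an element cycling `A`
  rot : ∀ {y L}, y ∈ centralizer (A : Set G) → orderOf y = 2 → MovedAt A y L →
    A ≤ normalizer (L : Set G) ∧ ∃ r ∈ L, r ∈ normalizer (A : Set G) ∧ r ∉ centralizer (A : Set G)
  -- balance fails only at a component `PSL(2, q)`, on which the 2-elements of `C(A)` act as elements of `A`
  bad : ∀ {y}, y ∈ centralizer (A : Set G) → orderOf y = 2 → ¬ Harmless A y →
    ∃ L, MovedAt A y L ∧ ∀ g ∈ centralizer ({y} : Set G), g ∈ centralizer (A : Set G) →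
      (∃ k : ℕ, orderOf g = 2 ^ k) → ∃ v ∈ A, v⁻¹ * g ∈ PTerminal.Cent 2 (centralizer ({y} : Set G)) L

/-- The facts follow from the induction hypothesis. -/
def FactsSpec (G : Type u) [Group G] [Finite G] : Prop :=
  ∀ (S : Sylow 2 G) (A : Subgroup G), Min S A → Nat.card A = 4 → Facts A

end Cfsg.Lib.Goldschmidt.RankTwo
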