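import Cfsg.Agent.Goldschmidt.RankTwo.Eight

/-!
Rank two: a maximal centraliser of order sixteen whose normaliser in the Sylow subgroup realises all shifts.
-/

set_option autoImplicit false
set_option linter.unusedSectionVars false
set_option linter.style.haveILetI false

namespace Cfsg.Lib.Goldschmidt.RankTwo

open Subgroup Cfsg.Lib.Components
open scoped commutatorElement

universe u

variable {G : Type u} [Group G] [Finite G] {S : Sylow 2 G} {A : Subgroup G}

theorem Ctx.exists_conj (h : Ctx S A) {U : Subgroup G} (hU : IsPGroup 2 U) (hUA : U ≤ centralizer (A : Set G)) :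
    ∃ c ∈ centralizer (A : Set G), ∀ u ∈ U, c * u * c⁻¹ ∈ (S : Subgroup G) := by
  haveI : Fact (Nat.Prime 2) := ⟨Nat.prime_two⟩
  obtain ⟨P, hP⟩ := (hU.of_equiv (subgroupOfEquivOfLe hUA).symm).exists_le_sylow
  obtain ⟨c, hc⟩ := MulAction.exists_smul_eq (↥(centralizer (A : Set G))) P (S.subtype h.le_center)
  refine ⟨c, c.2, fun u hu => ?_⟩
  have hin : c * (⟨u, hUA hu⟩ : ↥(centralizer (A : Set G))) * c⁻¹ ∈
      (S.subtype h.le_center : Subgroup ↥(centralizer (A : Set G))) := by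
    rw [← hc, Sylow.coe_subgroup_smul]
    exact ⟨_, hP (mem_subgroupOf.2 hu), rfl⟩
  exact hin

theorem Two.exists_data (h : Two S A) {x : G} (hx : IsMax S A x) : ∃ Y r, MaxData S A x Y r := by
  obtain ⟨Y, r, y, h1, h2, h3, h4, h5, hy, hbad⟩ := h.complement hx.1
  exact ⟨Y, r, hx, h1, h2, h3, h4, h5, y, hy, hbad⟩

/-- A maximal centraliser of order sixteen with the whole group of shifts in the Sylow subgroup. -/
structure Big (S : Sylow 2 G) (A : Subgroup G) (x : G) : Prop where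
  two : Two S A
  max : IsMax S A x
  card16 : Nat.card ↥(Cs S x) = 16
  card64 : 64 ≤ Nat.card ↥((S : Subgroup G) ⊓ normalizer (Cs S x : Set G))

theorem MaxData.exists_big {x r : G} {Y : Subgroup G} (d : MaxData S A x Y r) (h : Two S A) : ∃ x', Big S A x' := by
  haveI : Fact (Nat.Prime 2) := ⟨Nat.prime_two⟩
  set T := Cs S x
  have hT16 : Nat.card ↥T = 16 := by
    rw [d.card_T h, (d.card_Y h).resolve_left (d.card_Y_ne_two h)]
  have hxT : x ∈ T := mem_Cs.2 ⟨d.max.1.1, Commute.refl x⟩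
  let K : Subgroup G :=
    { carrier := {u | IsShift A T u}
      one_mem' := ⟨one_mem _, one_mem _, fun t _ => by rw [commutatorElement_one_left]; exact one_mem _⟩
      mul_mem' := fun hu hw => MaxData.shift_mul hu hw
      inv_mem' := fun {u} hu => by
        show IsShift A T u⁻¹
        rw [show u⁻¹ = u ^ (orderOf u - 1) from inv_eq_of_mul_eq_one_left (by
          rw [← pow_succ, Nat.sub_add_cancel (orderOf_pos u), pow_orderOf_eq_one])]
        exact d.shift_pow h hu _ }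
  have hTK : T ≤ K := fun t ht => ⟨d.cent h ht, le_normalizer ht, fun t' ht' => by
    rw [commutatorElement_eq_one_iff_mul_comm.2 (h.abelian d.max.1 ht ht').eq]; exact one_mem _⟩
  let φ : ↥K →* ↥A := MonoidHom.mk' (fun u => ⟨⁅(u : G), x⁆, u.2.2.2 x hxT⟩) fun u w => Subtype.ext (by
    show ⁅(u : G) * w, x⁆ = ⁅(u : G), x⁆ * ⁅(w : G), x⁆
    rw [MaxData.shift_mul_left (T := T) u.2.1 (w.2.2.2 x hxT)]
    exact h.ctx.comm (w.2.2.2 x hxT) (u.2.2.2 x hxT))
  have hsurj : Function.Surjective φ := fun b => by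
    obtain ⟨u, hu, -, hub⟩ := d.exists_shift_eq h hxT d.max.1.2.1 b.2
    exact ⟨⟨u, hu⟩, Subtype.ext hub⟩
  obtain ⟨P, hP⟩ := ((S.2.to_le (inf_le_left : T ≤ (S : Subgroup G))).of_equiv
    (subgroupOfEquivOfLe hTK).symm).exists_le_sylow
  have hrange : (φ.comp (P : Subgroup ↥K).subtype).range = ⊤ := by
    rw [MonoidHom.range_comp, range_subtype]
    exact ((P.mapSurjective hsurj).is_maximal' (Q := (⊤ : Subgroup ↥A))
      ((S.2.to_le h.ctx.min.le).of_equiv Subgroup.topEquiv.symm) le_top).symm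
  have hP64 : 64 ≤ Nat.card ↥(P : Subgroup ↥K) := by
    rw [← (φ.comp (P : Subgroup ↥K).subtype).ker.card_mul_index, Subgroup.index_ker, hrange, card_top, h.ctx.card]
    have : 16 ≤ Nat.card ↥(φ.comp (P : Subgroup ↥K).subtype).ker := by
      rw [← hT16]
      refine Nat.card_le_card_of_injective (fun t : ↥T => (⟨⟨⟨t, hTK t.2⟩, hP (mem_subgroupOf.2 t.2)⟩,
        MonoidHom.mem_ker.2 (Subtype.ext ?_)⟩ : ↥(φ.comp (P : Subgroup ↥K).subtype).ker)) fun a b e =>
          Subtype.ext (congrArg (fun z => (((z : ↥(P : Subgroup ↥K)) : ↥K) : G)) (congrArg Subtype.val e))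
      exact commutatorElement_eq_one_iff_mul_comm.2 (h.abelian d.max.1 t.2 hxT).eq
    omega
  set U := (P : Subgroup ↥K).map K.subtype
  have hUA : U ≤ centralizer (A : Set G) := by
    rintro _ ⟨u, -, rfl⟩; exact u.2.1
  obtain ⟨c, hc, hcS⟩ := h.ctx.exists_conj (P.2.map K.subtype) hUA
  have hxU : x ∈ U := ⟨⟨x, hTK hxT⟩, hP (mem_subgroupOf.2 hxT), rfl⟩
  set x' := c * x * c⁻¹
  have hx' : Inv S A x' := ⟨hcS x hxU, fun e => d.max.1.2.1 (by
    rw [show x = c⁻¹ * x' * c by simp only [x']; group, mul_assoc, mem_centralizer_iff.1 hc _ e, inv_mul_cancel_left]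
    exact e), by rw [_root_.conj_mul, d.max.1.2.2, mul_one, mul_inv_cancel]⟩
  have hsub : T.map (MulAut.conj c).toMonoidHom ≤ Cs S x' := by
    rintro _ ⟨t, ht, rfl⟩
    refine mem_Cs.2 ⟨hcS t ⟨⟨t, hTK ht⟩, hP (mem_subgroupOf.2 ht), rfl⟩, ?_⟩
    exact (h.abelian d.max.1 ht hxT).map (MulAut.conj c).toMonoidHom
  have hmap : Nat.card ↥(T.map (MulAut.conj c).toMonoidHom) = 16 := by
    rw [card_map_of_injective (MulAut.conj c).injective, hT16]
  have hle := d.max.2 x' hx'
  rw [show Nat.card ↥(Cs S x) = 16 from hT16] at hle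
  have heq : T.map (MulAut.conj c).toMonoidHom = Cs S x' := Subgroup.eq_of_le_of_card_ge hsub (by rw [hmap]; exact hle)
  have hmax : IsMax S A x' := ⟨hx', fun z hz => (d.max.2 z hz).trans (by
    rw [show Nat.card ↥(Cs S x) = 16 from hT16, ← heq, hmap])⟩
  refine ⟨x', h, hmax, by rw [← heq, hmap], ?_⟩
  refine le_trans hP64 (Nat.card_le_card_of_injective (fun p : ↥(P : Subgroup ↥K) =>
    (⟨c * ((p : ↥K) : G) * c⁻¹, mem_inf.2 ⟨hcS _ ⟨p, p.2, rfl⟩, ?_⟩⟩ :
      ↥((S : Subgroup G) ⊓ normalizer (Cs S x' : Set G)))) fun p q e =>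
        Subtype.ext (Subtype.ext (mul_left_cancel (mul_right_cancel (congrArg Subtype.val e)))))
  refine ZStarApps.mem_normalizer_of_maps fun t' ht' => ?_
  rw [← heq] at ht' ⊢
  obtain ⟨t, ht, rfl⟩ := ht'
  exact ⟨((p : ↥K) : G) * t * ((p : ↥K) : G)⁻¹, (mem_normalizer_iff.1 (p : ↥K).2.2.1 t).1 ht,
    by simp [mul_assoc]⟩

end Cfsg.Lib.Goldschmidt.RankTwo
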