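import Cfsg.Agent.Goldschmidt.RankTwo.Shift

/-!
Rank two: the normaliser of the maximal centraliser is `T K`, the product of two elementary groups of order sixteen
with a non-degenerate commutator pairing into `A`.
-/

set_option autoImplicit false
set_option linter.unusedSectionVars false
set_option linter.style.haveILetI false

namespace Cfsg.Lib.Goldschmidt.RankTwo

open Subgroup Cfsg.Lib.Components
open scoped commutatorElement

universe u

variable {G : Type u} [Group G] [Finite G] {S : Sylow 2 G} {A : Subgroup G}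

/-- `N_S(C_S(x))`. -/
abbrev Ns (S : Sylow 2 G) (x : G) : Subgroup G := (S : Subgroup G) ⊓ normalizer (Cs S x : Set G)

namespace Big

variable {x : G} (b : Big S A x)
include b

theorem T_le : Cs S x ≤ (S : Subgroup G) := inf_le_left

theorem x_mem : x ∈ Cs S x := mem_Cs.2 ⟨b.max.1.1, Commute.refl x⟩

theorem A_le : A ≤ Cs S x := b.two.le_Cs b.max.1.1

theorem T_le_N : Cs S x ≤ Ns S x := le_inf inf_le_left le_normalizer

theorem central {a s : G} (ha : a ∈ A) (hs : s ∈ (S : Subgroup G)) : Commute a s :=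
  mem_centralizer_iff.1 (b.two.ctx.le_center hs) a ha

theorem A_inv {a : G} (ha : a ∈ A) : a⁻¹ = a := inv_eq_of_mul_eq_one_right (b.two.ctx.min.sq a ha)

theorem T_comm {p q : G} (hp : p ∈ Cs S x) (hq : q ∈ Cs S x) : Commute p q := b.two.abelian b.max.1 hp hq

theorem T_sq {t : G} (ht : t ∈ Cs S x) : t * t = 1 := by
  obtain ⟨Y, r, d⟩ := b.two.exists_data b.max
  exact d.T_sq b.two ht

theorem shift {s : G} (hs : s ∈ Ns S x) : IsShift A (Cs S x) s := by
  obtain ⟨Y, r, d⟩ := b.two.exists_data b.max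
  exact d.shift_of_normalizer b.two (mem_inf.1 hs).1 (mem_inf.1 hs).2

theorem mem_T {s : G} (hs : s ∈ Ns S x) {z : G} (hz : z ∈ Cs S x) (hzA : z ∉ A) (hc : Commute s z) :
    s ∈ Cs S x := by
  obtain ⟨Y, r, d⟩ := b.two.exists_data b.max
  have h := d.shift_trivial b.two (b.shift hs) hz hzA (b.T_sq hz) hc
  exact mem_Cs.2 ⟨(mem_inf.1 hs).1, (mem_centralizer_iff.1 h x b.x_mem).symm⟩

theorem inj {s t : G} (hs : s ∈ Ns S x) (hsT : s ∉ Cs S x) (ht : t ∈ Cs S x) (htA : t ∉ A) : ⁅s, t⁆ ≠ 1 :=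
  fun e => hsT (b.mem_T hs ht htA (commutatorElement_eq_one_iff_mul_comm.1 e))

theorem sq_mem {s : G} (hs : s ∈ Ns S x) : s * s ∈ A := by
  by_cases hsT : s ∈ Cs S x
  · rw [b.T_sq hsT]; exact one_mem _
  have h1 := MaxData.shift_sq b.two (b.shift hs)
  rw [pow_two] at h1
  have hT : s * s ∈ Cs S x :=
    mem_Cs.2 ⟨mul_mem (mem_inf.1 hs).1 (mem_inf.1 hs).1, (mem_centralizer_iff.1 h1 x b.x_mem).symm⟩
  by_contra hA
  exact hsT (b.mem_T hs hT hA ((Commute.refl s).mul_right (Commute.refl s)))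

theorem comm_mem {p q : G} (hp : p ∈ Ns S x) (hq : q ∈ Ns S x) : ⁅p, q⁆ ∈ A := by
  have e : ⁅p, q⁆ = (p * q) * (p * q) * (q * q)⁻¹ * (p * p)⁻¹ := by
    calc ⁅p, q⁆ = p * q * (p * q) * q⁻¹ * (p * p)⁻¹ * q⁻¹ := by rw [commutatorElement_def]; group
      _ = _ := by
        rw [mul_assoc _ (p * p)⁻¹ q⁻¹, (b.central (inv_mem (b.sq_mem hp)) (inv_mem (mem_inf.1 hq).1)).eq]
        group
  rw [e]
  exact mul_mem (mul_mem (b.sq_mem (mul_mem hp hq)) (inv_mem (b.sq_mem hq))) (inv_mem (b.sq_mem hp))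

theorem mul_left {p q r : G} (hp : p ∈ Ns S x) (hq : q ∈ Ns S x) (hr : r ∈ Ns S x) :
    ⁅p * q, r⁆ = ⁅p, r⁆ * ⁅q, r⁆ := by
  rw [Cfsg.Lib.CommFixedGen.comm_mul_left, (b.central (b.comm_mem hq hr) (mem_inf.1 hp).1).symm.eq,
    mul_inv_cancel_right, (b.two.ctx.comm (b.comm_mem hq hr) (b.comm_mem hp hr)).eq]

theorem mul_right {p q r : G} (hp : p ∈ Ns S x) (hq : q ∈ Ns S x) (hr : r ∈ Ns S x) :
    ⁅p, q * r⁆ = ⁅p, q⁆ * ⁅p, r⁆ := by
  rw [Cfsg.Lib.CommFixedGen.comm_mul_right, (b.central (b.comm_mem hp hr) (mem_inf.1 hq).1).symm.eq,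
    mul_inv_cancel_right]

theorem symm {p q : G} (hp : p ∈ Ns S x) (hq : q ∈ Ns S x) : ⁅q, p⁆ = ⁅p, q⁆ := by
  rw [← commutatorElement_inv, b.A_inv (b.comm_mem hp hq)]

/-- The pairing with a fixed element. -/
def psi (s : ↥(Ns S x)) : ↥(Ns S x) →* ↥A :=
  MonoidHom.mk' (fun p => ⟨⁅(s : G), (p : G)⁆, b.comm_mem s.2 p.2⟩) fun p q => Subtype.ext (b.mul_right s.2 p.2 q.2)

theorem card_N : Nat.card ↥(Ns S x) = 64 := by
  refine le_antisymm ?_ b.card64
  set f := b.psi ⟨x, b.T_le_N b.x_mem⟩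
  rw [← f.ker.card_mul_index, Subgroup.index_ker]
  have h1 : Nat.card ↥f.ker ≤ 16 := by
    rw [← b.card16]
    refine Nat.card_le_card_of_injective (fun p : ↥f.ker => (⟨((p : ↥(Ns S x)) : G), b.mem_T (p : ↥(Ns S x)).2
      b.x_mem b.max.1.2.1 ?_⟩ : ↥(Cs S x))) fun p q e => Subtype.ext (Subtype.ext (congrArg Subtype.val e :))
    exact (commutatorElement_eq_one_iff_mul_comm.1 (congrArg Subtype.val (MonoidHom.mem_ker.1 p.2))).symm
  have h2 : Nat.card ↥f.range ≤ 4 := (Subgroup.card_le_card_group _).trans_eq b.two.ctx.card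
  calc _ ≤ 16 * 4 := Nat.mul_le_mul h1 h2
    _ = 64 := by norm_num

theorem surj {s a : G} (hs : s ∈ Ns S x) (hsT : s ∉ Cs S x) (ha : a ∈ A) : ∃ t ∈ Cs S x, ⁅s, t⁆ = a := by
  set f := (b.psi ⟨s, hs⟩).comp (Subgroup.inclusion b.T_le_N)
  have hker : Nat.card ↥f.ker ≤ 4 := by
    rw [← b.two.ctx.card]
    refine Nat.card_le_card_of_injective (fun t : ↥f.ker => (⟨((t : ↥(Cs S x)) : G), by_contra fun hA =>
      b.inj hs hsT (t : ↥(Cs S x)).2 hA (congrArg Subtype.val (MonoidHom.mem_ker.1 t.2))⟩ : ↥A))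
      fun p q e => Subtype.ext (Subtype.ext (congrArg Subtype.val e :))
  have hr : f.range = ⊤ := by
    refine Subgroup.eq_top_of_card_eq _ (le_antisymm (Subgroup.card_le_card_group _) ?_)
    have := f.ker.card_mul_index
    rw [Subgroup.index_ker, b.card16] at this
    have := Nat.mul_le_mul_right (Nat.card ↥f.range) hker
    rw [b.two.ctx.card]
    omega
  obtain ⟨t, ht⟩ := MonoidHom.mem_range.1 (hr ▸ mem_top (⟨a, ha⟩ : ↥A))
  exact ⟨t, t.2, congrArg Subtype.val ht⟩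

theorem exists_second : ∃ w ∈ Ns S x, w ∉ Cs S x ∧ w * w = 1 := by
  obtain ⟨s, hs, hsT⟩ : ∃ s ∈ Ns S x, s ∉ Cs S x := by
    by_contra hno
    push Not at hno
    have := Subgroup.card_le_of_le (show Ns S x ≤ Cs S x from hno)
    rw [b.card_N, b.card16] at this
    omega
  obtain ⟨t, ht, hst⟩ := b.surj hs hsT (b.sq_mem hs)
  refine ⟨s * t, mul_mem hs (b.T_le_N ht), fun e => hsT (by simpa using mul_mem e (inv_mem ht)), ?_⟩
  have e : s * t * (s * t) = ⁅s, t⁆ * t * (s * s) * t := by rw [commutatorElement_def]; group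
  rw [e, hst, (b.central (b.sq_mem hs) (b.T_le ht)).eq, mul_assoc t (s * s) (s * s),
    b.two.ctx.min.sq _ (b.sq_mem hs), mul_one, b.T_sq ht]

end Big

/-- The maximal centraliser together with a second one in its normaliser. -/
structure Dual (S : Sylow 2 G) (A : Subgroup G) (x w : G) : Prop where
  big : Big S A x
  mem : w ∈ Ns S x
  nmem : w ∉ Cs S x
  invol : w * w = 1

theorem Big.exists_dual {x : G} (b : Big S A x) : ∃ w, Dual S A x w := by
  obtain ⟨w, h1, h2, h3⟩ := b.exists_second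
  exact ⟨w, b, h1, h2, h3⟩

namespace Dual

variable {x w : G} (P : Dual S A x w)
include P

theorem inv_w : Inv S A w := ⟨(mem_inf.1 P.mem).1, fun e => P.nmem (P.big.A_le e), P.invol⟩

theorem K_facts : IsMax S A w ∧ Nat.card ↥(Cs S w) = 16 ∧ Cs S w ≤ Ns S x := by
  set f := P.big.psi ⟨w, P.mem⟩
  set K' := f.ker.map (Ns S x).subtype
  have hK' : K' ≤ Cs S w := by
    rintro _ ⟨p, hp, rfl⟩
    exact mem_Cs.2 ⟨(mem_inf.1 p.2).1,
      (commutatorElement_eq_one_iff_mul_comm.1 (congrArg Subtype.val (MonoidHom.mem_ker.1 hp))).symm⟩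
  have h16 : 16 ≤ Nat.card ↥K' := by
    rw [Subgroup.card_subtype]
    have := f.ker.card_mul_index
    rw [Subgroup.index_ker, P.big.card_N] at this
    have h4 : Nat.card ↥f.range ≤ 4 := (Subgroup.card_le_card_group _).trans_eq P.big.two.ctx.card
    have := Nat.mul_le_mul_left (Nat.card ↥f.ker) h4
    omega
  have hle : Nat.card ↥(Cs S w) ≤ 16 := P.big.card16 ▸ P.big.max.2 w P.inv_w
  have e : K' = Cs S w := Subgroup.eq_of_le_of_card_ge hK' (hle.trans h16)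
  have h16' : Nat.card ↥(Cs S w) = 16 := le_antisymm hle (e ▸ h16)
  exact ⟨⟨P.inv_w, fun z hz => h16'.symm ▸ P.big.card16 ▸ P.big.max.2 z hz⟩, h16', e ▸ map_subtype_le _⟩

theorem K_le : Cs S w ≤ Ns S x := P.K_facts.2.2

theorem A_le_K : A ≤ Cs S w := P.big.two.le_Cs P.inv_w.1

theorem K_comm {p q : G} (hp : p ∈ Cs S w) (hq : q ∈ Cs S w) : Commute p q := P.big.two.abelian P.inv_w hp hq

theorem K_sq {k : G} (hk : k ∈ Cs S w) : k * k = 1 := by
  obtain ⟨Y, r, d⟩ := P.big.two.exists_data P.K_facts.1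
  exact d.T_sq P.big.two hk

theorem inter {z : G} (hT : z ∈ Cs S x) (hK : z ∈ Cs S w) : z ∈ A := by
  by_contra hA
  exact P.nmem (P.big.mem_T P.mem hT hA (P.K_comm hK (mem_Cs.2 ⟨P.inv_w.1, Commute.refl w⟩)).symm)

theorem pair_ne {t k : G} (ht : t ∈ Cs S x) (htA : t ∉ A) (hk : k ∈ Cs S w) (hkA : k ∉ A) : ⁅t, k⁆ ≠ 1 :=
  fun e => hkA (P.inter (P.big.mem_T (P.K_le hk) ht htA (commutatorElement_eq_one_iff_mul_comm.1 e).symm) hk)

theorem split {p : G} (hp : p ∈ Ns S x) : ∃ t ∈ Cs S x, ∃ k ∈ Cs S w, p = t * k := by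
  have hx := P.big.T_le_N P.big.x_mem
  set f := (P.big.psi ⟨x, hx⟩).comp (Subgroup.inclusion P.K_le)
  have hker : Nat.card ↥f.ker ≤ 4 := by
    rw [← P.big.two.ctx.card]
    refine Nat.card_le_card_of_injective (fun k : ↥f.ker => (⟨((k : ↥(Cs S w)) : G), by_contra fun hA =>
      P.pair_ne P.big.x_mem P.big.max.1.2.1 (k : ↥(Cs S w)).2 hA
        (congrArg Subtype.val (MonoidHom.mem_ker.1 k.2))⟩ : ↥A))
      fun p q e => Subtype.ext (Subtype.ext (congrArg Subtype.val e :))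
  have hr : f.range = ⊤ := by
    refine Subgroup.eq_top_of_card_eq _ (le_antisymm (Subgroup.card_le_card_group _) ?_)
    have := f.ker.card_mul_index
    rw [Subgroup.index_ker, P.K_facts.2.1] at this
    have := Nat.mul_le_mul_right (Nat.card ↥f.range) hker
    rw [P.big.two.ctx.card]
    omega
  obtain ⟨k, hk⟩ := MonoidHom.mem_range.1 (hr ▸ mem_top (⟨⁅x, p⁆, P.big.comm_mem hx hp⟩ : ↥A))
  have hk' : ⁅x, (k : G)⁆ = ⁅x, p⁆ := congrArg Subtype.val hk
  have hkN := P.K_le k.2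
  refine ⟨p * (k : G)⁻¹, P.big.mem_T (mul_mem hp (inv_mem hkN)) P.big.x_mem P.big.max.1.2.1 ?_, k, k.2, by group⟩
  refine (commutatorElement_eq_one_iff_mul_comm.1 ?_).symm
  rw [P.big.mul_right hx hp (inv_mem hkN), ← hk', ← P.big.mul_right hx hkN (inv_mem hkN), mul_inv_cancel,
    commutatorElement_one_right]

theorem mul_sq {t k : G} (ht : t ∈ Cs S x) (hk : k ∈ Cs S w) : t * k * (t * k) = ⁅t, k⁆ := by
  rw [commutatorElement_def, inv_eq_of_mul_eq_one_right (P.big.T_sq ht), inv_eq_of_mul_eq_one_right (P.K_sq hk)]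
  group

theorem invol_cases {p : G} (hp : p ∈ Ns S x) (hpp : p * p = 1) : p ∈ Cs S x ∨ p ∈ Cs S w := by
  obtain ⟨t, ht, k, hk, rfl⟩ := P.split hp
  rw [P.mul_sq ht hk] at hpp
  by_cases htA : t ∈ A
  · exact Or.inr (mul_mem (P.A_le_K htA) hk)
  by_cases hkA : k ∈ A
  · exact Or.inl (mul_mem ht (P.big.A_le hkA))
  exact absurd hpp (P.pair_ne ht htA hk hkA)

/-- An elementary group of order sixteen meeting `N_S(T)` outside `A` is `T` or `K`. -/
theorem elem_cases {E : Subgroup G} (hE : E ≤ (S : Subgroup G)) (hc : ∀ p ∈ E, ∀ q ∈ E, Commute p q)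
    (h16 : Nat.card E = 16) {z : G} (hzE : z ∈ E) (hzA : z ∉ A) (hzz : z * z = 1) (hzN : z ∈ Ns S x) :
    E = Cs S x ∨ E = Cs S w := by
  have key : ∀ {y : G}, IsMax S A y → Nat.card ↥(Cs S y) = 16 → z ∈ Cs S y → E = Cs S y := fun hy h16' hzy => by
    obtain ⟨-, e⟩ := P.big.two.max_of_mem hy hzy hzA hzz
    refine Subgroup.eq_of_le_of_card_ge (fun p hp => ?_) (by rw [h16', h16])
    rw [← e]
    exact mem_Cs.2 ⟨hE hp, hc p hp z hzE⟩
  rcases P.invol_cases hzN hzz with h | h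
  · exact Or.inl (key P.big.max P.big.card16 h)
  · exact Or.inr (key P.K_facts.1 P.K_facts.2.1 h)

end Dual

end Cfsg.Lib.Goldschmidt.RankTwo
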